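import Cfsg.Agent.GW.Eight.Linear.Values

/-!
# Gorenstein–Walter, `|S| ≥ 8`, linear characters: a character of small degree

A character of degree below twelve which is a combination of linear characters on `z U` makes `U`
abelian, and then the fixed points of `t` on `U` are normal in the group.
-/

set_option autoImplicit false
set_option linter.style.haveILetI false
set_option linter.unusedSectionVars false

namespace CfsgLib.GW.Eight.Ctx

open Cfsg Finset CfsgLib.DihPrincipal CfsgLib.GW CfsgLib.Block CfsgLib.Block.Chr CfsgLib.Char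
open CfsgLib.NormCyclic (Inv)
open CfsgLib.DGroup (conj_mem conj_mem' odd_orderOf)
open scoped ComplexConjugate Classical

universe u

variable {G : Type u} [Group G] [Fintype G] [Fact (Nat.Prime 2)] (C : Ctx G)

/-- In a dihedral group of order eight `s` exchanges `t` and `z t`. -/
theorem conj_s_t_lin (hn : C.n = 3) : C.s * C.t * C.s⁻¹ = C.z * C.t := by
  have hss : C.s * C.s = C.z := by rw [z, hn]; norm_num [sq]
  calc C.s * C.t * C.s⁻¹ = C.s * (C.t * C.s⁻¹) := by group
    _ = C.s * (C.s * C.t) := by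
        congr 1
        calc C.t * C.s⁻¹ = C.s * (C.s⁻¹ * C.t) * C.s⁻¹ := by group
          _ = _ := by rw [← C.t_mul_s]; group
    _ = _ := by rw [← mul_assoc, hss]

/-- A linear character of `U` is orthogonal to the other characters of `U`. -/
theorem inner_lin_eq_zero [Fintype (NU C)] {f : G → ℂ} (hf : IsLin C f) (θ : IrrCharacter (NU C))
    (hθ : (θ : NU C → ℂ) 1 ≠ 1) :
    classInner (fun n : NU C => f ((n : Hz C) : G)) (θ : NU C → ℂ) = 0 := by
  obtain ⟨φ, hφ⟩ := hf.exists_hom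
  let Λ : NU C →* ℂˣ := φ.comp
    { toFun := fun n : NU C => (⟨((n : Hz C) : G), n.2⟩ : C.U)
      map_one' := rfl, map_mul' := fun _ _ => rfl }
  let ψ' : IrrCharacter (NU C) := ⟨fun n => ((Λ n : ℂˣ) : ℂ), isIrrCharacter_ofHom Λ⟩
  have he : (ψ' : NU C → ℂ) = fun n : NU C => f ((n : Hz C) : G) := funext fun n => hφ _
  have h := classInner_irr ψ' θ
  rw [if_neg (fun e => hθ (by rw [← e]; exact congrArg Units.val (map_one Λ)))] at h
  rwa [he] at h

/-- An element `z` acts on an irreducible character of its centraliser by a sign. -/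
theorem z_sign [Fintype (Hz C)] (ξ : IrrCharacter (Hz C)) :
    ∃ ε : ℂ, (ε = 1 ∨ ε = -1) ∧ ∀ y : Hz C,
      (ξ : Hz C → ℂ) (⟨C.z, C.z_mem_H⟩ * y) = ε * (ξ : Hz C → ℂ) y := by
  set a' : Hz C := ⟨C.z, C.z_mem_H⟩
  have hcen : ∀ g : Hz C, g * a' * g⁻¹ = a' := fun g => Subtype.ext
    (mul_inv_eq_iff_eq_mul.2 (Subgroup.mem_centralizer_singleton_iff.1 g.2))
  let f : Hz C → ℂ := fun g => if g = a' then 1 else 0
  have hf : IsClassFunction (Hz C) f := fun g x => by
    simp only [f]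
    refine if_congr ⟨fun e => ?_, fun e => by rw [e, hcen]⟩ rfl rfl
    exact mul_left_cancel (mul_right_cancel (e.trans (hcen x).symm))
  have key : ∀ y : Hz C, (ξ : Hz C → ℂ) (a' * y) * (ξ : Hz C → ℂ) 1 =
      (ξ : Hz C → ℂ) a' * (ξ : Hz C → ℂ) y := by
    intro y
    have h := class_mul ξ hf (fun g => if g = y then 1 else 0)
    simp only [f, mul_ite, ite_mul, mul_one, mul_zero, one_mul, zero_mul, sum_ite_eq', mem_univ,
      if_true] at h
    simpa using h
  have h0 := irr_one_ne_zero ξ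
  refine ⟨(ξ : Hz C → ℂ) a' / (ξ : Hz C → ℂ) 1, ?_, fun y => by
    rw [div_mul_eq_mul_div, eq_div_iff h0]; exact key y⟩
  have h := key a'
  rw [show a' * a' = 1 from Subtype.ext C.inv_z.1] at h
  rcases mul_self_eq_mul_self_iff.1 h.symm with e | e
  · left; rw [e, div_self h0]
  · right; rw [e, neg_div, div_self h0]

variable {χ : IrrCharacter G}

/-- **A small character makes `U` abelian.** -/
theorem commute_of_small (hn : C.n = 3) (hd : charDegree (χ : G → ℂ) < 12)
    (hd1 : charDegree (χ : G → ℂ) ≠ 1) {f₀ f₁ f₂ : G → ℂ} (l₀ : IsLin C f₀) (l₁ : IsLin C f₁)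
    (l₂ : IsLin C f₂) {k₀ k₁ k₂ : ℂ}
    (hk : ∀ x ∈ C.U, (χ : G → ℂ) (C.z * x) = k₀ * f₀ x + k₁ * f₁ x + k₂ * f₂ x) :
    ∀ x ∈ C.U, ∀ y ∈ C.U, Commute x y := by
  obtain ⟨M, hM⟩ := exists_isPModular Nat.prime_two
  haveI : M.IsPrime := hM.2.1.isPrime
  haveI : Fintype (Hz C) := Fintype.ofFinite _
  haveI : Fintype (NU C) := Fintype.ofFinite _
  letI := irrFintype (G := Hz C)
  letI := irrFintype (G := NU C)
  have hcH := IsCharacter.restrict (isCharacter_irr χ) (Hz C)
  have hcN := IsCharacter.restrict hcH (NU C)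
  have hlin : ∀ θ : IrrCharacter (NU C),
      classInner (fun n : NU C => (χ : G → ℂ) ((n : Hz C) : G)) (θ : NU C → ℂ) ≠ 0 →
      (θ : NU C → ℂ) 1 = 1 := by
    intro θ hθ
    by_contra hθ1
    obtain ⟨hdθ, hkpos⟩ := irr_one θ
    set k := charDegree (θ : NU C → ℂ)
    have hkodd : ¬ 2 ∣ k := fun h => (C.theta_unit hM θ).1 (by
      rw [hdθ]; exact (memLocalIdeal_natCast_iff hM).2 h)
    have hk3 : 3 ≤ k := by
      rcases (show k = 1 ∨ 3 ≤ k by omega) with h | h
      · exact absurd (by rw [hdθ, h, Nat.cast_one]) hθ1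
      · exact h
    -- the decomposition over `C(z)`
    choose ε hε hεz using C.z_sign
    choose m hm using fun ξ : IrrCharacter (Hz C) => IsCharacter.exists_classInner_eq_natCast hcH ξ.2
    choose c hc using fun ξ : IrrCharacter (Hz C) =>
      IsCharacter.exists_classInner_eq_natCast (IsCharacter.restrict (isCharacter_irr ξ) (NU C)) θ.2
    have hexp : ∀ y : Hz C, (χ : G → ℂ) (y : G) =
        ∑ ξ : IrrCharacter (Hz C), (m ξ : ℂ) * (ξ : Hz C → ℂ) y := fun y => by
      rw [classFun_expand (IsCharacter.isClassFunction hcH) y]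
      exact sum_congr rfl fun ξ _ => by rw [hm ξ]
    have hc1 : classInner (fun n : NU C => (χ : G → ℂ) ((n : Hz C) : G)) (θ : NU C → ℂ) =
        ∑ ξ : IrrCharacter (Hz C), (m ξ : ℂ) * c ξ := by
      simp only [classInner, ← hc, hexp, sum_mul, mul_sum]
      rw [sum_comm]
      exact sum_congr rfl fun ξ _ => sum_congr rfl fun n _ => by ring
    have hc2 : ∑ ξ : IrrCharacter (Hz C), ε ξ * ((m ξ : ℂ) * c ξ) = 0 := by
      have h1 : classInner (fun n : NU C => (χ : G → ℂ) (C.z * ((n : Hz C) : G))) (θ : NU C → ℂ) =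
          ∑ ξ : IrrCharacter (Hz C), ε ξ * ((m ξ : ℂ) * c ξ) := by
        simp only [classInner, ← hc, mul_sum]
        rw [sum_comm]
        refine sum_congr rfl fun n _ => ?_
        rw [show C.z * ((n : Hz C) : G) = (((⟨C.z, C.z_mem_H⟩ : Hz C) * (n : Hz C) : Hz C) : G) from rfl,
          hexp, sum_mul, mul_sum]
        exact sum_congr rfl fun ξ _ => by rw [hεz]; ring
      rw [← h1]
      have e : ∀ n : NU C, (χ : G → ℂ) (C.z * ((n : Hz C) : G)) =
          k₀ * f₀ ((n : Hz C) : G) + k₁ * f₁ ((n : Hz C) : G) + k₂ * f₂ ((n : Hz C) : G) :=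
        fun n => hk _ n.2
      have z0 := C.inner_lin_eq_zero l₀ θ hθ1
      have z1 := C.inner_lin_eq_zero l₁ θ hθ1
      have z2 := C.inner_lin_eq_zero l₂ θ hθ1
      simp only [classInner] at z0 z1 z2 ⊢
      simp only [e, add_mul, mul_assoc, sum_add_distrib, ← mul_sum]
      linear_combination k₀ * z0 + k₁ * z1 + k₂ * z2
    set N := univ.filter (fun ξ : IrrCharacter (Hz C) => ε ξ = -1)
    set P' := univ.filter (fun ξ : IrrCharacter (Hz C) => ¬ ε ξ = -1)
    have hNP : ∑ ξ ∈ P', m ξ * c ξ = ∑ ξ ∈ N, m ξ * c ξ := by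
      rw [← sum_filter_add_sum_filter_not univ (fun ξ : IrrCharacter (Hz C) => ε ξ = -1),
        sum_congr rfl fun ξ hξ => show ε ξ * ((m ξ : ℂ) * c ξ) = -((m ξ : ℂ) * c ξ) by
          rw [(mem_filter.1 hξ).2, neg_one_mul],
        sum_congr rfl (s₁ := P') fun ξ hξ => show ε ξ * ((m ξ : ℂ) * c ξ) = (m ξ : ℂ) * c ξ by
          rw [(hε ξ).resolve_right (mem_filter.1 hξ).2, one_mul],
        sum_neg_distrib, neg_add_eq_zero] at hc2
      refine Nat.cast_injective (R := ℂ) ?_
      push_cast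
      exact hc2.symm
    set J := (inertia (G := Hz C) (θ : NU C → ℂ)).index with hJ
    have hdeg : ∀ ξ : IrrCharacter (Hz C), c ξ ≠ 0 →
        charDegree (ξ : Hz C → ℂ) = c ξ * J * k := by
      intro ξ hξ
      have h := degree_eq_mul (N := NU C) ξ.2 θ.2 (by rw [hc ξ]; exact_mod_cast hξ)
      rw [hc ξ, (irr_one ξ).1, hdθ] at h
      exact_mod_cast h
    obtain ⟨ξ, hξN, hξ0⟩ : ∃ ξ ∈ N, m ξ * c ξ ≠ 0 := by
      by_contra hall
      push Not at hall
      refine hθ ?_
      rw [hc1]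
      have h0 : ∑ ξ ∈ N, m ξ * c ξ = 0 := sum_eq_zero hall
      have hzero : ∑ ξ : IrrCharacter (Hz C), m ξ * c ξ = 0 := by
        rw [← sum_filter_add_sum_filter_not univ (fun ξ : IrrCharacter (Hz C) => ε ξ = -1)]
        show ∑ ξ ∈ N, m ξ * c ξ + ∑ ξ ∈ P', m ξ * c ξ = 0
        rw [hNP, h0]
      exact_mod_cast hzero
    -- the degree of a member with sign `-1` is even
    have heven : 2 ∣ charDegree (ξ : Hz C → ℂ) := by
      set t' : Hz C := ⟨C.t, C.t_mem_H⟩
      have ht0 : (ξ : Hz C → ℂ) t' = 0 := by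
        have hεξ := (mem_filter.1 hξN).2
        have h1 := hεz ξ t'
        rw [hεξ, neg_one_mul] at h1
        have hsc := isClassFunction_irr ξ t' (⟨C.s, C.s_mem_H⟩ : Hz C)
        rw [show (⟨C.s, C.s_mem_H⟩ : Hz C) * t' * (⟨C.s, C.s_mem_H⟩ : Hz C)⁻¹ =
          ⟨C.z, C.z_mem_H⟩ * t' from Subtype.ext (C.conj_s_t_lin hn), h1] at hsc
        linear_combination (-1 / 2 : ℂ) * hsc
      have hinv : Inv t' := ⟨Subtype.ext C.inv_t.1, fun e => C.inv_t.2 (congrArg Subtype.val e)⟩
      haveI : Fintype (Subgroup.zpowers t') := Fintype.ofFinite _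
      obtain ⟨j, hj⟩ := FrobeniusSylow.exists_restrict_mult (Subgroup.zpowers t') ξ 1
      simp only [MonoidHom.one_apply, Units.val_one, map_one, mul_one] at hj
      rw [Nat.card_zpowers, hinv.orderOf, ← sum_subtype ({1, t'} : Finset (Hz C)) (fun x => by
        simp only [mem_insert, mem_singleton]
        refine ⟨by rintro (rfl | rfl); exacts [one_mem _, Subgroup.mem_zpowers _], fun hx => ?_⟩
        obtain ⟨i, rfl⟩ := Subgroup.mem_zpowers_iff.1 hx
        rcases Int.even_or_odd' i with ⟨l, rfl | rfl⟩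
        · left; rw [zpow_mul, zpow_two, hinv.1, one_zpow]
        · right; rw [zpow_add, zpow_mul, zpow_two, hinv.1, one_zpow, one_mul, zpow_one])
        (fun u => (ξ : Hz C → ℂ) u), sum_pair hinv.2.symm, ht0, add_zero, (irr_one ξ).1] at hj
      exact ⟨j, by exact_mod_cast hj.symm⟩
    have hc0 : c ξ ≠ 0 := fun h => hξ0 (by rw [h, mul_zero])
    have h6 : 2 ≤ c ξ * J := by
      have hd' := hdeg ξ hc0
      have hpos := (irr_one ξ).2
      rw [hd'] at heven hpos
      rcases (Nat.prime_two.dvd_mul).1 heven with h | h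
      · exact Nat.le_of_dvd (Nat.pos_of_ne_zero fun h0 => by rw [h0] at hpos; simp at hpos) h
      · exact absurd h hkodd
    have hN6 : 2 ≤ (∑ ξ ∈ N, m ξ * c ξ) * J := by
      refine le_trans ?_ (Nat.mul_le_mul_right J (single_le_sum (fun ξ _ => Nat.zero_le (m ξ * c ξ)) hξN))
      rw [mul_assoc]
      exact le_trans h6 (Nat.le_mul_of_pos_left _ (Nat.pos_of_ne_zero fun h => hξ0 (by rw [h, zero_mul])))
    have hsum : charDegree (χ : G → ℂ) =
        ∑ ξ : IrrCharacter (Hz C), m ξ * charDegree (ξ : Hz C → ℂ) := by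
      have h := hexp 1
      simp only [Subgroup.coe_one, (irr_one χ).1, (irr_one _).1] at h
      exact_mod_cast h
    have hge : (∑ ξ : IrrCharacter (Hz C), m ξ * c ξ) * J * k ≤ charDegree (χ : G → ℂ) := by
      rw [hsum, sum_mul, sum_mul]
      refine sum_le_sum fun ξ _ => ?_
      by_cases h : c ξ = 0
      · rw [h]; simp
      · rw [hdeg ξ h]; exact le_of_eq (by ring)
    rw [← sum_filter_add_sum_filter_not univ (fun ξ : IrrCharacter (Hz C) => ε ξ = -1)] at hge
    change ((∑ ξ ∈ N, m ξ * c ξ) + ∑ ξ ∈ P', m ξ * c ξ) * J * k ≤ _ at hge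
    rw [hNP, ← two_mul] at hge
    nlinarith
  intro x hx y hy
  haveI := C.simple
  have hker : kerSubgroup (isCharacter_irr χ) = ⊥ := by
    refine ((kerSubgroup_normal (isCharacter_irr χ)).eq_bot_or_eq_top).resolve_right fun ht => ?_
    have hall : ∀ g : G, (χ : G → ℂ) g = (χ : G → ℂ) 1 := fun g =>
      (mem_kerSubgroup (isCharacter_irr χ) g).1 (ht ▸ Subgroup.mem_top g)
    have h := classInner_irr χ χ
    simp only [classInner, hall, (irr_one χ).1, Complex.conj_natCast, sum_const, card_univ,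
      nsmul_eq_mul, if_pos] at h
    rw [Nat.card_eq_fintype_card, inv_mul_cancel_left₀ (Nat.cast_ne_zero.2 Fintype.card_ne_zero)] at h
    exact hd1 (Nat.eq_one_of_mul_eq_one_right (by exact_mod_cast h))
  have hmem : x * y * x⁻¹ * y⁻¹ ∈ kerSubgroup (isCharacter_irr χ) := by
    rw [mem_kerSubgroup]
    have hcl := IsCharacter.isClassFunction hcN
    have e1 := classFun_expand hcl (C.toNU hx * C.toNU hy * (C.toNU hx)⁻¹ * (C.toNU hy)⁻¹)
    have e2 := classFun_expand hcl 1
    simp only [Subgroup.coe_mul, InvMemClass.coe_inv, Subgroup.coe_one] at e1 e2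
    rw [e1, e2]
    refine sum_congr rfl fun θ _ => ?_
    by_cases hθ : classInner (fun n : NU C => (χ : G → ℂ) ((n : Hz C) : G)) (θ : NU C → ℂ) = 0
    · rw [hθ, zero_mul, zero_mul]
    · obtain ⟨f, hf⟩ := IsCharacter.exists_hom (isCharacter_irr θ) (hlin θ hθ)
      congr 1
      rw [hf]
      simp only [map_mul, map_inv, map_one, mul_inv_cancel_comm, mul_inv_cancel]
  rw [hker, Subgroup.mem_bot, mul_inv_eq_one, mul_inv_eq_iff_eq_mul] at hmem
  exact hmem

/-- **An abelian `U` has no fixed points of `t`.** -/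
theorem D1_eq_bot_of_comm (hmax : IsCoatom C.H) (hn : C.n = 3)
    (hab : ∀ x ∈ C.U, ∀ y ∈ C.U, Commute x y) {r : G} (h1 : r * C.z * r⁻¹ = C.t)
    (h2 : r * C.t * r⁻¹ = C.z * C.t) : C.D1 = ⊥ := by
  have hnorm : ∀ g : G, (∀ d ∈ C.D1, g * d * g⁻¹ ∈ C.D1) →
      g ∈ Subgroup.normalizer (C.D1 : Set G) := fun g hg =>
    Subgroup.mem_normalizer_iff_map_conj_eq.2 (Subgroup.eq_of_le_of_card_ge (by
      rintro _ ⟨d, hd, rfl⟩; exact hg d hd)
      (Subgroup.card_map_of_injective (MulAut.conj g).injective).ge)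
  have hs : C.s ∈ Subgroup.normalizer (C.D1 : Set G) := by
    refine hnorm _ fun d hd => C.mem_D1.2 ⟨conj_mem C.s_norm_U (C.D1_le_U hd), ?_⟩
    have hdz : Commute d C.z := C.mem_H.1 (C.U_le_H (C.D1_le_U hd))
    have h := (Commute.conj_iff C.s).2 (hdz.mul_right (C.mem_D1.1 hd).2)
    rw [← conj_mul, C.conj_s_t_lin hn, (C.mem_H.1 C.s_mem_H).eq, mul_inv_cancel_right, ← mul_assoc,
      C.inv_z.1, one_mul] at h
    exact h
  have hHN : C.H ≤ Subgroup.normalizer (C.D1 : Set G) := by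
    intro h hh
    obtain ⟨w, hw, p, hp, rfl⟩ := C.exists_mul_P hh
    refine mul_mem (hnorm _ fun d hd => ?_) ?_
    · rwa [(hab w hw d (C.D1_le_U hd)).eq, mul_inv_cancel_right]
    · have ht : C.t ∈ Subgroup.normalizer (C.D1 : Set G) := hnorm _ fun d hd => by
        rwa [(C.mem_D1.1 hd).2.symm.eq, mul_inv_cancel_right]
      obtain ⟨i, rfl | rfl⟩ := C.exists_cases hp
      exacts [zpow_mem hs i, mul_mem (zpow_mem hs i) ht]
  have hr : r ∈ Subgroup.normalizer (C.D1 : Set G) :=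
    hnorm r fun d hd => C.conj_mem_D1 h1 (C.cycle_third h1 h2) hd
  have hnotH : r ∉ C.H := fun h => C.z_ne_t (by rw [← h1, (C.mem_H.1 h).eq, mul_inv_cancel_right])
  have htop : Subgroup.normalizer (C.D1 : Set G) = ⊤ := by
    rcases hHN.lt_or_eq with h | h
    · exact hmax.2 _ h
    · exact absurd (h ▸ hr) hnotH
  haveI := C.simple
  haveI : C.D1.Normal := Subgroup.normalizer_eq_top_iff.1 htop
  refine (‹C.D1.Normal›.eq_bot_or_eq_top).resolve_right fun h => C.H_ne_top ?_
  exact top_le_iff.1 (h ▸ (C.D1_le_U.trans C.U_le_H))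

end CfsgLib.GW.Eight.Ctx
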