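import Cfsg.Agent.GW.Eight.Linear.Evaluate
import Cfsg.Agent.GW.Eight.Linear.Small
import Cfsg.Agent.GW.Eight.BadLin
import Cfsg.Agent.GW.Eight.Final

/-!
# Gorenstein–Walter, `|S| ≥ 8`: the theorem on linear characters

No linear character of `U`, trivial on `U0`, is fixed on `D2` by a cycle of `V2` and, on `D1`, either
fixed by a cycle of `V1` or, for `|S| = 8`, carried by it to one trivial on `D1 ∩ U1`.
-/

set_option autoImplicit false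
set_option linter.style.haveILetI false
set_option linter.unusedSectionVars false

namespace CfsgLib.GW.Eight

open Cfsg Subgroup CfsgLib.GW CfsgLib.Block CfsgLib.Block.Chr CfsgLib.Char CfsgLib.DihPrincipal
open CfsgLib.DGroup (conj_mem)
open CfsgLib.GW.CaseI (conj_invol_eq invGen_le)
open scoped Classical

universe u

variable {G : Type u} [Group G] [Fintype G] [Fact (Nat.Prime 2)]

namespace Ctx

variable (C : Ctx G)

/-- **The theorem on linear characters.** -/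
theorem false_of_linear (hmax : IsCoatom C.H) (hD1 : C.D1 ≠ ⊥) (l : ↥C.U →* ℂˣ) (hl : l ≠ 1)
    (hl0 : ∀ x : ↥C.U, (x : G) ∈ C.U0 → l x = 1)
    (h2 : ∃ r : G, r * C.z * r⁻¹ = C.s * C.t ∧ r * (C.s * C.t) * r⁻¹ = C.z * (C.s * C.t) ∧
      ∀ x y : ↥C.U, (x : G) ∈ C.D2 → r * x * r⁻¹ = y → l y = l x)
    (hcase : (∃ r : G, r * C.z * r⁻¹ = C.t ∧ r * C.t * r⁻¹ = C.z * C.t ∧
        ∀ x y : ↥C.U, (x : G) ∈ C.D1 → r * x * r⁻¹ = y → l y = l x) ∨
      (C.n = 3 ∧ ∃ r : G, r * C.z * r⁻¹ = C.t ∧ r * C.t * r⁻¹ = C.z * C.t ∧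
        ∀ x y : ↥C.U, (x : G) ∈ C.D1 → (x : G) ∈ C.U1 → r * x * r⁻¹ = y → l y = 1)) :
    False := by
  letI := irrFintype (G := G)
  let lam : G → ℂ := fun x => if h : x ∈ C.U then ((l ⟨x, h⟩ : ℂˣ) : ℂ) else 0
  have hlam : ∀ {x : G} (h : x ∈ C.U), lam x = ((l ⟨x, h⟩ : ℂˣ) : ℂ) := fun h => dif_pos h
  have hlin : IsLin C lam := by
    refine ⟨?_, fun {x y} hx hy => ?_⟩
    · rw [hlam (one_mem _)]
      exact congrArg Units.val (map_one l)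
    · rw [hlam (mul_mem hx hy), hlam hx, hlam hy, ← Units.val_mul, ← map_mul]
      rfl
  have hlin' : IsLin C.flip lam := ⟨hlin.one, fun hx hy => hlin.mul hx hy⟩
  have hU1 : ∀ y ∈ C.U1, lam y = 1 := fun y hy => by
    have hyU : y ∈ C.U := (invGen_le C.t C.U) hy
    rw [hlam hyU, hl0 _ ((le_sup_left : C.U1 ≤ C.U0) hy), Units.val_one]
  have hU2 : ∀ y ∈ C.U2, lam y = 1 := fun y hy => by
    have hyU : y ∈ C.U := (invGen_le (C.s * C.t) C.U) hy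
    rw [hlam hyU, hl0 _ ((le_sup_right : C.U2 ≤ C.U0) hy), Units.val_one]
  have hfix1 : ∀ x ∈ C.U, lam (C.t * x * C.t) = lam x := fun x hx => C.fix_of_trivial hlin hU1 hx
  have hfix2 : ∀ x ∈ C.U, lam (C.s * C.t * x * (C.s * C.t)) = lam x := fun x hx =>
    C.flip.fix_of_trivial hlin' hU2 hx
  have hinv : ∀ h ∈ C.H, ∀ x ∈ C.U, lam (h * x * h⁻¹) = lam x := by
    refine C.inv_of_gen hlin hfix1 fun x hx => ?_
    have htx : C.t * x * C.t ∈ C.U := by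
      rw [← conj_invol_eq C.inv_t.1]; exact conj_mem C.t_norm_U hx
    have hs : C.s * x * C.s⁻¹ = C.s * C.t * (C.t * x * C.t) * (C.s * C.t) := by
      calc C.s * x * C.s⁻¹ = C.s * C.t * (C.t⁻¹ * x * C.t⁻¹⁻¹) * (C.s * C.t)⁻¹ := by group
        _ = _ := by rw [inv_inv, C.inv_t.inv_eq, C.inv_st.inv_eq]
    rw [hs, hfix2 _ htx, hfix1 x hx]
  have hne : ¬ ∀ x ∈ C.U, lam x = 1 := fun h => hl (MonoidHom.ext fun x => Units.ext (by
    have := h x x.2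
    rw [hlam x.2] at this
    simpa using this))
  have hconj : ∀ {r d : G}, d ∈ C.U → r * d * r⁻¹ ∈ C.U →
      (∀ hd : d ∈ C.U, ∀ hy : r * d * r⁻¹ ∈ C.U, l ⟨_, hy⟩ = l ⟨d, hd⟩) →
      lam (r * d * r⁻¹) = lam d := fun hd hy h => by
    rw [hlam hd, hlam hy, h hd hy]
  obtain ⟨r₂, e1, e2, e3⟩ := h2
  have hD2 : ∀ d ∈ C.D2, lam (r₂ * d * r₂⁻¹) = lam d := fun d hd =>
    hconj (C.D2_le_U hd) (C.D2_le_U (C.flip.conj_mem_D1 e1 (C.flip.cycle_third e1 e2) hd))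
      fun hd' hy => e3 ⟨d, hd'⟩ ⟨_, hy⟩ hd rfl
  let T₂ : Twist C.flip lam :=
    Twist.const hlin' (fun h hh x hx => hinv h hh x hx) r₂ e1 e2 hD2
  have hT₂ : ∀ x ∈ C.U, T₂.nu x = lam x ∧ T₂.nu' x = lam x := fun _ _ => ⟨rfl, rfl⟩
  obtain ⟨T⟩ : Nonempty (Twist C lam) := by
    rcases hcase with ⟨r, f1, f2, f3⟩ | ⟨hn, r, f1, f2, f3⟩
    · exact ⟨Twist.const hlin hinv r f1 f2 fun d hd =>
        hconj (C.D1_le_U hd) (C.D1_le_U (C.conj_mem_D1 f1 (C.cycle_third f1 f2) hd))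
          fun hd' hy => f3 ⟨d, hd'⟩ ⟨_, hy⟩ hd rfl⟩
    · refine C.exists_twist hn hlin hinv r f1 f2 fun d hd hd1 => ?_
      have hy : r * d * r⁻¹ ∈ C.U := C.D1_le_U (C.conj_mem_D1 f1 (C.cycle_third f1 f2) hd)
      rw [hlam hy, f3 ⟨d, C.D1_le_U hd⟩ ⟨_, hy⟩ hd hd1 rfl, Units.val_one]
  obtain ⟨hn, χ, hd, hd1, f₀, f₁, f₂, l₀, l₁, l₂, k₀, k₁, k₂, hk⟩ := T.small_char T₂ hT₂ hne
  exact hD1 (C.D1_eq_bot_of_comm hmax hn (C.commute_of_small hn hd hd1 l₀ l₁ l₂ hk) T.hz T.ht)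

end Ctx

/-- The theorem on linear characters, one side fixed. -/
theorem no_linear : NoLinear G := fun E hn hmax hD1 _ l hl hl0 h2 h1 =>
  E.false_of_linear hmax hD1 l hl hl0 h2 (Or.inr ⟨hn, h1⟩)

/-- The theorem on linear characters, both sides fixed. -/
theorem no_linear_fixed : NoLinearFixed G := fun E hmax hD1 _ l hl hl0 h2 h1 =>
  E.false_of_linear hmax hD1 l hl hl0 h2 (Or.inl h1)

end CfsgLib.GW.Eight
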