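import Mathlib

/-!
# Gorenstein–Walter, `|S| ≥ 8`, linear characters: the arithmetic of the pair counts

`x` and `δ` come from the principal block, `A` and `B` from the two centres of the vectors.
-/

set_option autoImplicit false

namespace CfsgLib.GW.Eight.LinArith

/-- The data of the principal block. -/
structure Prin (h x δ : ℤ) : Prop where
  sign : δ = 1 ∨ δ = -1
  dvd : 4 * h ∣ x - δ
  big : 7 ≤ x
  mod : (8 : ℤ) ∣ x - δ

theorem sq_dvd_of_odd {K m N : ℤ} (hK : Odd K) {k : ℕ} (hm : m = 2 ^ k) (h : m ^ 2 ∣ K * N ^ 2) :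
    m ∣ N := by
  have hc : IsCoprime (m ^ 2) K := by
    subst hm
    refine IsCoprime.pow_left (IsCoprime.pow_left ?_)
    obtain ⟨j, rfl⟩ := hK
    exact ⟨-j, 1, by ring⟩
  exact (Int.pow_dvd_pow_iff two_ne_zero).1 (hc.dvd_of_dvd_mul_left h)

/-- The constraints from the principal block. -/
theorem prin {K m : ℕ} {a b : ℕ} (hm : 1 ≤ m) (hK : Odd K) (ha : Odd a) (hb : Odd b) {x δ : ℤ}
    (hx : 0 < x) (hδ : δ = 1 ∨ δ = -1) (hxδ : x + δ ≠ 0)
    (h : (K : ℤ) * (x - δ) ^ 2 = 2 * (2 ^ m : ℤ) ^ 2 * ((a : ℤ) + b) ^ 2 * (x * (x + δ))) :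
    Prin (2 ^ m) x δ := by
  have hKZ : Odd (K : ℤ) := by exact_mod_cast hK
  obtain ⟨c, hc⟩ : (2 : ℤ) ∣ (a : ℤ) + b := by
    obtain ⟨i, rfl⟩ := ha; obtain ⟨j, rfl⟩ := hb
    exact ⟨i + j + 1, by push_cast; ring⟩
  have hne : x - δ ≠ 0 := by
    intro e
    rw [e, zero_pow two_ne_zero, mul_zero, eq_comm] at h
    have hab : (a : ℤ) + b ≠ 0 := by have := ha.pos; omega
    simp only [mul_eq_zero, pow_eq_zero_iff two_ne_zero] at h
    rcases h with ((h | h) | h) | h | h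
    exacts [two_ne_zero h, (pow_ne_zero _ two_ne_zero) h, hab h, hx.ne' h, hxδ h]
  have h2 : (2 : ℤ) ∣ x - δ := by
    have : (2 : ℤ) ∣ (K : ℤ) * (x - δ) ^ 2 := ⟨(2 ^ m : ℤ) ^ 2 * ((a : ℤ) + b) ^ 2 * (x * (x + δ)),
      by rw [h]; ring⟩
    rcases Int.prime_two.dvd_mul.1 this with h' | h'
    · exact absurd (even_iff_two_dvd.2 h') (Int.not_even_iff_odd.2 hKZ)
    · exact Int.prime_two.dvd_of_dvd_pow h'
  obtain ⟨d, hd⟩ : (2 : ℤ) ∣ x + δ := by omega
  have hdvd : 4 * (2 ^ m : ℤ) ∣ x - δ := by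
    refine sq_dvd_of_odd hKZ (k := m + 2) (by ring) ⟨c ^ 2 * x * d, ?_⟩
    rw [h, hc, hd]; ring
  have h8 : (8 : ℤ) ∣ x - δ := by
    refine Dvd.dvd.trans ?_ hdvd
    obtain ⟨j, rfl⟩ := Nat.exists_eq_add_of_le hm
    exact ⟨2 ^ j, by ring⟩
  refine ⟨hδ, hdvd, ?_, h8⟩
  rcases hδ with rfl | rfl <;> omega

variable {h x δ : ℤ}

/-- The range of the ratio. -/
theorem Prin.bounds (P : Prin h x δ) :
    32 * (x * (x + δ)) ≤ 45 * (x - δ) ^ 2 ∧ 21 * (x - δ) ^ 2 ≤ 32 * (x * (x + δ)) := by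
  have hx := P.big
  have h8 := P.mod
  rcases P.sign with rfl | rfl
  · have h9 : 9 ≤ x := by omega
    constructor <;> nlinarith
  · constructor <;> nlinarith

theorem Prin.bounds' (P : Prin h x δ) {N D : ℤ} (h : (x - δ) ^ 2 * D = N * (x * (x + δ))) (hD : 0 ≤ D) :
    32 * D ≤ 45 * N ∧ 21 * N ≤ 32 * D := by
  have hpos : 0 < x * (x + δ) := by
    have := P.big; rcases P.sign with rfl | rfl <;> nlinarith
  obtain ⟨b1, b2⟩ := P.bounds
  constructor
  · refine le_of_mul_le_mul_right ?_ hpos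
    nlinarith [mul_le_mul_of_nonneg_left b1 hD]
  · refine le_of_mul_le_mul_right ?_ hpos
    nlinarith [mul_le_mul_of_nonneg_left b2 hD]

/-- No `x` between two consecutive values below one. -/
theorem Prin.gap_pos (P : Prin h x δ) {N D x₀ : ℤ} (h : (x - δ) ^ 2 * D = N * (x * (x + δ)))
    (hmod : (8 : ℤ) ∣ x₀ - 1) (hx₀ : 1 ≤ x₀) (hD : 0 < D) (hN : N < D)
    (hlo : (x₀ - 1) ^ 2 * D < N * (x₀ * (x₀ + 1)))
    (hhi : N * ((x₀ + 8) * (x₀ + 9)) < (x₀ + 7) ^ 2 * D) : False := by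
  have hx := P.big
  rcases P.sign with rfl | rfl
  · rcases le_or_gt x x₀ with hle | hgt
    · have key : (x - 1) ^ 2 * (x₀ * (x₀ + 1)) ≤ (x₀ - 1) ^ 2 * (x * (x + 1)) := by
        nlinarith [mul_nonneg (sub_nonneg.2 hle) (show 0 ≤ 3 * x * x₀ - x - x₀ - 1 by nlinarith)]
      have h1 := mul_le_mul_of_nonneg_right key hD.le
      have h2 := mul_lt_mul_of_pos_right hlo (show 0 < x * (x + 1) by nlinarith)
      nlinarith
    · have h8 := P.mod
      have hge : x₀ + 8 ≤ x := by omega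
      have key : (x₀ + 7) ^ 2 * (x * (x + 1)) ≤ (x - 1) ^ 2 * ((x₀ + 8) * (x₀ + 9)) := by
        nlinarith [mul_nonneg (sub_nonneg.2 hge)
          (show 0 ≤ 3 * x * (x₀ + 8) - x - (x₀ + 8) - 1 by nlinarith)]
      have h1 := mul_le_mul_of_nonneg_right key hD.le
      have h2 := mul_lt_mul_of_pos_right hhi (show 0 < x * (x + 1) by nlinarith)
      nlinarith
  · have h2 := mul_lt_mul_of_pos_right hN (show 0 < x * (x + -1) by nlinarith)
    nlinarith

/-- No `x` between two consecutive values above one. -/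
theorem Prin.gap_neg (P : Prin h x δ) {N D x₀ : ℤ} (h : (x - δ) ^ 2 * D = N * (x * (x + δ)))
    (hmod : (8 : ℤ) ∣ x₀ + 1) (hx₀ : 7 ≤ x₀) (hD : 0 < D) (hN : D < N)
    (hhi : N * (x₀ * (x₀ - 1)) < (x₀ + 1) ^ 2 * D)
    (hlo : (x₀ + 9) ^ 2 * D < N * ((x₀ + 8) * (x₀ + 7))) : False := by
  have hx := P.big
  rcases P.sign with rfl | rfl
  · have h2 := mul_lt_mul_of_pos_right hN (show 0 < x * (x + 1) by nlinarith)
    nlinarith
  · rcases le_or_gt x x₀ with hle | hgt
    · have key : (x₀ + 1) ^ 2 * (x * (x - 1)) ≤ (x + 1) ^ 2 * (x₀ * (x₀ - 1)) := by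
        nlinarith [mul_nonneg (sub_nonneg.2 hle) (show 0 ≤ 3 * x * x₀ + x + x₀ - 1 by nlinarith)]
      have h1 := mul_le_mul_of_nonneg_right key hD.le
      have h2 := mul_lt_mul_of_pos_right hhi (show 0 < x * (x + -1) by nlinarith)
      nlinarith
    · have h8 := P.mod
      have hge : x₀ + 8 ≤ x := by omega
      have key : (x + 1) ^ 2 * ((x₀ + 8) * (x₀ + 7)) ≤ (x₀ + 9) ^ 2 * (x * (x - 1)) := by
        nlinarith [mul_nonneg (sub_nonneg.2 hge)
          (show 0 ≤ 3 * x * (x₀ + 8) + x + (x₀ + 8) - 1 by nlinarith)]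
      have h1 := mul_le_mul_of_nonneg_right key hD.le
      have h2 := mul_lt_mul_of_pos_right hlo (show 0 < x * (x + -1) by nlinarith)
      nlinarith

theorem Prin.eq_nine (P : Prin h x δ) (h : (x - δ) ^ 2 * 45 = 32 * (x * (x + δ))) : x = 9 ∧ δ = 1 := by
  have hx := P.big
  rcases P.sign with rfl | rfl
  · refine ⟨?_, rfl⟩
    have : (x - 9) * (13 * x - 5) = 0 := by linear_combination h
    rcases mul_eq_zero.1 this with h' | h' <;> omega
  · nlinarith

/-- Eliminating the number of conjugates. -/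
theorem eliminate {K S N D P Q : ℤ} (hK : K ≠ 0) (h1 : K * N = S * D) (h2 : K * P = S * Q) :
    P * D = N * Q := mul_left_cancel₀ hK (by linear_combination D * h2 - Q * h1)

/-- **Both sides fixed, generic vectors.** -/
theorem fixed_gen (P : Prin h x δ) {A B : ℤ} (hA : A % 4 = 1) (hB : B % 4 = 1) (hA1 : A ≠ 1)
    (hB1 : B ≠ 1) (hA0 : A ≠ -1) (hB0 : B ≠ -1)
    (hD : 0 < A * B * (A + B))
    (he : (x - δ) ^ 2 * (A * B * (A + B)) = (A - B) ^ 2 * (x * (x + δ))) : x = 9 ∧ δ = 1 := by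
  have key : ∀ A B : ℤ, A % 4 = 1 → B % 4 = 1 → A ≠ 1 → 0 < A → B < 0 →
      0 < A * B * (A + B) →
      (x - δ) ^ 2 * (A * B * (A + B)) = (A - B) ^ 2 * (x * (x + δ)) → x = 9 ∧ δ = 1 := by
    intro A B hA hB hA1 hA0 hB0 hD he
    obtain ⟨hlo, hhi⟩ := P.bounds' he hD.le
    have hA5 : 5 ≤ A := by omega
    have hS0 : A + B < 0 := by
      by_contra hc
      nlinarith [mul_nonneg (mul_nonneg hA0.le (neg_nonneg.2 hB0.le)) (not_lt.1 hc)]
    obtain ⟨S, hS⟩ : ∃ S, B = -(A + S) := ⟨-(A + B), by ring⟩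
    subst hS
    have hcases : S = 2 ∨ S = 6 ∨ 10 ≤ S := by omega
    rcases hcases with rfl | rfl | h10
    · nlinarith
    · have hA9 : A ≤ 9 := by nlinarith
      rcases (show A = 5 ∨ A = 9 by omega) with rfl | rfl
      · exact (P.gap_pos he (x₀ := 9) (by norm_num) (by norm_num) (by norm_num) (by norm_num)
          (by norm_num) (by norm_num)).elim
      · refine P.eq_nine ?_
        norm_num at he
        linarith
    · exfalso
      nlinarith [mul_nonneg (mul_nonneg (sq_nonneg A) (show (0 : ℤ) ≤ 1 by norm_num)) (sub_nonneg.2 h10),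
        mul_nonneg (mul_nonneg (sub_nonneg.2 hA5) (show (0 : ℤ) ≤ S by linarith)) (show (0:ℤ) ≤ S by linarith),
        mul_nonneg (mul_nonneg (sub_nonneg.2 hA5) hA0.le) (show (0:ℤ) ≤ S by linarith),
        mul_nonneg (mul_nonneg hA0.le (show (0:ℤ) ≤ S by linarith)) (sub_nonneg.2 h10)]
  rcases lt_trichotomy A 0 with hAn | hAz | hAp
  · rcases lt_trichotomy B 0 with hBn | hBz | hBp
    · exfalso
      nlinarith [mul_pos_of_neg_of_neg hAn hBn]
    · omega
    · refine key B A hB hA hB1 hBp hAn ?_ ?_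
      · linarith [show B * A * (B + A) = A * B * (A + B) by ring]
      · linear_combination he
  · omega
  · rcases lt_trichotomy B 0 with hBn | hBz | hBp
    · exact key A B hA hB hA1 hAp hBn hD he
    · omega
    · exfalso
      obtain ⟨hlo, -⟩ := P.bounds' he hD.le
      have hA5 : 5 ≤ A := by omega
      have hB5 : 5 ≤ B := by omega
      nlinarith [mul_nonneg (mul_nonneg hAp.le (sub_nonneg.2 hB5)) hAp.le,
        mul_nonneg (mul_nonneg (sub_nonneg.2 hA5) hBp.le) hBp.le, mul_pos hAp hBp]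

/-- **Both sides fixed, the first configuration with five supporters.** -/
theorem fixed_exA (P : Prin h x δ) {E : ℤ} (hE : E % 4 = 3) (hE1 : E ≠ -1)
    (hD : E < 0) (he : (x - δ) ^ 2 * (3 * -E) = 8 * (x * (x + δ))) : False := by
  obtain ⟨hlo, -⟩ := P.bounds' he (by omega)
  omega

/-- **Both sides fixed, the second configuration with five supporters.** -/
theorem fixed_exB (P : Prin h x δ) {E : ℤ} (hE : E % 4 = 3)
    (hD : 0 < E) (he : (x - δ) ^ 2 * E = 8 * (x * (x + δ))) : False := by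
  obtain ⟨hlo, hhi⟩ := P.bounds' he (by omega)
  rcases (show E = 7 ∨ E = 11 by omega) with rfl | rfl
  · exact P.gap_neg he (x₀ := 15) (by norm_num) (by norm_num) (by norm_num) (by norm_num)
      (by norm_num) (by norm_num)
  · exact P.gap_pos he (x₀ := 9) (by norm_num) (by norm_num) (by norm_num) (by norm_num)
      (by norm_num) (by norm_num)

/-- **One side moved.** -/
theorem moved_gen (P : Prin h x δ) {A B : ℤ} (hA : A % 4 = 3) (hB : B % 4 = 3)
    (h8 : (8 : ℤ) ∣ A + 3 * B) (hD : 0 < A * B * (A + B))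
    (hG : 2 * (A + 3 * B) ^ 2 < 25 * ((B - A) * (A + B)))
    (he : (x - δ) ^ 2 * (A * B * (A + B)) = (A + 3 * B) ^ 2 * (x * (x + δ))) :
    (|A| < 12 ∨ |A + B| < 12) ∨ x = 9 ∧ δ = 1 := by
  have hA0 : A ≠ 0 := by omega
  have hB0 : B ≠ 0 := by omega
  rcases lt_or_gt_of_ne hA0 with hAn | hAp
  · exfalso
    rcases lt_or_gt_of_ne hB0 with hBn | hBp
    · nlinarith [mul_pos_of_neg_of_neg hAn hBn]
    · have : A + B < 0 := by
        by_contra hc
        nlinarith [mul_nonneg (mul_nonneg (neg_nonneg.2 hAn.le) hBp.le) (not_lt.1 hc)]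
      have : 0 < B - A := by linarith
      nlinarith [sq_nonneg (A + 3 * B)]
  by_cases h11 : A ≤ 11
  · exact Or.inl (Or.inl (by rw [abs_of_pos hAp]; omega))
  have h15 : 15 ≤ A := by omega
  obtain ⟨hlo, hhi⟩ := P.bounds' he hD.le
  rcases lt_or_gt_of_ne hB0 with hBn | hBp
  · obtain ⟨b, rfl⟩ : ∃ b, B = -b := ⟨-B, by ring⟩
    have hAb : A < b := by
      by_contra hc
      nlinarith [mul_nonneg (mul_nonneg hAp.le (show (0 : ℤ) ≤ b by linarith)) (sub_nonneg.2 (not_lt.1 hc))]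
    have h79 : 9 * A < 7 * b := by nlinarith
    have hA31 : A ≤ 31 := by
      by_contra hc
      have hA35 : 35 ≤ A := by omega
      obtain ⟨S, rfl⟩ : ∃ S, b = A + S := ⟨b - A, by ring⟩
      have hS10 : 10 ≤ S := by omega
      have hS : 2 * A ≤ 7 * S := by omega
      have hS0 : 0 ≤ S := by omega
      nlinarith [mul_nonneg (mul_nonneg hAp.le hAp.le) (sub_nonneg.2 hS10),
        mul_nonneg (mul_nonneg (sub_nonneg.2 hA35) hS0) hS0,
        mul_nonneg (mul_nonneg (sub_nonneg.2 hA35) hAp.le) hS0,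
        mul_nonneg (sub_nonneg.2 hS) hS0]
    have hb51 : b ≤ 51 := by
      interval_cases A <;> first | omega | nlinarith
    interval_cases A <;> first | omega | skip
    all_goals interval_cases b <;> first | omega | skip
    all_goals first
      | (refine Or.inl (Or.inr ?_); norm_num; done)
      | (refine Or.inr (P.eq_nine ?_); norm_num at he ⊢; linarith)
      | (exfalso; norm_num at hlo; done)
      | (refine (P.gap_pos he (x₀ := 9) ?_ ?_ ?_ ?_ ?_ ?_).elim <;> norm_num; done)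
      | (refine (P.gap_pos he (x₀ := 17) ?_ ?_ ?_ ?_ ?_ ?_).elim <;> norm_num; done)
      | (refine (P.gap_neg he (x₀ := 31) ?_ ?_ ?_ ?_ ?_ ?_).elim <;> norm_num; done)
  · exfalso
    have hAB : A < B := by nlinarith [sq_nonneg (A + 3 * B)]
    nlinarith [mul_nonneg (mul_nonneg hAp.le hAp.le) (show (0 : ℤ) ≤ B - 16 by omega),
      mul_nonneg (mul_nonneg (sub_nonneg.2 h15) hBp.le) hBp.le,
      mul_nonneg (mul_nonneg (sub_nonneg.2 h15) hAp.le) hBp.le, mul_pos hAp hBp]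

end CfsgLib.GW.Eight.LinArith
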