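import Cfsg.Agent.GW.Eight.Refl
import Cfsg.Agent.Char.Linear
import Cfsg.Agent.Char.Values
import Cfsg.Agent.Blocks.CharExtra

/-!
# Gorenstein–Walter, `|S| ≥ 8`, linear characters: linear characters of `U` as functions

A linear character of `U` is handled as a function on `G` which is multiplicative on `U`.
-/

set_option autoImplicit false
set_option linter.style.haveILetI false
set_option linter.unusedSectionVars false

namespace CfsgLib.GW.Eight.Ctx

open Subgroup Finset CfsgLib.DihPrincipal CfsgLib.GW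
open CfsgLib.NormCyclic (Inv)
open CfsgLib.DGroup (conj_mem conj_mem' odd_orderOf)
open scoped ComplexConjugate Classical

universe u

variable {G : Type u} [Group G] [Fintype G] [Fact (Nat.Prime 2)] (C : Ctx G)

/-- A subgroup as a finite set. -/
noncomputable def fin (S : Subgroup G) : Finset G := univ.filter (· ∈ S)

theorem mem_fin {S : Subgroup G} {x : G} : x ∈ fin S ↔ x ∈ S := by simp [fin]

theorem card_fin (S : Subgroup G) : (fin S).card = Nat.card S := by
  rw [fin, Nat.card_eq_fintype_card, Fintype.card_subtype]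

theorem sum_fin_coe (S : Subgroup G) [Fintype S] (f : G → ℂ) : ∑ x : S, f x = ∑ x ∈ fin S, f x :=
  (sum_subtype (fin S) (fun _ => mem_fin) f).symm

/-- A function which is multiplicative on `U`. -/
structure IsLin (C : Ctx G) (f : G → ℂ) : Prop where
  one : f 1 = 1
  mul : ∀ {x y : G}, x ∈ C.U → y ∈ C.U → f (x * y) = f x * f y

namespace IsLin

variable {C} {f g : G → ℂ} (hf : IsLin C f)
include hf

theorem inv_mul {x : G} (hx : x ∈ C.U) : f x⁻¹ * f x = 1 := by
  rw [← hf.mul (inv_mem hx) hx, inv_mul_cancel, hf.one]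

theorem ne_zero {x : G} (hx : x ∈ C.U) : f x ≠ 0 := fun h => by
  have := hf.inv_mul hx
  rw [h, mul_zero] at this
  exact zero_ne_one this

theorem pow {x : G} (hx : x ∈ C.U) (k : ℕ) : f (x ^ k) = f x ^ k := by
  induction k with
  | zero => rw [pow_zero, pow_zero, hf.one]
  | succ k ih => rw [pow_succ, pow_succ, hf.mul (pow_mem hx k) hx, ih]

theorem pow_orderOf {x : G} (hx : x ∈ C.U) : f x ^ orderOf x = 1 := by
  rw [← hf.pow hx, pow_orderOf_eq_one, hf.one]

theorem isIntegral {x : G} (hx : x ∈ C.U) : IsIntegral ℤ (f x) :=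
  IsIntegral.of_pow (orderOf_pos x) (by rw [hf.pow_orderOf hx]; exact isIntegral_one)

theorem conj_eq {x : G} (hx : x ∈ C.U) : conj (f x) = f x⁻¹ := by
  have hn : ‖f x‖ = 1 := by
    have h := congrArg (‖·‖) (hf.pow_orderOf hx)
    simp only [norm_pow, norm_one] at h
    exact (pow_eq_one_iff_of_nonneg (norm_nonneg _) (orderOf_pos x).ne').1 h
  rw [← Complex.inv_eq_conj hn, eq_comm]
  exact eq_inv_of_mul_eq_one_left (hf.inv_mul hx)

theorem conj_apply {w x : G} (hw : w ∈ C.U) (hx : x ∈ C.U) : f (w * x * w⁻¹) = f x := by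
  rw [hf.mul (mul_mem hw hx) (inv_mem hw), hf.mul hw hx, mul_right_comm, mul_comm (f w),
    hf.inv_mul hw, one_mul]

theorem eq_one_of_sq {x : G} (hx : x ∈ C.U) (h : f x * f x = 1) : f x = 1 := by
  obtain ⟨k, hk⟩ := odd_orderOf C.odd_U hx
  have h1 := hf.pow_orderOf hx
  rwa [hk, pow_succ, pow_mul, sq, h, one_pow, one_mul] at h1

/-- As a homomorphism. -/
theorem exists_hom : ∃ φ : C.U →* ℂˣ, ∀ x : C.U, ((φ x : ℂˣ) : ℂ) = f x :=
  ⟨MonoidHom.toHomUnits
    { toFun := fun x : C.U => f x, map_one' := hf.one, map_mul' := fun x y => hf.mul x.2 y.2 },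
    fun _ => rfl⟩

/-- Orthogonality on a subgroup of `U`. -/
theorem sum_mul (hg : IsLin C g) {S : Subgroup G} (hS : S ≤ C.U) :
    ∑ x ∈ fin S, f x⁻¹ * g x =
      if ∀ x ∈ S, f x = g x then (Nat.card S : ℂ) else 0 := by
  split_ifs with h
  · rw [sum_congr rfl fun x hx => show f x⁻¹ * g x = 1 by
      rw [← h x (mem_fin.1 hx), hf.inv_mul (hS (mem_fin.1 hx))], sum_const, card_fin, nsmul_one]
  · push Not at h
    obtain ⟨a, ha, hne⟩ := h
    have he : ∑ x ∈ fin S, f x⁻¹ * g x =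
        f a⁻¹ * g a * ∑ x ∈ fin S, f x⁻¹ * g x := by
      rw [Finset.mul_sum]
      refine (sum_bij (fun x _ => a * x) (fun x hx => mem_fin.2 (mul_mem ha (mem_fin.1 hx)))
        (fun x _ y _ e => mul_left_cancel e) (fun x hx => ?_) fun x hx => ?_).symm
      · exact ⟨a⁻¹ * x, mem_fin.2 (mul_mem (inv_mem ha) (mem_fin.1 hx)), mul_inv_cancel_left a x⟩
      · have hx' := hS (mem_fin.1 hx)
        rw [_root_.mul_inv_rev, hf.mul (inv_mem hx') (inv_mem (hS ha)), hg.mul (hS ha) hx']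
        ring
    have h1 : f a⁻¹ * g a - 1 ≠ 0 := fun e => hne (by
      calc f a = f a * (f a⁻¹ * g a) := by rw [sub_eq_zero.1 e, mul_one]
        _ = g a := by rw [← mul_assoc, mul_comm (f a), hf.inv_mul (hS ha), one_mul])
    refine (mul_eq_zero.1 (?_ : (f a⁻¹ * g a - 1) * ∑ x ∈ fin S, f x⁻¹ * g x = 0)).resolve_left h1
    linear_combination -he

theorem comp_conj {h : G} (hh : h ∈ C.H) : IsLin C fun x => f (h * x * h⁻¹) where
  one := by rw [mul_one, mul_inv_cancel, hf.one]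
  mul {x y} hx hy := by
    rw [← hf.mul (conj_mem (C.H_le_normalizer_U hh) hx) (conj_mem (C.H_le_normalizer_U hh) hy)]
    congr 1
    group

end IsLin

/-! ### The retraction on the Sylow subgroup -/

/-- The retraction. -/
noncomputable abbrev pr (g : G) : G := C.data.proj g

theorem pr_U {x : G} (hx : x ∈ C.U) : C.pr x = 1 :=
  C.data.proj_odd (C.U_le_H hx) (Nat.two_dvd_ne_zero.2 (Nat.odd_iff.1 (odd_orderOf C.odd_U hx)))

theorem mem_U_iff_pr {x : G} (hx : x ∈ C.H) : x ∈ C.U ↔ C.pr x = 1 :=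
  ⟨C.pr_U, fun h => C.mem_U_of_odd hx
    (Nat.odd_iff.2 (Nat.two_dvd_ne_zero.1 (C.data.odd_of_proj hx h)))⟩

theorem pr_mul {x y : G} (hx : x ∈ C.H) (hy : y ∈ C.H) : C.pr (x * y) = C.pr x * C.pr y :=
  C.data.proj_mul hx hy

theorem pr_mem_H (g : G) : C.pr g ∈ C.H := C.P_le_H (C.data.proj_mem g)

theorem pr_of_mem {p : G} (hp : p ∈ (C.P : Subgroup G)) : C.pr p = p := C.data.proj_of_mem hp

theorem upart_mem {g : G} (hg : g ∈ C.H) : g * (C.pr g)⁻¹ ∈ C.U := by
  refine (C.mem_U_iff_pr (mul_mem hg (inv_mem (C.pr_mem_H g)))).2 ?_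
  rw [C.pr_mul hg (inv_mem (C.pr_mem_H g)), pr_of_mem C (inv_mem (C.data.proj_mem g)),
    mul_inv_cancel]

theorem lpart_mem {g : G} (hg : g ∈ C.H) : (C.pr g)⁻¹ * g ∈ C.U := by
  refine (C.mem_U_iff_pr (mul_mem (inv_mem (C.pr_mem_H g)) hg)).2 ?_
  rw [C.pr_mul (inv_mem (C.pr_mem_H g)) hg, pr_of_mem C (inv_mem (C.data.proj_mem g)),
    inv_mul_cancel]

theorem pr_mul_U {p x : G} (hp : p ∈ (C.P : Subgroup G)) (hx : x ∈ C.U) : C.pr (p * x) = p := by
  rw [C.pr_mul (C.P_le_H hp) (C.U_le_H hx), C.pr_U hx, mul_one, pr_of_mem C hp]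

/-- The involutions of `C(z)` with a rotation as image. -/
theorem eq_z_of_pr_mem {v : G} (hv : Inv v) (hvH : v ∈ C.H) (h : C.pr v ∈ zpowers C.s) :
    v = C.z := by
  by_contra hne
  exact C.data.proj_refl (Finset.mem_filter.2 ⟨mem_univ v, hvH, hv.1, hv.2, hne⟩) h

/-- A linear character invariant under `H` extended to `H`. -/
noncomputable def ext (f : G → ℂ) (g : G) : ℂ := f (g * (C.pr g)⁻¹)

theorem ext_mul {f : G → ℂ} (hf : IsLin C f) {g g' : G} (hg : g ∈ C.H) (hg' : g' ∈ C.H)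
    (hinv : ∀ x ∈ C.U, f (C.pr g * x * (C.pr g)⁻¹) = f x) :
    C.ext f (g * g') = C.ext f g * C.ext f g' := by
  rw [ext, ext, ext, C.pr_mul hg hg', ← hinv _ (C.upart_mem hg'),
    ← hf.mul (C.upart_mem hg) (conj_mem (C.H_le_normalizer_U (C.pr_mem_H g)) (C.upart_mem hg'))]
  congr 1
  group

theorem ext_mul_of_mem {f : G → ℂ} (hf : IsLin C f) {a x : G} (ha : a ∈ (C.P : Subgroup G))
    (hx : x ∈ C.U) (hinv : f (a * x * a⁻¹) = f x) : C.ext f (a * x) = f x := by
  rw [ext, C.pr_mul_U ha hx, hinv]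

/-- Two linear characters fixed by `t` which agree on `D1` agree on `U`. -/
theorem eq_of_eq_D1 {f g : G → ℂ} (hf : IsLin C f) (hg : IsLin C g)
    (hft : ∀ x ∈ C.U, f (C.t * x * C.t) = f x) (hgt : ∀ x ∈ C.U, g (C.t * x * C.t) = g x)
    (h : ∀ d ∈ C.D1, f d = g d) {x : G} (hx : x ∈ C.U) : f x = g x := by
  obtain ⟨e, he, y, hy, hyt, rfl⟩ := C.exists_mul_t hx
  have key : ∀ {f : G → ℂ}, IsLin C f → (∀ x ∈ C.U, f (C.t * x * C.t) = f x) → f y = 1 := by
    intro f hf hft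
    refine hf.eq_one_of_sq hy ?_
    nth_rw 1 [← hft y hy]
    rw [hyt, hf.inv_mul hy]
  rw [hf.mul (C.D1_le_U he) hy, hg.mul (C.D1_le_U he) hy, key hf hft, key hg hgt, h e he]

/-- The trivial character. -/
theorem isLin_one : IsLin C fun _ => 1 := ⟨rfl, fun _ _ => (one_mul 1).symm⟩

end CfsgLib.GW.Eight.Ctx
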