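import Cfsg.Agent.GW.Eight.Linear.Base
import Cfsg.Agent.BlocksB.DihedralPrincipal.Table

/-!
# Gorenstein–Walter, `|S| ≥ 8`, linear characters: the coset functions and their Gram matrix
-/

set_option autoImplicit false
set_option linter.style.haveILetI false
set_option linter.unusedSectionVars false

namespace CfsgLib.GW.Eight.Ctx

open Cfsg Finset CfsgLib.DihPrincipal CfsgLib.GW CfsgLib.Block CfsgLib.Block.Chr
open CfsgLib.NormCyclic (Inv)
open CfsgLib.DGroup (conj_mem odd_orderOf)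
open scoped ComplexConjugate Classical

universe u

variable {G : Type u} [Group G] [Fintype G] [Fact (Nat.Prime 2)] (C : Ctx G)

/-- The projection of a function to a linear character on a coset of `U`. -/
noncomputable def cV (ψ χ : G → ℂ) (g : G) : ℂ :=
  (Nat.card C.U : ℂ)⁻¹ * ∑ x ∈ fin C.U, χ (g * x) * ψ x⁻¹

theorem card_U_ne : (Nat.card C.U : ℂ) ≠ 0 := Nat.cast_ne_zero.2 Nat.card_pos.ne'

theorem card_mul_cV (ψ χ : G → ℂ) (g : G) :
    (Nat.card C.U : ℂ) * C.cV ψ χ g = ∑ x ∈ fin C.U, χ (g * x) * ψ x⁻¹ :=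
  mul_inv_cancel_left₀ C.card_U_ne _

/-- A sum over `U` transported by an element of its normaliser. -/
theorem sum_U_conj {h : G} (hh : h ∈ C.H) (f : G → ℂ) :
    ∑ x ∈ fin C.U, f (h * x * h⁻¹) = ∑ x ∈ fin C.U, f x :=
  sum_bij (fun x _ => h * x * h⁻¹)
    (fun x hx => mem_fin.2 (conj_mem (C.H_le_normalizer_U hh) (mem_fin.1 hx)))
    (fun x _ y _ e => mul_left_cancel (mul_right_cancel e))
    (fun x hx => ⟨h⁻¹ * x * h, mem_fin.2 (by
      have := conj_mem (C.H_le_normalizer_U (inv_mem hh)) (mem_fin.1 hx)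
      rwa [inv_inv] at this), by group⟩) fun _ _ => rfl

theorem cV_conj {ψ : G → ℂ} {h : G} (hh : h ∈ C.H) (χ : IrrCharacter G) (g : G) :
    C.cV ψ (χ : G → ℂ) (h * g * h⁻¹) = C.cV (fun x => ψ (h * x * h⁻¹)) (χ : G → ℂ) g := by
  rw [cV, cV, ← C.sum_U_conj hh]
  congr 1
  refine sum_congr rfl fun x _ => ?_
  rw [show h * g * h⁻¹ * (h * x * h⁻¹) = h * (g * x) * h⁻¹ by group,
    isClassFunction_irr χ, show (h * x * h⁻¹)⁻¹ = h * x⁻¹ * h⁻¹ by group]

theorem conj_cV {ψ : G → ℂ} (hψ : IsLin C ψ) (χ : IrrCharacter G) (g : G) :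
    conj (C.cV ψ (χ : G → ℂ) g) =
      (Nat.card C.U : ℂ)⁻¹ * ∑ x ∈ fin C.U, conj ((χ : G → ℂ) (g * x)) * ψ x := by
  rw [cV, map_mul, map_inv₀, map_natCast, map_sum]
  congr 1
  refine sum_congr rfl fun x hx => ?_
  rw [map_mul, hψ.conj_eq (inv_mem (mem_fin.1 hx)), inv_inv]

/-- A power of an element over a rotation is the central involution. -/
theorem exists_pow_z {g x : G} (hg : g ∈ Subgroup.zpowers C.s) (hg1 : g ≠ 1) (hx : x ∈ C.U) :
    ∃ k : ℕ, (g * x) ^ k = C.z ∧ g ^ k = C.z := by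
  obtain ⟨e, he⟩ := C.data.exists_pow_eq_z hg hg1
  change g ^ e = C.z at he
  have hgH : g ∈ C.H := C.data.mem_centralizer_zpowers hg
  have hpow : ∀ k : ℕ, C.pr ((g * x) ^ k) = g ^ k := by
    intro k
    induction k with
    | zero => rw [pow_zero, pow_zero, pr_of_mem C (one_mem _)]
    | succ k ih =>
      rw [pow_succ, C.pr_mul (pow_mem (mul_mem hgH (C.U_le_H hx)) k) (mul_mem hgH (C.U_le_H hx)), ih,
        C.pr_mul_U (C.data.le_sylow hg) hx, pow_succ]
  have hyH : (g * x) ^ e ∈ C.H := pow_mem (mul_mem hgH (C.U_le_H hx)) e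
  have hu : C.z * (g * x) ^ e ∈ C.U := by
    refine (C.mem_U_iff_pr (mul_mem C.z_mem_H hyH)).2 ?_
    rw [C.pr_mul C.z_mem_H hyH, hpow, he, pr_of_mem C (C.data.le_sylow Data.z_mem_zpowers : C.z ∈ _),
      C.inv_z.1]
  obtain ⟨m, hm⟩ := odd_orderOf C.odd_U hu
  set w := C.z * (g * x) ^ e
  have hy : (g * x) ^ e = C.z * w := by rw [← mul_assoc, C.inv_z.1, one_mul]
  have hzN : C.z ^ orderOf w = C.z := by
    rw [hm, pow_succ, pow_mul, sq, C.inv_z.1, one_pow, one_mul]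
  refine ⟨e * orderOf w, ?_, by rw [pow_mul, he, hzN]⟩
  rw [pow_mul, hy, (C.mem_H.1 (C.U_le_H hu)).symm.mul_pow, pow_orderOf_eq_one, mul_one, hzN]

/-- A conjugating element of two elements over rotations centralises `z`. -/
theorem mem_H_of_conj {g g' x y c : G} (hg : g ∈ Subgroup.zpowers C.s) (hg1 : g ≠ 1)
    (hg' : g' ∈ Subgroup.zpowers C.s) (hx : x ∈ C.U) (hy : y ∈ C.U)
    (h : c * (g * x) * c⁻¹ = g' * y) : c ∈ C.H := by
  obtain ⟨k, hk, -⟩ := C.exists_pow_z hg hg1 hx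
  refine C.mem_H.2 (mul_inv_eq_iff_eq_mul.1 ?_)
  have hgH : g' * y ∈ C.H := mul_mem (C.data.mem_centralizer_zpowers hg') (C.U_le_H hy)
  have hv : c * C.z * c⁻¹ = (g' * y) ^ k := by rw [← h, conj_pow, hk]
  refine C.eq_z_of_pr_mem ⟨by rw [conj_mul, C.inv_z.1, mul_one, mul_inv_cancel],
    fun e => C.inv_z.2 (conj_eq_one_iff.1 e)⟩ (hv ▸ pow_mem hgH k) ?_
  rw [hv]
  have hpow : ∀ j : ℕ, C.pr ((g' * y) ^ j) ∈ Subgroup.zpowers C.s := by
    intro j
    induction j with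
    | zero => rw [pow_zero, pr_of_mem C (one_mem _)]; exact one_mem _
    | succ j ih =>
      rw [pow_succ, C.pr_mul (pow_mem hgH j) hgH, C.pr_mul_U (C.data.le_sylow hg') hy]
      exact mul_mem ih hg'
  exact hpow k

omit [Fact (Nat.Prime 2)] in
/-- The conjugating elements of two elements. -/
theorem card_conjugators (a b : G) :
    (univ.filter fun c => c * a * c⁻¹ = b).card =
      if IsConj a b then Nat.card (Subgroup.centralizer ({a} : Set G)) else 0 := by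
  split_ifs with h
  · obtain ⟨c₀, hc₀⟩ := isConj_iff.1 h
    rw [Nat.card_eq_fintype_card, Fintype.card_subtype]
    refine (card_bij (fun w _ => c₀ * w) (fun w hw => ?_) (fun _ _ _ _ e => mul_left_cancel e)
      fun c hc => ?_).symm
    · rw [mem_filter, Subgroup.mem_centralizer_singleton_iff] at hw
      refine mem_filter.2 ⟨mem_univ _, ?_⟩
      rw [show c₀ * w * a * (c₀ * w)⁻¹ = c₀ * (w * a * w⁻¹) * c₀⁻¹ by group, hw.2,
        mul_inv_cancel_right, hc₀]
    · refine ⟨c₀⁻¹ * c, mem_filter.2 ⟨mem_univ _, Subgroup.mem_centralizer_singleton_iff.2 ?_⟩,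
        mul_inv_cancel_left _ _⟩
      obtain ⟨-, hc⟩ := mem_filter.1 hc
      calc c₀⁻¹ * c * a = c₀⁻¹ * (c * a * c⁻¹) * c := by group
        _ = a * (c₀⁻¹ * c) := by rw [hc, ← hc₀]; group
  · rw [card_eq_zero, filter_eq_empty_iff]
    exact fun c _ hc => h (isConj_iff.2 ⟨c, hc⟩)

variable [Fintype (IrrCharacter G)]

/-- The column relations, projected. -/
theorem gram_raw {ψ ψ' : G → ℂ} (hψ' : IsLin C ψ') {g g' : G}
    (hg : g ∈ Subgroup.zpowers C.s) (hg1 : g ≠ 1) (hg' : g' ∈ Subgroup.zpowers C.s) :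
    ∑ χ : IrrCharacter G, C.cV ψ (χ : G → ℂ) g * conj (C.cV ψ' (χ : G → ℂ) g') =
      (Nat.card C.U : ℂ)⁻¹ * (Nat.card C.U : ℂ)⁻¹ * ∑ c ∈ fin C.H,
        if C.pr c * g * (C.pr c)⁻¹ = g' then
          ∑ x ∈ fin C.U, ψ x⁻¹ * ψ' (g'⁻¹ * (c * (g * x) * c⁻¹)) else 0 := by
  have e1 : ∀ χ : IrrCharacter G, C.cV ψ (χ : G → ℂ) g * conj (C.cV ψ' (χ : G → ℂ) g') =
      (Nat.card C.U : ℂ)⁻¹ * (Nat.card C.U : ℂ)⁻¹ * ∑ x ∈ fin C.U, ∑ y ∈ fin C.U,
        ψ x⁻¹ * ψ' y * ((χ : G → ℂ) (g * x) * conj ((χ : G → ℂ) (g' * y))) := by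
    intro χ
    rw [C.conj_cV hψ', cV, mul_mul_mul_comm, sum_mul_sum]
    congr 1
    exact sum_congr rfl fun x _ => sum_congr rfl fun y _ => by ring
  rw [sum_congr rfl fun χ _ => e1 χ, ← mul_sum, sum_comm]
  congr 1
  simp only [sum_comm (s := (univ : Finset (IrrCharacter G))), ← mul_sum, column_orth]
  have e2 : ∀ x y : G, (if IsConj (g * x) (g' * y) then
      (Nat.card (Subgroup.centralizer ({g * x} : Set G)) : ℂ) else 0) =
      ∑ c : G, if c * (g * x) * c⁻¹ = g' * y then (1 : ℂ) else 0 := fun x y => by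
    rw [sum_boole, card_conjugators]
    split_ifs <;> simp
  simp only [e2, mul_sum, mul_ite, mul_one, mul_zero]
  rw [sum_congr rfl fun x _ => sum_comm, sum_comm, ← sum_subset (subset_univ (fin C.H))]
  · refine sum_congr rfl fun c hc => ?_
    have hcH := mem_fin.1 hc
    have hgH : g ∈ C.H := C.data.mem_centralizer_zpowers hg
    have hg'H : g' ∈ C.H := C.data.mem_centralizer_zpowers hg'
    have hpr : ∀ x ∈ fin C.U,
        C.pr (c * (g * x) * c⁻¹) = C.pr c * g * (C.pr c)⁻¹ := fun x hx => by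
      rw [pr, C.data.proj_conj hcH (mul_mem hgH (C.U_le_H (mem_fin.1 hx)))]
      show C.pr c * C.pr (g * x) * _ = _
      rw [C.pr_mul_U (C.data.le_sylow hg) (mem_fin.1 hx)]
    split_ifs with h
    · refine sum_congr rfl fun x hx => ?_
      have hmem : g'⁻¹ * (c * (g * x) * c⁻¹) ∈ C.U := by
        have hH : c * (g * x) * c⁻¹ ∈ C.H :=
          mul_mem (mul_mem hcH (mul_mem hgH (C.U_le_H (mem_fin.1 hx)))) (inv_mem hcH)
        refine (C.mem_U_iff_pr (mul_mem (inv_mem hg'H) hH)).2 ?_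
        rw [C.pr_mul (inv_mem hg'H) hH, hpr x hx, h, pr_of_mem C (inv_mem (C.data.le_sylow hg')),
          inv_mul_cancel]
      rw [sum_eq_single_of_mem _ (mem_fin.2 hmem) fun y _ hy => if_neg fun e => hy (by
        rw [e, inv_mul_cancel_left]), if_pos (mul_inv_cancel_left _ _).symm]
    · refine sum_eq_zero fun x hx => sum_eq_zero fun y hy => if_neg fun e => h ?_
      rw [← hpr x hx, e, C.pr_mul_U (C.data.le_sylow hg') (mem_fin.1 hy)]
  · intro c _ hc
    refine sum_eq_zero fun x hx => sum_eq_zero fun y hy => if_neg fun e => hc ?_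
    exact mem_fin.2 (C.mem_H_of_conj hg hg1 hg' (mem_fin.1 hx) (mem_fin.1 hy) e)

omit [Fintype (IrrCharacter G)] in
/-- A sum over `H` of a function of the image in `P`. -/
theorem sum_H_pr (f : G → ℂ) :
    ∑ c ∈ fin C.H, f (C.pr c) = (Nat.card C.U : ℂ) * ∑ p ∈ fin (C.P : Subgroup G), f p := by
  rw [← card_fin, mul_sum, sum_congr rfl fun p _ => show ((fin C.U).card : ℂ) * f p =
    ∑ _x ∈ fin C.U, f p by rw [sum_const, nsmul_eq_mul], ← sum_product']
  refine (sum_bij (fun v _ => v.1 * v.2) (fun v hv => ?_) (fun v hv w hw e => ?_) (fun c hc => ?_)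
    fun v hv => ?_).symm
  · obtain ⟨h1, h2⟩ := mem_product.1 hv
    exact mem_fin.2 (mul_mem (C.P_le_H (mem_fin.1 h1)) (C.U_le_H (mem_fin.1 h2)))
  · obtain ⟨h1, h2⟩ := mem_product.1 hv
    obtain ⟨h1', h2'⟩ := mem_product.1 hw
    have e1 : v.1 = w.1 := by
      rw [← C.pr_mul_U (mem_fin.1 h1) (mem_fin.1 h2), e, C.pr_mul_U (mem_fin.1 h1') (mem_fin.1 h2')]
    rw [e1] at e
    exact Prod.ext e1 (mul_left_cancel e)
  · exact ⟨(C.pr c, (C.pr c)⁻¹ * c), mem_product.2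
      ⟨mem_fin.2 (C.data.proj_mem c), mem_fin.2 (C.lpart_mem (mem_fin.1 hc))⟩,
      mul_inv_cancel_left _ _⟩
  · obtain ⟨h1, h2⟩ := mem_product.1 hv
    rw [C.pr_mul_U (mem_fin.1 h1) (mem_fin.1 h2)]

omit [Fintype (IrrCharacter G)] in
theorem card_P_conj {a b : G} (ha : a ∈ Subgroup.zpowers C.s) :
    ∑ p ∈ fin (C.P : Subgroup G), (if p * a * p⁻¹ = b then (1 : ℂ) else 0) =
      (orderOf C.s : ℂ) * ((if a = b then 1 else 0) + if a⁻¹ = b then 1 else 0) := by
  have hsplit : fin (C.P : Subgroup G) = fin (Subgroup.zpowers C.s) ∪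
      (fin (Subgroup.zpowers C.s)).image (· * C.t) := by
    ext p
    simp only [mem_fin, mem_union, mem_image]
    constructor
    · intro hp
      rcases C.data.cases p hp with h | h
      · exact Or.inl h
      · exact Or.inr ⟨_, h, by rw [mul_assoc, C.inv_t.1, mul_one]⟩
    · rintro (h | ⟨q, hq, rfl⟩)
      · exact C.data.le_sylow h
      · exact mul_mem (C.data.le_sylow hq) C.data.τ_mem
  have hc : ∀ q ∈ fin (Subgroup.zpowers C.s), q * a * q⁻¹ = a := fun q hq => by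
    obtain ⟨i, rfl⟩ := Subgroup.mem_zpowers_iff.1 (mem_fin.1 hq)
    obtain ⟨j, rfl⟩ := Subgroup.mem_zpowers_iff.1 ha
    rw [← zpow_add, ← zpow_neg, ← zpow_add]
    congr 1
    ring
  rw [hsplit, sum_union, sum_image (fun p _ q _ e => mul_right_cancel e),
    sum_congr rfl fun q hq => by rw [hc q hq],
    sum_congr rfl (fun q hq => show (if q * C.t * a * (q * C.t)⁻¹ = b then (1 : ℂ) else 0) =
      if a⁻¹ = b then 1 else 0 by
        have h := hc q hq
        rw [show q * C.t * a * (q * C.t)⁻¹ = q * (C.t * a * C.t⁻¹) * q⁻¹ by group,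
          C.data.conj_τ ha, show q * a⁻¹ * q⁻¹ = (q * a * q⁻¹)⁻¹ by group, h]),
    sum_const, sum_const, card_fin, Nat.card_zpowers, nsmul_eq_mul, nsmul_eq_mul, mul_add]
  rw [disjoint_left]
  simp only [mem_fin, mem_image, not_exists, not_and]
  intro p hp q hq e
  refine C.t_not_mem_zpowers ?_
  rw [show C.t = q⁻¹ * p by rw [← e, inv_mul_cancel_left]]
  exact mul_mem (inv_mem hq) hp

omit [Fintype (IrrCharacter G)] in
theorem card_P' : (fin (C.P : Subgroup G)).card = 2 ^ C.n := by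
  rw [card_fin, C.data.card_sylow]

/-- The Gram matrix of an invariant linear character. -/
theorem gram_inv {lam : G → ℂ} (hl : IsLin C lam)
    (hi : ∀ h ∈ C.H, ∀ x ∈ C.U, lam (h * x * h⁻¹) = lam x) {g g' : G}
    (hg : g ∈ Subgroup.zpowers C.s) (hg1 : g ≠ 1) (hg' : g' ∈ Subgroup.zpowers C.s) :
    ∑ χ : IrrCharacter G, C.cV lam (χ : G → ℂ) g * conj (C.cV lam (χ : G → ℂ) g') =
      (orderOf C.s : ℂ) * ((if g = g' then 1 else 0) + if g⁻¹ = g' then 1 else 0) := by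
  rw [C.gram_raw hl hg hg1 hg', ← C.card_P_conj hg, sum_congr rfl (g := fun c =>
    (Nat.card C.U : ℂ) * if C.pr c * g * (C.pr c)⁻¹ = g' then (1 : ℂ) else 0)]
  · rw [← mul_sum, C.sum_H_pr (fun p => if p * g * p⁻¹ = g' then (1 : ℂ) else 0)]
    have := C.card_U_ne
    field_simp
  intro c hc
  have hcH := mem_fin.1 hc
  split_ifs with h
  · rw [mul_one, ← card_fin, ← nsmul_one, ← sum_const]
    refine sum_congr rfl fun x hx => ?_
    have hxU := mem_fin.1 hx
    have hgH : g ∈ C.H := C.data.mem_centralizer_zpowers hg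
    have hg'H : g' ∈ C.H := C.data.mem_centralizer_zpowers hg'
    have hi' : ∀ a : G, ∀ y ∈ C.U, lam (C.pr a * y * (C.pr a)⁻¹) = lam y := fun a =>
      hi _ (C.pr_mem_H a)
    have hext : ∀ p ∈ Subgroup.zpowers C.s, ∀ y ∈ C.U, C.ext lam (p * y) = lam y := fun p hp y hy =>
      C.ext_mul_of_mem hl (C.data.le_sylow hp) hy (hi _ (C.data.mem_centralizer_zpowers hp) y hy)
    set w := g'⁻¹ * (c * (g * x) * c⁻¹)
    have hH : c * (g * x) * c⁻¹ ∈ C.H :=
      mul_mem (mul_mem hcH (mul_mem hgH (C.U_le_H hxU))) (inv_mem hcH)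
    have hw : w ∈ C.U := by
      refine (C.mem_U_iff_pr (mul_mem (inv_mem hg'H) hH)).2 ?_
      have e : C.pr (c * (g * x) * c⁻¹) = C.pr c * C.pr (g * x) * (C.pr c)⁻¹ :=
        C.data.proj_conj hcH (mul_mem hgH (C.U_le_H hxU))
      rw [C.pr_mul (inv_mem hg'H) hH, e, C.pr_mul_U (C.data.le_sylow hg) hxU, h,
        pr_of_mem C (inv_mem (C.data.le_sylow hg')), inv_mul_cancel]
    have e : lam w = lam x := by
      rw [← hext g' hg' w hw, mul_inv_cancel_left,
        C.ext_mul hl (mul_mem hcH (mul_mem hgH (C.U_le_H hxU))) (inv_mem hcH) (hi' _),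
        C.ext_mul hl hcH (mul_mem hgH (C.U_le_H hxU)) (hi' _), hext g hg x hxU,
        mul_right_comm, ← C.ext_mul hl hcH (inv_mem hcH) (hi' _), mul_inv_cancel,
        show C.ext lam 1 = 1 by rw [ext, pr_of_mem C (one_mem _), inv_one, mul_one, hl.one],
        one_mul]
    rw [e, hl.inv_mul hxU]
  · rw [mul_zero]

/-- Different cosets are orthogonal. -/
theorem gram_zero {ψ ψ' : G → ℂ} (hψ' : IsLin C ψ') {g g' : G}
    (hg : g ∈ Subgroup.zpowers C.s) (hg1 : g ≠ 1) (hg' : g' ∈ Subgroup.zpowers C.s)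
    (hne : g' ≠ g) (hne' : g' ≠ g⁻¹) :
    ∑ χ : IrrCharacter G, C.cV ψ (χ : G → ℂ) g * conj (C.cV ψ' (χ : G → ℂ) g') = 0 := by
  rw [C.gram_raw hψ' hg hg1 hg', sum_eq_zero, mul_zero]
  intro c _
  rw [if_neg]
  intro h
  rcases C.data.conj_rot (C.data.proj_mem c) hg with e | e
  exacts [hne (h.symm.trans e), hne' (h.symm.trans e)]

/-- Orthogonality to the degrees. -/
theorem sum_deg_cV (ψ : G → ℂ) {g : G} (hg : g ∈ (C.P : Subgroup G)) (hg1 : g ≠ 1) :
    ∑ χ : IrrCharacter G, C.cV ψ (χ : G → ℂ) g * (χ : G → ℂ) 1 = 0 := by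
  simp only [cV, mul_assoc, ← mul_sum, sum_mul]
  rw [sum_comm, sum_eq_zero, mul_zero]
  intro x hx
  rw [sum_congr rfl (g := fun χ : IrrCharacter G =>
      ψ x⁻¹ * ((χ : G → ℂ) (g * x) * conj ((χ : G → ℂ) 1)))
      (fun χ _ => by rw [conj_irr, inv_one]; ring), ← mul_sum, column_orth, if_neg, mul_zero]
  intro hc
  refine hg1 ?_
  have h := C.pr_mul_U hg (mem_fin.1 hx)
  rwa [isConj_one_left.1 hc, pr_of_mem C (one_mem _), eq_comm] at h

omit [Fintype (IrrCharacter G)] in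
/-- An invariant linear character gives a real function of the rotation. -/
theorem cV_inv {lam : G → ℂ} (hi : ∀ h ∈ C.H, ∀ x ∈ C.U, lam (h * x * h⁻¹) = lam x)
    (χ : IrrCharacter G) {a : G} (ha : a ∈ Subgroup.zpowers C.s) :
    C.cV lam (χ : G → ℂ) a⁻¹ = C.cV lam (χ : G → ℂ) a := by
  rw [← C.data.conj_τ ha, C.cV_conj C.t_mem_H, cV, cV]
  congr 1
  exact sum_congr rfl fun x hx => by rw [hi _ C.t_mem_H _ (inv_mem (mem_fin.1 hx))]

end CfsgLib.GW.Eight.Ctx
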