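import Cfsg.Agent.GW.Eight.Linear.Evaluate.Fixed
import Cfsg.Agent.GW.Eight.Linear.Evaluate.Moved
import Cfsg.Agent.GW.Eight.Linear.Evaluate.Exotic

/-!
# Gorenstein–Walter, `|S| ≥ 8`, linear characters: evaluation of the pair counts

In every configuration there is a character of degree below twelve which is a combination of linear
characters on `z U`, and the Sylow subgroup has order eight.
-/

set_option autoImplicit false
set_option linter.style.haveILetI false
set_option linter.unusedSectionVars false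

namespace CfsgLib.GW.Eight.Ctx

open Cfsg CfsgLib.GW

universe u

variable {G : Type u} [Group G] [Fintype G] [Fact (Nat.Prime 2)] [Fintype (IrrCharacter G)]
  {C : Ctx G} {lam : G → ℂ}

/-- **Evaluation.** -/
theorem Twist.small_char (T : Twist C lam) (T₂ : Twist C.flip lam)
    (hT₂ : ∀ x ∈ C.U, T₂.nu x = lam x ∧ T₂.nu' x = lam x) (hne : ¬ ∀ x ∈ C.U, lam x = 1) :
    C.SmallChar := by
  obtain ⟨E⟩ := T.exists_eval T₂ hT₂ hne
  rcases E.hshape with ⟨⟨g⟩⟩ | ⟨⟨g⟩⟩ | ⟨⟨g⟩⟩
  · rcases T.mode with hf | ⟨hn, g1, g2, g3, hs⟩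
    · exact T.eval_fixed T₂ hT₂ E g hf
    · exact T.eval_moved T₂ hT₂ E g hn g1 g2 g3 hs
  · exact (T.eval_exA T₂ hT₂ E g).elim
  · exact (T.eval_exB T₂ hT₂ E g).elim

end CfsgLib.GW.Eight.Ctx
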