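import Cfsg.Agent.BlocksB.Cyclic.Coherence
import Cfsg.Agent.BlocksB.DihedralPrincipal.Star

/-!
# Integral vectors with the Gram matrix of a dihedral block, without the trivial character

Apart from two configurations with five supporters, which need three vectors, there are two centres
`p`, `q`, two further members `c₀`, `d₀` of the last vector and one private member for each vector.
-/

set_option autoImplicit false

namespace CfsgLib.GW.Eight.LinVec

open Finset CfsgLib.Cyclic
open scoped Classical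

variable {B : Type*} [Fintype B] {ι : Type*} [Fintype ι]

/-- The generic configuration. -/
structure Gen (deg : B → ℤ) (w : ι → B → ℤ) (u : B → ℤ) where
  p : B
  q : B
  c₀ : B
  d₀ : B
  ψ : ι → B
  a : ℤ
  b : ℤ
  f : ℤ
  g : ℤ
  e : ℤ
  sign : a * a = 1 ∧ b * b = 1 ∧ f * f = 1 ∧ g * g = 1 ∧ e * e = 1
  ne : p ≠ q ∧ p ≠ c₀ ∧ p ≠ d₀ ∧ q ≠ c₀ ∧ q ≠ d₀ ∧ c₀ ≠ d₀
  ψ_inj : Function.Injective ψ
  ψ_ne : ∀ i, ψ i ≠ p ∧ ψ i ≠ q ∧ ψ i ≠ c₀ ∧ ψ i ≠ d₀
  hw : ∀ i x, w i x = a * unitVec p x + b * unitVec q x + e * unitVec (ψ i) x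
  hu : ∀ x, u x = a * unitVec p x + b * unitVec q x + f * unitVec c₀ x + g * unitVec d₀ x
  degw : ∀ i, a * deg p + b * deg q + e * deg (ψ i) = 0
  degu : a * deg p + b * deg q + f * deg c₀ + g * deg d₀ = 0

/-- The first configuration with five supporters. -/
structure ExA (deg : B → ℤ) (w : ι → B → ℤ) (u : B → ℤ) where
  p : B
  q : B
  ψ : ι → B
  a : ℤ
  b : ℤ
  e : ℤ
  card : Fintype.card ι = 3
  sign : a * a = 1 ∧ b * b = 1 ∧ e * e = 1
  ne : p ≠ q
  ψ_inj : Function.Injective ψ
  ψ_ne : ∀ i, ψ i ≠ p ∧ ψ i ≠ q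
  hw : ∀ i x, w i x = a * unitVec p x + b * unitVec q x + e * unitVec (ψ i) x
  hu : ∀ x, u x = a * unitVec p x + e * ∑ i, unitVec (ψ i) x
  degp : ∀ i, a * deg p = -3 * (e * deg (ψ i))
  degq : ∀ i, b * deg q = 2 * (e * deg (ψ i))

/-- The second configuration with five supporters. -/
structure ExB (deg : B → ℤ) (w : ι → B → ℤ) (u : B → ℤ) where
  p : B
  q : B
  ψ : ι → B
  a : ℤ
  b : ℤ
  e : ℤ
  card : Fintype.card ι = 3
  sign : a * a = 1 ∧ b * b = 1 ∧ e * e = 1
  ne : p ≠ q
  ψ_inj : Function.Injective ψ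
  ψ_ne : ∀ i, ψ i ≠ p ∧ ψ i ≠ q
  hw : ∀ i x, w i x = a * unitVec p x - e * ((∑ j, unitVec (ψ j) x) - unitVec (ψ i) x)
  hu : ∀ x, u x = b * unitVec q x - e * ∑ j, unitVec (ψ j) x
  degp : ∀ i, a * deg p = 2 * (e * deg (ψ i))
  degq : ∀ i, b * deg q = 3 * (e * deg (ψ i))

theorem sum_mul_unit_sum (f : B → ℤ) (ψ : ι → B) :
    ∑ x, f x * ∑ i, unitVec (ψ i) x = ∑ i, f (ψ i) := by
  simp only [mul_sum]
  rw [sum_comm]
  exact sum_congr rfl fun i _ => DihPrincipal.sum_mul_unit f (ψ i)

theorem sq_of_small {x : ℤ} (h : x = 0 ∨ x = 1 ∨ x = -1) (h0 : x ≠ 0) : x * x = 1 := by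
  rcases h.resolve_left h0 with e | e <;> rw [e] <;> norm_num

/-- The support of a small vector as unit vectors. -/
theorem eq_two {u : B → ℤ} {s : Finset B} (hs : ∀ x, x ∉ s → u x = 0) (a b : B) (hab : a ≠ b)
    (h : s.filter (fun x => u x ≠ 0) = {a, b}) (x : B) :
    u x = u a * unitVec a x + u b * unitVec b x := by
  by_cases h1 : x = a
  · subst h1; simp [unitVec, hab]
  by_cases h2 : x = b
  · subst h2; simp [unitVec, h1]
  simp only [unitVec, if_neg h1, if_neg h2, mul_zero, add_zero]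
  by_contra hx
  have : x ∈ s.filter (fun x => u x ≠ 0) :=
    mem_filter.2 ⟨by_contra fun hns => hx (hs x hns), hx⟩
  rw [h, mem_insert, mem_singleton] at this
  exact this.elim h1 h2

variable {deg : B → ℤ} {w : ι → B → ℤ} {u : B → ℤ}

/-- The last vector has four entries of absolute value one. -/
theorem u_small (hdeg : ∀ x, 0 < deg x) (huu : ∑ x, u x * u x = 4) (hud : ∑ x, deg x * u x = 0)
    (x : B) : u x = 0 ∨ u x = 1 ∨ u x = -1 := by
  by_contra h
  have hle : u x * u x ≤ 4 := huu ▸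
    single_le_sum (fun y _ => mul_self_nonneg (u y)) (mem_univ x)
  have h1 : u x ≤ 2 := by nlinarith
  have h2 : -2 ≤ u x := by nlinarith
  have h4 : u x * u x = 4 := by
    have : u x = 2 ∨ u x = -2 := by omega
    rcases this with e | e <;> rw [e] <;> norm_num
  have h0 : ∀ y, y ≠ x → u y = 0 := fun y hy => by
    rw [← sum_erase_add _ _ (mem_univ x), h4, add_eq_right] at huu
    exact mul_self_eq_zero.1 ((sum_eq_zero_iff_of_nonneg fun z _ => mul_self_nonneg _).1 huu y
      (mem_erase.2 ⟨hy, mem_univ y⟩))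
  rw [sum_eq_single_of_mem x (mem_univ x) fun y _ hy => by rw [h0 y hy, mul_zero]] at hud
  rcases mul_eq_zero.1 hud with e | e
  · exact (hdeg x).ne' e
  · exact h (Or.inl e)

/-- The two members outside the centres. -/
theorem exists_gen (hdeg : ∀ x, 0 < deg x) (huu : ∑ x, u x * u x = 4)
    (hud : ∑ x, deg x * u x = 0) (hwd : ∀ i, ∑ x, deg x * w i x = 0) (p q : B) (ψ : ι → B)
    (a b e : ℤ) (ha : a * a = 1) (hb : b * b = 1) (he : e * e = 1) (hpq : p ≠ q)
    (hψ : Function.Injective ψ) (hψne : ∀ i, ψ i ≠ p ∧ ψ i ≠ q)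
    (hw : ∀ i x, w i x = a * unitVec p x + b * unitVec q x + e * unitVec (ψ i) x)
    (hup : u p = a) (huq : u q = b) (huψ : ∀ i, u (ψ i) = 0) : Nonempty (Gen deg w u) := by
  set s := (univ.erase p).erase q with hs
  have hsum : ∑ x ∈ s, u x * u x = 2 := by
    have h := huu
    rw [← sum_erase_add _ _ (mem_univ p), ← sum_erase_add _ _
      (mem_erase.2 ⟨hpq.symm, mem_univ q⟩ : q ∈ univ.erase p), hup, huq, ha, hb] at h
    rw [hs]; linarith
  obtain ⟨hpm, hcard⟩ := DihPrincipal.small_norm (f := u) (s := s) (by rw [hsum]; norm_num)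
  rw [hsum] at hcard
  obtain ⟨c₀, d₀, hcd, heq⟩ :=
    card_eq_two.1 (show (s.filter fun x => u x ≠ 0).card = 2 by omega)
  have hc : c₀ ∈ s.filter fun x => u x ≠ 0 := by rw [heq]; simp
  have hd : d₀ ∈ s.filter fun x => u x ≠ 0 := by rw [heq]; simp
  rw [mem_filter, hs, mem_erase, mem_erase] at hc hd
  have hu : ∀ x, u x =
      a * unitVec p x + b * unitVec q x + u c₀ * unitVec c₀ x + u d₀ * unitVec d₀ x := by
    intro x
    by_cases h1 : x = p
    · subst h1; simp [unitVec, hpq, hup, hc.1.2.1.symm, hd.1.2.1.symm]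
    by_cases h2 : x = q
    · subst h2; simp [unitVec, hpq.symm, huq, hc.1.1.symm, hd.1.1.symm]
    have h := eq_two (u := fun y => if y = p ∨ y = q then 0 else u y) (s := s)
      (fun y hy => by
        rw [if_pos]
        rw [hs, mem_erase, mem_erase] at hy
        simp only [mem_univ, and_true, not_and, ne_eq, Decidable.not_not] at hy
        by_cases hyq : y = q
        exacts [Or.inr hyq, Or.inl (hy hyq)])
      c₀ d₀ hcd (by
        rw [← heq]
        refine filter_congr fun y hy => ?_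
        rw [hs, mem_erase, mem_erase] at hy
        simp [hy.1, hy.2.1]) x
    simp only [h1, h2, if_false, or_self, hc.1.1, hc.1.2.1, hd.1.1, hd.1.2.1] at h
    rw [h]
    simp [unitVec, h1, h2]
  refine ⟨⟨p, q, c₀, d₀, ψ, a, b, u c₀, u d₀, e,
    ⟨ha, hb, sq_of_small (u_small hdeg huu hud c₀) hc.2,
      sq_of_small (u_small hdeg huu hud d₀) hd.2, he⟩,
    ⟨hpq, hc.1.2.1.symm, hd.1.2.1.symm, hc.1.1.symm, hd.1.1.symm, hcd⟩, hψ,
    fun i => ⟨(hψne i).1, (hψne i).2, fun h => hc.2 (h ▸ huψ i), fun h => hd.2 (h ▸ huψ i)⟩,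
    hw, hu, fun i => ?_, ?_⟩⟩
  · have h := hwd i
    simp only [hw i, mul_add, sum_add_distrib, DihPrincipal.sum_mul_smul_unit] at h
    linarith
  · have h := hud
    rw [sum_congr rfl fun x _ => congrArg (deg x * ·) (hu x)] at h
    simp only [mul_add, sum_add_distrib, DihPrincipal.sum_mul_smul_unit] at h
    linarith

/-- A single vector. -/
theorem single (hdeg : ∀ x, 0 < deg x) (hI : Fintype.card ι = 1)
    (hww : ∀ i j, ∑ x, w i x * w j x = 2 + if i = j then 1 else 0)
    (huu : ∑ x, u x * u x = 4) (huw : ∀ i, ∑ x, w i x * u x = 2)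
    (hwd : ∀ i, ∑ x, deg x * w i x = 0) (hud : ∑ x, deg x * u x = 0) :
    Nonempty (Gen deg w u) := by
  obtain ⟨i₀, hi₀⟩ := Fintype.card_eq_one_iff.1 hI
  have hn : ∑ x, w i₀ x * w i₀ x = 3 := by rw [hww, if_pos rfl]; norm_num
  obtain ⟨hpm, hcard⟩ := DihPrincipal.small_norm (f := w i₀) (s := univ) hn.le
  rw [hn] at hcard
  obtain ⟨x₁, x₂, x₃, h12, h13, h23, heq⟩ :=
    card_eq_three.1 (show (univ.filter fun x => w i₀ x ≠ 0).card = 3 by omega)
  have hout : ∀ x, x ≠ x₁ → x ≠ x₂ → x ≠ x₃ → w i₀ x = 0 := fun x a b c => by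
    by_contra h
    have hx : x ∈ univ.filter fun x => w i₀ x ≠ 0 := mem_filter.2 ⟨mem_univ x, h⟩
    rw [heq] at hx
    simp only [mem_insert, mem_singleton] at hx
    exact hx.elim a fun hx => hx.elim b c
  have hne : ∀ x ∈ ({x₁, x₂, x₃} : Finset B), w i₀ x * w i₀ x = 1 := fun x hx => by
    rw [← heq, mem_filter] at hx
    exact sq_of_small (hpm x hx.1) hx.2
  have hdot := huw i₀
  rw [← sum_subset (subset_univ ({x₁, x₂, x₃} : Finset B)) fun x _ hx => by
    simp only [mem_insert, mem_singleton, not_or] at hx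
    rw [hout x hx.1 hx.2.1 hx.2.2, zero_mul],
    sum_insert (by simp [h12, h13]), sum_pair h23] at hdot
  have hprod : ∀ x, w i₀ x * u x ≤ 1 := fun x => by
    rcases hpm x (mem_univ _) with e | e | e <;> rcases u_small hdeg huu hud x with e' | e' | e' <;>
      rw [e, e'] <;> norm_num
  have hcases : ∀ x, w i₀ x * u x = 1 ∨ w i₀ x * u x = 0 ∨ w i₀ x * u x = -1 := fun x => by
    rcases hpm x (mem_univ _) with e | e | e <;> rcases u_small hdeg huu hud x with e' | e' | e' <;>
      rw [e, e'] <;> norm_num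
  obtain ⟨p, q, y, hpq, hpy, hqy, hset, hp, hq, hy⟩ : ∃ p q y, p ≠ q ∧ p ≠ y ∧ q ≠ y ∧
      ({x₁, x₂, x₃} : Finset B) = {p, q, y} ∧ w i₀ p * u p = 1 ∧ w i₀ q * u q = 1 ∧
        w i₀ y * u y = 0 := by
    have := hprod x₁; have := hprod x₂; have := hprod x₃
    rcases hcases x₃ with e | e | e
    · rcases hcases x₂ with e' | e' | e'
      · exact ⟨x₂, x₃, x₁, h23, h12.symm, h13.symm, by ext; simp; tauto, e', e, by omega⟩
      · exact ⟨x₁, x₃, x₂, h13, h12, h23.symm, by ext; simp; tauto, by omega, e, e'⟩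
      · omega
    · exact ⟨x₁, x₂, x₃, h12, h13, h23, rfl, by omega, by omega, e⟩
    · omega
  have hmem : ∀ x ∈ ({p, q, y} : Finset B), w i₀ x * w i₀ x = 1 := fun x hx => hne x (hset ▸ hx)
  have hp1 := hmem p (by simp)
  have hq1 := hmem q (by simp)
  have hy1 := hmem y (by simp)
  refine exists_gen hdeg huu hud hwd p q (fun _ => y) (w i₀ p) (w i₀ q) (w i₀ y) hp1 hq1 hy1 hpq
    (fun a b _ => (hi₀ a).trans (hi₀ b).symm) (fun _ => ⟨hpy.symm, hqy.symm⟩) (fun i x => ?_)
    (by linear_combination (-(u p)) * hp1 + (w i₀ p) * hp)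
    (by linear_combination (-(u q)) * hq1 + (w i₀ q) * hq) fun _ => ?_
  · rw [hi₀ i]
    by_cases h1 : x = p
    · subst h1; simp [unitVec, hpq, hpy]
    by_cases h2 : x = q
    · subst h2; simp [unitVec, h1, hqy]
    by_cases h3 : x = y
    · subst h3; simp [unitVec, h1, h2]
    simp only [unitVec, h1, h2, h3, if_false, mul_zero, add_zero]
    by_contra h
    have hx : x ∈ univ.filter fun x => w i₀ x ≠ 0 := mem_filter.2 ⟨mem_univ x, h⟩
    rw [heq, hset] at hx
    simp [h1, h2, h3] at hx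
  · exact (mul_eq_zero.1 hy).resolve_left fun h => by rw [h] at hy1; norm_num at hy1

/-- **The configurations.** -/
theorem exists_shape (hdeg : ∀ x, 0 < deg x) (hI : 0 < Fintype.card ι)
    (hI2 : Fintype.card ι ≠ 2) (hI4 : Fintype.card ι ≠ 4)
    (hww : ∀ i j, ∑ x, w i x * w j x = 2 + if i = j then 1 else 0)
    (huu : ∑ x, u x * u x = 4) (huw : ∀ i, ∑ x, w i x * u x = 2)
    (hwd : ∀ i, ∑ x, deg x * w i x = 0) (hud : ∑ x, deg x * u x = 0) :
    Nonempty (Gen deg w u) ∨ Nonempty (ExA deg w u) ∨ Nonempty (ExB deg w u) := by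
  by_cases hI1 : Fintype.card ι = 1
  · exact Or.inl (single hdeg hI1 hww huu huw hwd hud)
  obtain ⟨δ, ψ, hδ, hψ, S, hS⟩ :=
    exists_common_vertex w deg hdeg (n := 2) (by omega) hww hwd
  have hδ2 : δ * δ = 1 := by rcases hδ with h | h <;> rw [h] <;> rfl
  obtain ⟨i₀⟩ := Fintype.card_pos_iff.1 hI
  have hI3 : (3 : ℤ) ≤ Fintype.card ι := by
    exact_mod_cast (show 3 ≤ Fintype.card ι by omega)
  have hN : ∀ i, ∑ x, S x * S x + 2 * (δ * S (ψ i)) + 1 = 3 := fun i => by
    have h := hww i i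
    have hv : unitVec (ψ i) (ψ i) = 1 := if_pos rfl
    simp only [hS i, add_mul, mul_add, sum_add_distrib, if_true, DihPrincipal.sum_mul_smul_unit,
      mul_assoc, ← mul_sum, sum_unitVec_mul, hv, mul_one, hδ2] at h
    linarith
  set k := δ * S (ψ i₀)
  have hk : ∀ i, S (ψ i) = δ * k := fun i => by
    have h1 := hN i
    have h2 := hN i₀
    rw [show k = δ * S (ψ i₀) from rfl, ← mul_assoc, hδ2, one_mul]
    rcases hδ with e | e <;> rw [e] at h1 h2 <;> omega
  set R := univ \ univ.image ψ with hR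
  have hsub : univ.image ψ ⊆ (univ : Finset B) := subset_univ _
  have hsplit : ∀ F : B → ℤ, ∑ x, F x = ∑ x ∈ R, F x + ∑ i, F (ψ i) := fun F => by
    rw [← sum_sdiff hsub, ← hR, sum_image fun a _ b _ e => hψ e]
  have hnorm : ∑ x ∈ R, S x * S x + Fintype.card ι * (k * k) + 2 * k = 2 := by
    have h := hN i₀
    rw [hsplit] at h
    simp only [hk, mul_mul_mul_comm δ k, hδ2, one_mul, sum_const, card_univ, nsmul_eq_mul,
      ← mul_assoc δ δ] at h
    linarith
  have hR0 : 0 ≤ ∑ x ∈ R, S x * S x := sum_nonneg fun x _ => mul_self_nonneg _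
  have hk0 : k = 0 ∨ k = -1 := by
    have h1 : 3 * (k * k) + 2 * k ≤ 2 := by nlinarith
    have h2 : k ≤ 0 := by nlinarith
    have h3 : -1 ≤ k := by nlinarith
    omega
  have hnψ : ∀ {x : B}, x ∈ R → ∀ i, ψ i ≠ x := fun {x} hx i h =>
    (mem_sdiff.1 hx).2 (mem_image.2 ⟨i, mem_univ _, h⟩)
  have hinR : ∀ x : B, x ∈ R ∨ ∃ i, ψ i = x := fun x => by
    by_cases h : ∃ i, ψ i = x
    · exact Or.inr h
    · exact Or.inl (mem_sdiff.2 ⟨mem_univ x, fun h' => h (by
        obtain ⟨i, -, e⟩ := mem_image.1 h'; exact ⟨i, e⟩)⟩)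
  have hsum1 : ∀ (i : ι), ∑ j, unitVec (ψ j) (ψ i) = 1 := fun i => by
    rw [sum_eq_single_of_mem i (mem_univ i) fun j _ hj => show unitVec (ψ j) (ψ i) = 0 from
      if_neg fun e => hj (hψ e.symm)]
    exact if_pos rfl
  have hsum0 : ∀ x, (∀ i, ψ i ≠ x) → ∑ j, unitVec (ψ j) x = 0 := fun x hx =>
    sum_eq_zero fun j _ => if_neg fun e => hx j e.symm
  rcases hk0 with hk0 | hk0
  · -- two centres
    rw [hk0] at hnorm
    obtain ⟨hpm, hcard⟩ := DihPrincipal.small_norm (f := S) (s := R) (by linarith)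
    obtain ⟨p, q, hpq, heq⟩ := card_eq_two.1 (show (R.filter fun x => S x ≠ 0).card = 2 by omega)
    have hp : p ∈ R.filter fun x => S x ≠ 0 := by rw [heq]; simp
    have hq : q ∈ R.filter fun x => S x ≠ 0 := by rw [heq]; simp
    rw [mem_filter] at hp hq
    have hSeq : ∀ x, S x = S p * unitVec p x + S q * unitVec q x :=
      eq_two (fun x hx => by
        rcases hinR x with h | ⟨i, rfl⟩
        · exact absurd h hx
        · rw [hk, hk0, mul_zero]) p q hpq heq
    have hwf : ∀ i x, w i x = S p * unitVec p x + S q * unitVec q x + δ * unitVec (ψ i) x :=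
      fun i x => by rw [hS i x, ← hSeq]
    have hp2 := sq_of_small (hpm p hp.1) hp.2
    have hq2 := sq_of_small (hpm q hq.1) hq.2
    have hdot : ∀ i, S p * u p + S q * u q + δ * u (ψ i) = 2 := fun i => by
      have h := huw i
      simp only [hwf i, add_mul, sum_add_distrib, mul_assoc, ← mul_sum, sum_unitVec_mul] at h
      exact h
    set m := δ * u (ψ i₀)
    have hm : ∀ i, u (ψ i) = δ * m := fun i => by
      have h1 := hdot i
      have h2 := hdot i₀
      linear_combination δ * h1 - δ * h2 - (u (ψ i)) * hδ2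
    have hnu : u p * u p + u q * u q + Fintype.card ι * (m * m) ≤ 4 := by
      rw [← huu, hsplit]
      simp only [hm, mul_mul_mul_comm δ m, hδ2, one_mul, sum_const, card_univ, nsmul_eq_mul]
      refine Int.add_le_add_right ?_ _
      rw [← sum_pair (f := fun x => u x * u x) hpq]
      exact sum_le_sum_of_subset_of_nonneg (insert_subset hp.1 (singleton_subset_iff.2 hq.1))
        fun x _ _ => mul_self_nonneg _
    have hU : ∀ {x : B}, S x * S x = 1 → S x * u x ≤ 1 ∧ -1 ≤ S x * u x ∧
        (S x * u x = 1 → u x = S x) ∧ (S x * u x = 0 → u x = 0) := fun {x} hx => by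
      rcases mul_self_eq_one_iff.1 hx with e | e <;>
        rcases u_small hdeg huu hud x with e' | e' | e' <;> rw [e, e'] <;> norm_num
    obtain ⟨hp3, hp4, hp5, hp6⟩ := hU hp2
    obtain ⟨hq3, hq4, hq5, hq6⟩ := hU hq2
    have h0 := hdot i₀
    have hm1 : m = 0 ∨ m = 1 := by
      have h1 : m ≤ 1 := by nlinarith
      have : m ≠ -1 := by omega
      have h2 : -1 ≤ m := by nlinarith
      omega
    rcases hm1 with hm1 | hm1
    · left
      refine exists_gen hdeg huu hud hwd p q ψ (S p) (S q) δ hp2 hq2 hδ2 hpq hψ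
        (fun i => ⟨hnψ hp.1 i, hnψ hq.1 i⟩) hwf (hp5 (by omega)) (hq5 (by omega))
        fun i => by rw [hm, hm1, mul_zero]
    · right; left
      have hc3 : Fintype.card ι = 3 := by
        have h5 : (Fintype.card ι : ℤ) ≤ 4 := by
          rw [hm1] at hnu
          nlinarith [mul_self_nonneg (u p), mul_self_nonneg (u q)]
        omega
      -- one of the centres
      obtain ⟨p, q, hpR, hqR, hp2, hq2, hpq, hwf, hup, huq⟩ : ∃ p q, p ∈ R ∧ q ∈ R ∧
          S p * S p = 1 ∧ S q * S q = 1 ∧ p ≠ q ∧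
          (∀ i x, w i x = S p * unitVec p x + S q * unitVec q x + δ * unitVec (ψ i) x) ∧
          u p = S p ∧ u q = 0 := by
        by_cases h : S p * u p = 1
        · exact ⟨p, q, hp.1, hq.1, hp2, hq2, hpq, hwf, hp5 h, hq6 (by omega)⟩
        · exact ⟨q, p, hq.1, hp.1, hq2, hp2, hpq.symm,
            fun i x => by rw [hwf i x]; ring, hq5 (by omega), hp6 (by omega)⟩
      have hrest : ∀ x ∈ R, x ≠ p → u x = 0 := fun x hx hne => by
        refine mul_self_eq_zero.1 (le_antisymm ?_ (mul_self_nonneg _))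
        have h := huu
        rw [hsplit] at h
        simp only [hm, hm1, mul_one, hδ2, sum_const, card_univ, nsmul_eq_mul, hc3] at h
        rw [← sum_erase_add _ _ hpR, hup, hp2] at h
        have := single_le_sum (f := fun y => u y * u y) (fun y _ => mul_self_nonneg _)
          (mem_erase.2 ⟨hne, hx⟩ : x ∈ R.erase p)
        push_cast at h
        linarith
      have hu : ∀ x, u x = S p * unitVec p x + δ * ∑ i, unitVec (ψ i) x := fun x => by
        rcases hinR x with h | ⟨i, rfl⟩
        · rw [hsum0 x (hnψ h), mul_zero, add_zero, unitVec]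
          split_ifs with e
          · rw [e, hup, mul_one]
          · rw [hrest x h e, mul_zero]
        · rw [hsum1 i, hm, hm1, mul_one, unitVec, if_neg (hnψ hpR i), mul_zero, zero_add]
      have hw' : ∀ i, S p * deg p + S q * deg q + δ * deg (ψ i) = 0 := fun i => by
        have h := hwd i
        simp only [hwf i, mul_add, sum_add_distrib, DihPrincipal.sum_mul_smul_unit] at h
        linarith
      have hu' : S p * deg p + δ * ∑ i, deg (ψ i) = 0 := by
        have h := hud
        simp only [hu, mul_add, sum_add_distrib, DihPrincipal.sum_mul_smul_unit,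
          mul_left_comm (deg _) δ, ← mul_sum (a := δ), sum_mul_unit_sum] at h
        linarith
      have hall : ∀ i, δ * ∑ j, deg (ψ j) = 3 * (δ * deg (ψ i)) := fun i => by
        rw [mul_sum, sum_congr rfl fun j _ => show δ * deg (ψ j) = δ * deg (ψ i) by
          linarith [hw' i, hw' j], sum_const, card_univ, hc3, nsmul_eq_mul]
        rfl
      exact ⟨⟨p, q, ψ, S p, S q, δ, hc3, ⟨hp2, hq2, hδ2⟩, hpq, hψ,
        fun i => ⟨hnψ hpR i, hnψ hqR i⟩, hwf, hu, fun i => by linarith [hall i],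
        fun i => by linarith [hall i, hw' i]⟩⟩
  · -- one centre
    right; right
    rw [hk0] at hnorm hk
    have hc3 : Fintype.card ι = 3 := by
      have : (Fintype.card ι : ℤ) ≤ 4 := by linarith
      omega
    rw [hc3] at hnorm
    push_cast at hnorm
    obtain ⟨hpm, hcard⟩ := DihPrincipal.small_norm (f := S) (s := R) (by linarith)
    obtain ⟨p, hp'⟩ := card_eq_one.1 (show (R.filter fun x => S x ≠ 0).card = 1 by omega)
    have hp : p ∈ R ∧ S p ≠ 0 := mem_filter.1 (by rw [hp']; exact mem_singleton_self p)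
    have hwf : ∀ i x,
        w i x = S p * unitVec p x - δ * ((∑ j, unitVec (ψ j) x) - unitVec (ψ i) x) := by
      intro i x
      rw [hS i x]
      rcases hinR x with h | ⟨j, rfl⟩
      · rw [hsum0 x (hnψ h), show unitVec (ψ i) x = 0 from if_neg fun e => hnψ h i e.symm]
        simp only [sub_zero, mul_zero, add_zero, unitVec]
        split_ifs with e
        · rw [e, mul_one]
        · rw [mul_zero]
          by_contra h'
          have : x ∈ R.filter fun x => S x ≠ 0 := mem_filter.2 ⟨h, h'⟩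
          rw [hp', mem_singleton] at this
          exact e this
      · rw [hsum1 j, hk, show unitVec p (ψ j) = 0 from if_neg (hnψ hp.1 j)]
        ring
    have hp2 := sq_of_small (hpm p hp.1) hp.2
    set m := δ * u (ψ i₀)
    have hdot : ∀ i, S p * u p - δ * ((∑ j, u (ψ j)) - u (ψ i)) = 2 := fun i => by
      have h := huw i
      simp only [hwf i, sub_mul, mul_sub, sum_sub_distrib, mul_assoc, ← mul_sum, sum_unitVec_mul] at h
      rw [show ∑ x, (∑ j, unitVec (ψ j) x) * u x = ∑ x, u x * ∑ j, unitVec (ψ j) x from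
        sum_congr rfl fun x _ => mul_comm _ _, sum_mul_unit_sum] at h
      linarith
    have hm : ∀ i, u (ψ i) = δ * m := fun i => by
      have h1 := hdot i
      have h2 := hdot i₀
      linear_combination δ * h1 - δ * h2 - (u (ψ i)) * hδ2
    have hUp : S p * u p = 2 + 2 * m := by
      have h := hdot i₀
      simp only [hm, sum_const, card_univ, hc3, nsmul_eq_mul] at h
      push_cast at h
      linear_combination h + 2 * m * hδ2
    have hUp1 : S p * u p ≤ 1 ∧ -1 ≤ S p * u p := by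
      rcases mul_self_eq_one_iff.1 hp2 with e | e <;>
        rcases u_small hdeg huu hud p with e' | e' | e' <;> rw [e, e'] <;> norm_num
    have hm1 : m = -1 := by omega
    have hup : u p = 0 := by
      rw [hm1] at hUp
      exact (mul_eq_zero.1 (hUp.trans (by norm_num))).resolve_left hp.2
    have hsumR : ∑ x ∈ R, u x * u x = 1 := by
      have h := huu
      rw [hsplit] at h
      simp only [hm, hm1, mul_mul_mul_comm δ (-1), hδ2, sum_const, card_univ, hc3, nsmul_eq_mul] at h
      push_cast at h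
      linarith
    obtain ⟨hum, hucard⟩ := DihPrincipal.small_norm (f := u) (s := R) (by linarith)
    obtain ⟨q, hq'⟩ := card_eq_one.1 (show (R.filter fun x => u x ≠ 0).card = 1 by omega)
    have hq : q ∈ R ∧ u q ≠ 0 := mem_filter.1 (by rw [hq']; exact mem_singleton_self q)
    have hu : ∀ x, u x = u q * unitVec q x - δ * ∑ j, unitVec (ψ j) x := fun x => by
      rcases hinR x with h | ⟨j, rfl⟩
      · rw [hsum0 x (hnψ h), mul_zero, sub_zero, unitVec]
        split_ifs with e
        · rw [e, mul_one]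
        · rw [mul_zero]
          by_contra h'
          have : x ∈ R.filter fun x => u x ≠ 0 := mem_filter.2 ⟨h, h'⟩
          rw [hq', mem_singleton] at this
          exact e this
      · rw [hsum1 j, hm, hm1, show unitVec q (ψ j) = 0 from if_neg (hnψ hq.1 j)]
        ring
    have hw' : ∀ i, S p * deg p - δ * ((∑ j, deg (ψ j)) - deg (ψ i)) = 0 := fun i => by
      have h := hwd i
      simp only [hwf i, mul_sub, sum_sub_distrib, DihPrincipal.sum_mul_smul_unit,
        mul_left_comm (deg _) δ, ← mul_sum (a := δ), sum_mul_unit_sum, DihPrincipal.sum_mul_unit] at h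
      linarith
    have hu' : u q * deg q - δ * ∑ j, deg (ψ j) = 0 := by
      have h := hud
      rw [sum_congr rfl fun x _ => congrArg (deg x * ·) (hu x)] at h
      simp only [mul_sub, sum_sub_distrib, DihPrincipal.sum_mul_smul_unit,
        mul_left_comm (deg _) δ, ← mul_sum (a := δ), sum_mul_unit_sum] at h
      linarith
    have hall : ∀ i, δ * ∑ j, deg (ψ j) = 3 * (δ * deg (ψ i)) := fun i => by
      rw [mul_sum, sum_congr rfl fun j _ => show δ * deg (ψ j) = δ * deg (ψ i) by
        linarith [hw' i, hw' j], sum_const, card_univ, hc3, nsmul_eq_mul]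
      rfl
    exact ⟨⟨p, q, ψ, S p, u q, δ, hc3,
      ⟨hp2, sq_of_small (u_small hdeg huu hud q) hq.2, hδ2⟩,
      fun e => hq.2 (e ▸ hup), hψ, fun i => ⟨hnψ hp.1 i, hnψ hq.1 i⟩, hwf, hu,
      fun i => by linarith [hall i, hw' i], fun i => by linarith [hall i]⟩⟩

end CfsgLib.GW.Eight.LinVec
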