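import Cfsg.Agent.GW.Eight.Linear.Twist
import Cfsg.Agent.GW.Eight.Linear.Coset
import Cfsg.Agent.GW.Linear.Tools

/-!
# Gorenstein–Walter, `|S| ≥ 8`, linear characters: localisation

A character of `U` linked to the invariant linear character by a block of `C(z)` has a conjugate fixed
by a reflection, and one fixed by `t` is the linear character or one of its rotations.
-/

set_option autoImplicit false
set_option linter.style.haveILetI false
set_option linter.unusedSectionVars false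

namespace CfsgLib.GW.Eight.Ctx

open Cfsg Finset CfsgLib.DihPrincipal CfsgLib.GW CfsgLib.Block CfsgLib.Block.Chr CfsgLib.Char
  CfsgLib.GW.Linear
open CfsgLib.GW.CaseI (conj_invol_eq conj_eq_of_commute commute_of_conj_eq invol_inv)
open CfsgLib.NormCyclic (Inv)
open CfsgLib.DGroup (conj_mem conj_mem' odd_orderOf)
open scoped ComplexConjugate Classical

universe u

variable {G : Type u} [Group G] [Fintype G] [Fact (Nat.Prime 2)] (C : Ctx G)

/-- The centraliser of `z`, as the section theory sees it. -/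
abbrev Hz : Subgroup G := Subgroup.centralizer ({C.z} : Set G)

/-- `U` inside it. -/
noncomputable abbrev NU : Subgroup (Hz C) := C.U.subgroupOf (Hz C)

instance normal_NU : (NU C).Normal := ⟨fun n hn g => by
  rw [Subgroup.mem_subgroupOf] at hn ⊢
  exact conj_mem (C.H_le_normalizer_U g.2) hn⟩

/-- An element of `U` in `NU`. -/
noncomputable abbrev toNU {x : G} (hx : x ∈ C.U) : NU C := ⟨⟨x, C.U_le_H hx⟩, hx⟩

/-- A function on `U` extended by zero. -/
noncomputable def ext0 (θ : NU C → ℂ) (x : G) : ℂ := if h : x ∈ C.U then θ (C.toNU h) else 0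

theorem ext0_of_mem (θ : NU C → ℂ) {x : G} (hx : x ∈ C.U) : C.ext0 θ x = θ (C.toNU hx) := dif_pos hx

theorem ext0_coe (θ : NU C → ℂ) (n : NU C) : C.ext0 θ ((n : Hz C) : G) = θ n := dif_pos n.2

theorem ext0_of_notMem (θ : NU C → ℂ) {x : G} (hx : x ∉ C.U) : C.ext0 θ x = 0 := dif_neg hx

theorem ext0_one (θ : NU C → ℂ) : C.ext0 θ 1 = θ 1 := C.ext0_coe θ 1

theorem conj_mem_U_iff {h x : G} (hh : h ∈ C.H) : h * x * h⁻¹ ∈ C.U ↔ x ∈ C.U := by
  refine ⟨fun hm => ?_, fun hx => conj_mem (C.H_le_normalizer_U hh) hx⟩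
  have := conj_mem' (C.H_le_normalizer_U hh) hm
  rwa [show h⁻¹ * (h * x * h⁻¹) * h = x by group] at this

theorem ext0_conj_U (θ : IrrCharacter (NU C)) {w : G} (hw : w ∈ C.U) (x : G) :
    C.ext0 (θ : NU C → ℂ) (w * x * w⁻¹) = C.ext0 (θ : NU C → ℂ) x := by
  by_cases hx : x ∈ C.U
  · rw [C.ext0_of_mem _ (mul_mem (mul_mem hw hx) (inv_mem hw)), C.ext0_of_mem _ hx,
      ← isClassFunction_irr θ (C.toNU hx) (C.toNU hw)]
    rfl
  · rw [C.ext0_of_notMem _ hx, C.ext0_of_notMem _ (mt (C.conj_mem_U_iff (C.U_le_H hw)).1 hx)]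

theorem isIntegral_ext0 (θ : IrrCharacter (NU C)) (x : G) :
    IsIntegral ℤ (C.ext0 (θ : NU C → ℂ) x) := by
  by_cases hx : x ∈ C.U
  · rw [C.ext0_of_mem _ hx]; exact IsCharacter.isIntegral (isCharacter_irr θ) _
  · rw [C.ext0_of_notMem _ hx]; exact isIntegral_zero

theorem ext0_conjIrr {p : G} (hp : p ∈ C.H) (θ : IrrCharacter (NU C)) :
    C.ext0 (conjIrr (⟨p, hp⟩ : Hz C) θ : NU C → ℂ) =
      fun x => C.ext0 (θ : NU C → ℂ) (p * x * p⁻¹) := by
  funext x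
  by_cases hx : x ∈ C.U
  · rw [C.ext0_of_mem _ hx, C.ext0_of_mem _ ((C.conj_mem_U_iff hp).2 hx)]
    rfl
  · rw [C.ext0_of_notMem _ hx, C.ext0_of_notMem _ (mt (C.conj_mem_U_iff hp).1 hx)]

theorem sum_NU [Fintype (NU C)] (f : G → ℂ) :
    ∑ n : NU C, f ((n : Hz C) : G) = ∑ x ∈ fin C.U, f x :=
  sum_bij (fun (n : NU C) _ => ((n : Hz C) : G)) (fun n _ => mem_fin.2 n.2)
    (fun _ _ _ _ e => Subtype.ext (Subtype.ext e))
    (fun x hx => ⟨C.toNU (mem_fin.1 hx), mem_univ _, rfl⟩) fun _ _ => rfl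

theorem card_NU : Nat.card (NU C) = Nat.card C.U :=
  Nat.card_congr (Subgroup.subgroupOfEquivOfLe C.U_le_H).toEquiv

/-- Orthogonality of the extended characters. -/
theorem sum_ext0_mul [Fintype (NU C)] (φ θ : IrrCharacter (NU C)) :
    ∑ x ∈ fin C.U, C.ext0 (φ : NU C → ℂ) x⁻¹ * C.ext0 (θ : NU C → ℂ) x =
      if θ = φ then (Nat.card C.U : ℂ) else 0 := by
  have h := classInner_irr θ φ
  rw [classInner, C.card_NU, inv_mul_eq_iff_eq_mul₀ C.card_U_ne, mul_ite, mul_one, mul_zero] at h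
  rw [← h, ← C.sum_NU (fun x => C.ext0 (φ : NU C → ℂ) x⁻¹ * C.ext0 (θ : NU C → ℂ) x)]
  refine sum_congr rfl fun n _ => ?_
  rw [conj_irr, mul_comm]
  exact congrArg₂ (· * ·) (C.ext0_coe _ n) (C.ext0_coe _ n⁻¹)

/-! ### Elements commuting with a reflection -/

/-- Commutes with a reflection. -/
def Dlike (x : G) : Prop := ∃ v ∈ C.data.refl, Commute v x

theorem t_mem_refl : C.t ∈ C.data.refl := by
  have := C.data.rot_refl_mem (one_mem (Subgroup.zpowers C.s))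
  rwa [one_mul] at this

theorem dlike_conj {x h : G} (hx : C.Dlike x) (hh : h ∈ C.H) : C.Dlike (h * x * h⁻¹) := by
  obtain ⟨v, hv, hc⟩ := hx
  exact ⟨h * v * h⁻¹, C.data.conj_mem_refl hv hh, (Commute.conj_iff h).2 hc⟩

/-- Conjugate elements of `U`, one commuting with no reflection, are conjugate in `H`. -/
theorem exists_conj_H {x y g : G} (hx : x ∈ C.U) (hy : y ∈ C.U) (hn : ¬ C.Dlike y)
    (hg : g * x * g⁻¹ = y) : ∃ h ∈ C.H, h * x * h⁻¹ = y := by
  set v := g * C.z * g⁻¹ with hv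
  have hvi : Inv v := C.inv_z.conj g
  have hvy : Commute v y := by
    rw [← hg, hv]; exact (Commute.conj_iff g).2 (C.mem_H.1 (C.U_le_H hx)).symm
  have hzy : Commute C.z y := (C.mem_H.1 (C.U_le_H hy)).symm
  have hrefl : ∀ w : G, Inv w → Commute w C.z → w ≠ C.z → Commute w y → False :=
    fun w hw hwz hne hwy =>
      hn ⟨w, mem_filter.2 ⟨mem_univ _, C.mem_H.2 hwz, hw.1, hw.2, hne⟩, hwy⟩
  by_cases hodd : Odd (orderOf (v * C.z))
  · obtain ⟨k, hk, hkv⟩ := CfsgLib.Invol.exists_conj_of_odd hvi.orderOf C.inv_z.orderOf hodd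
    have hky : Commute k y := by
      have hle : Subgroup.closure ({v, C.z} : Set G) ≤ Subgroup.centralizer ({y} : Set G) := by
        rw [Subgroup.closure_le]
        rintro w (rfl | rfl)
        exacts [Subgroup.mem_centralizer_singleton_iff.2 hvy.eq,
          Subgroup.mem_centralizer_singleton_iff.2 hzy.eq]
      exact Subgroup.mem_centralizer_singleton_iff.1 (hle hk)
    refine ⟨k * g, C.mem_H.2 ?_, ?_⟩
    · show k * g * C.z = C.z * (k * g)
      calc k * g * C.z = (k * v * k⁻¹) * (k * g) := by rw [hv]; group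
        _ = _ := by rw [hkv]
    · calc k * g * x * (k * g)⁻¹ = k * (g * x * g⁻¹) * k⁻¹ := by group
        _ = y := by rw [hg, hky.eq, mul_inv_cancel_right]
  · obtain ⟨hw2, hwv, hwz⟩ := CfsgLib.Invol.half_props hvi.orderOf C.inv_z.orderOf
      (Nat.not_odd_iff_even.1 hodd)
    set w := (v * C.z) ^ (orderOf (v * C.z) / 2) with hw
    by_cases hweq : w = C.z
    · have hvz : Commute v C.z := (hweq ▸ hwv).symm
      by_cases hveq : v = C.z
      · exact ⟨g, C.mem_H.2 (mul_inv_eq_iff_eq_mul.1 hveq), hg⟩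
      · exact (hrefl v hvi hvz hveq hvy).elim
    · exact (hrefl w (Inv.of_orderOf hw2) hwz hweq ((hvy.mul_left hzy).pow_left _)).elim

/-- Conjugate elements of `D1` are conjugate by rotations and an element of `H`. -/
theorem fusion_D1 {r : G} (h1 : r * C.z * r⁻¹ = C.t) (h2 : r * C.t * r⁻¹ = C.z * C.t) {d d' g : G}
    (hd : d ∈ C.D1) (hd' : d' ∈ C.D1) (hg : g * d * g⁻¹ = d') :
    ∃ (i j : ℕ), ∃ h ∈ C.H, ∀ e e' : G, r ^ i * e * (r ^ i)⁻¹ = d → r ^ j * e' * (r ^ j)⁻¹ = d' →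
      h * e * h⁻¹ = e' := by
  have h3 := C.cycle_third h1 h2
  set K := Subgroup.centralizer ({d'} : Set G)
  have hV : C.V1 ≤ K := fun v hv => Subgroup.mem_centralizer_singleton_iff.2 (C.V1_commute_D1 hv hd').eq
  have hW : C.V1.map (MulAut.conj g).toMonoidHom ≤ K := by
    rintro _ ⟨v, hv, rfl⟩
    refine Subgroup.mem_centralizer_singleton_iff.2 ?_
    rw [← hg]
    exact ((Commute.conj_iff g).2 (C.V1_commute_D1 hv hd)).eq
  have hVp : IsPGroup 2 C.V1 := CaseII.isPGroup_V1 C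
  obtain ⟨R, hR⟩ := (hVp.comap_subtype (K := K)).exists_le_sylow
  obtain ⟨R', hR'⟩ := ((hVp.map (MulAut.conj g).toMonoidHom).comap_subtype (K := K)).exists_le_sylow
  obtain ⟨k, hk⟩ := MulAction.exists_smul_eq K R' R
  set g' := (k : G) * g with hg'
  have hg'd : g' * d * g'⁻¹ = d' := by
    rw [show g' * d * g'⁻¹ = (k : G) * (g * d * g⁻¹) * (k : G)⁻¹ by rw [hg']; group, hg,
      Subgroup.mem_centralizer_singleton_iff.1 k.2, mul_inv_cancel_right]
  have hVR : ∀ v ∈ C.V1, ∀ hvK : v ∈ K, (⟨v, hvK⟩ : K) ∈ (R : Subgroup K) := fun v hv hvK => hR hv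
  have hWR : ∀ v ∈ C.V1, ∃ hvK : g' * v * g'⁻¹ ∈ K, (⟨g' * v * g'⁻¹, hvK⟩ : K) ∈ (R : Subgroup K) := by
    intro v hv
    have hgv : g * v * g⁻¹ ∈ K := hW ⟨v, hv, rfl⟩
    have hm : k * ⟨g * v * g⁻¹, hgv⟩ * k⁻¹ ∈ (R : Subgroup K) := by
      rw [← hk, Sylow.smul_def, Sylow.pointwise_smul_def]
      exact Subgroup.smul_mem_pointwise_smul _ (MulAut.conj k) _ (hR' ⟨v, hv, rfl⟩)
    have hK : g' * v * g'⁻¹ ∈ K := by
      rw [show g' * v * g'⁻¹ = (k : G) * (g * v * g⁻¹) * (k : G)⁻¹ by rw [hg']; group]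
      exact mul_mem (mul_mem k.2 hgv) (inv_mem k.2)
    refine ⟨hK, ?_⟩
    convert hm using 1
    refine Subtype.ext ?_
    show g' * v * g'⁻¹ = (k : G) * (g * v * g⁻¹) * (k : G)⁻¹
    rw [hg']; group
  haveI : Nontrivial (R : Subgroup K) := by
    refine ⟨⟨⟨⟨C.z, hV C.z_mem_V1⟩, hVR _ C.z_mem_V1 _⟩, 1, fun e => C.inv_z.2 ?_⟩⟩
    exact congrArg (fun y : (R : Subgroup K) => ((y : K) : G)) e
  haveI := IsPGroup.center_nontrivial R.2
  obtain ⟨⟨⟨⟨w, hwK⟩, hwR⟩, hwc⟩, hw1⟩ := exists_ne (1 : Subgroup.center (R : Subgroup K))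
  have hwne : w ≠ 1 := fun e => hw1 (Subtype.ext (Subtype.ext (Subtype.ext e)))
  have hcomm : ∀ {v : G} (hvK : v ∈ K), (⟨v, hvK⟩ : K) ∈ (R : Subgroup K) → Commute w v :=
    fun {v} hvK hv => by
      have := congrArg (fun y : (R : Subgroup K) => ((y : K) : G))
        (Subgroup.mem_center_iff.1 hwc ⟨⟨v, hvK⟩, hv⟩)
      exact this.symm
  have hwp : ∃ e, w ^ 2 ^ e = 1 := by
    obtain ⟨e, he⟩ := R.2 ⟨⟨w, hwK⟩, hwR⟩
    exact ⟨e, congrArg (fun y : (R : Subgroup K) => ((y : K) : G)) he⟩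
  have hwV : w ∈ C.V1 := CaseII.mem_V1_of_commute C (hcomm _ (hVR _ C.z_mem_V1 (hV C.z_mem_V1)))
    (hcomm _ (hVR _ C.t_mem_V1 (hV C.t_mem_V1))) hwp
  have hpull : ∀ v ∈ C.V1, Commute (g'⁻¹ * w * g') v := fun v hv => by
    obtain ⟨hK, hm⟩ := hWR v hv
    have := (Commute.conj_iff g'⁻¹).2 (hcomm hK hm)
    rwa [inv_inv, show g'⁻¹ * (g' * v * g'⁻¹) * g' = v by group] at this
  have hwV' : g'⁻¹ * w * g' ∈ C.V1 := by
    refine CaseII.mem_V1_of_commute C (hpull _ C.z_mem_V1) (hpull _ C.t_mem_V1) ?_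
    obtain ⟨e, he⟩ := hwp
    exact ⟨e, by
      have := conj_pow (i := 2 ^ e) (a := g'⁻¹) (b := w)
      rw [inv_inv, he, mul_one, inv_mul_cancel] at this
      exact this⟩
  have hidx : ∀ v ∈ C.V1, v ≠ 1 → ∃ i : ℕ, r ^ i * C.z * (r ^ i)⁻¹ = v := by
    intro v hv hv1
    rcases C.mem_V1.1 hv with rfl | rfl | rfl | rfl
    · exact absurd rfl hv1
    · exact ⟨0, by simp⟩
    · exact ⟨1, by rw [pow_one, h1]⟩
    · exact ⟨2, by
        rw [show r ^ 2 * C.z * (r ^ 2)⁻¹ = r * (r * C.z * r⁻¹) * r⁻¹ by rw [sq]; group, h1, h2]⟩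
  obtain ⟨i, hi⟩ := hidx _ hwV' (fun e => hwne (by
    have := congrArg (fun y => g' * y * g'⁻¹) e
    simpa [mul_assoc] using this))
  obtain ⟨j, hj⟩ := hidx w hwV hwne
  refine ⟨i, j, (r ^ j)⁻¹ * g' * r ^ i, C.mem_H.2 (mul_inv_eq_iff_eq_mul.1 ?_), fun e e' he he' => ?_⟩
  · calc (r ^ j)⁻¹ * g' * r ^ i * C.z * ((r ^ j)⁻¹ * g' * r ^ i)⁻¹
        = (r ^ j)⁻¹ * (g' * (r ^ i * C.z * (r ^ i)⁻¹) * g'⁻¹) * r ^ j := by group
      _ = (r ^ j)⁻¹ * w * r ^ j := by rw [hi]; group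
      _ = C.z := by rw [← hj]; group
  · calc (r ^ j)⁻¹ * g' * r ^ i * e * ((r ^ j)⁻¹ * g' * r ^ i)⁻¹
        = (r ^ j)⁻¹ * (g' * (r ^ i * e * (r ^ i)⁻¹) * g'⁻¹) * r ^ j := by group
      _ = (r ^ j)⁻¹ * d' * r ^ j := by rw [he, hg'd]
      _ = e' := by rw [← he']; group

/-! ### Linked characters -/

omit [Fintype G] [Fact (Nat.Prime 2)] in
/-- A sum over pairs of equal integral summands is twice an integral number. -/
theorem exists_half {α : Type*} (f : α → ℂ) (σ : α → α) :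
    ∀ s : Finset α, (∀ x ∈ s, σ x ∈ s) → (∀ x ∈ s, σ (σ x) = x) → (∀ x ∈ s, σ x ≠ x) →
      (∀ x ∈ s, IsIntegral ℤ (f x)) → (∀ x ∈ s, f (σ x) = f x) →
      ∃ I : ℂ, IsIntegral ℤ I ∧ ∑ x ∈ s, f x = 2 * I := by
  intro s
  induction s using Finset.strongInductionOn with
  | _ s ih =>
    intro hs hσ hne hf hfσ
    rcases s.eq_empty_or_nonempty with rfl | ⟨a, ha⟩
    · exact ⟨0, isIntegral_zero, by simp⟩
    set s' := (s.erase a).erase (σ a) with hs'
    have hsub : ∀ {x}, x ∈ s' → x ∈ s := fun hx => mem_of_mem_erase (mem_of_mem_erase hx)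
    have hlt : s' ⊂ s := (erase_subset _ _).trans_ssubset (erase_ssubset ha)
    have hclosed : ∀ x ∈ s', σ x ∈ s' := fun x hx => by
      simp only [hs', mem_erase] at hx ⊢
      obtain ⟨h1, h2, h3⟩ := hx
      exact ⟨fun e => h2 (by rw [← hσ x h3, e, hσ a ha]),
        fun e => h1 (by rw [← hσ x h3, e]), hs x h3⟩
    obtain ⟨I, hI, e⟩ := ih s' hlt hclosed (fun x hx => hσ x (hsub hx))
      (fun x hx => hne x (hsub hx)) (fun x hx => hf x (hsub hx)) (fun x hx => hfσ x (hsub hx))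
    refine ⟨f a + I, (hf a ha).add hI, ?_⟩
    rw [← add_sum_erase _ _ ha, ← add_sum_erase _ _ (mem_erase.2 ⟨hne a ha, hs a ha⟩), ← hs', e,
      hfσ a ha]
    ring

/-- A class function of `G` which is locally integral and, on `H`, supported in `U` sees the same
value at the character of `U` and at the linear character. -/
def Linked (M : Ideal AlgInt) [M.IsPrime] (lam : G → ℂ) (θ : IrrCharacter (NU C)) : Prop :=
  ∀ a : G → ℂ, IsIntClass M a → (∀ h ∈ C.H, h ∉ C.U → a h = 0) →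
    MemLocalIdeal M ((∑ x ∈ fin C.U, a x * C.ext0 (θ : NU C → ℂ) x) / (θ : NU C → ℂ) 1 -
      ∑ x ∈ fin C.U, a x * lam x)

variable {M : Ideal AlgInt} [M.IsPrime] (hM : IsPModular 2 M)

include hM in
theorem not_memLocalIdeal_card (S : Subgroup G) (hS : Odd (Nat.card S)) (k : ℕ) (hk : Odd k) :
    ¬ MemLocalIdeal M ((k : ℂ) * Nat.card S) := by
  rw [← Nat.cast_mul]
  exact mt (memLocalIdeal_natCast_iff hM).1 (Nat.two_dvd_ne_zero.2 (Nat.odd_iff.1 (hk.mul hS)))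

include hM in
/-- The degree of a character of `U` and its codegree are units at `2`. -/
theorem theta_unit [Fintype (NU C)] (θ : IrrCharacter (NU C)) :
    ¬ MemLocalIdeal M ((θ : NU C → ℂ) 1) ∧
      ¬ MemLocalIdeal M ((Nat.card C.U : ℂ) / (θ : NU C → ℂ) 1) := by
  have hU : ¬ MemLocalIdeal M (Nat.card C.U : ℂ) :=
    mt (memLocalIdeal_natCast_iff hM).1 (Nat.two_dvd_ne_zero.2 (Nat.odd_iff.1 C.odd_U))
  have hc : IsIntClass M (fun n : NU C => conj ((θ : NU C → ℂ) n)) :=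
    ⟨fun n x => by simp only [isClassFunction_irr θ n x], fun n => by
      show MemLocalRing M (conj ((θ : NU C → ℂ) n))
      rw [conj_irr]; exact irr_mem θ _⟩
  have e : omega (θ : NU C → ℂ) (fun n : NU C => conj ((θ : NU C → ℂ) n)) =
      (Nat.card C.U : ℂ) / (θ : NU C → ℂ) 1 := by
    rw [omega, ← C.card_NU]
    congr 1
    have h := classInner_irr θ θ
    rw [if_pos rfl, classInner, inv_mul_eq_iff_eq_mul₀ (Nat.cast_ne_zero.2 Nat.card_pos.ne'),
      mul_one] at h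
    rw [← h]
    exact sum_congr rfl fun n _ => mul_comm _ _
  have hr := omega_mem θ hc
  rw [e] at hr
  have hmul : (Nat.card C.U : ℂ) / (θ : NU C → ℂ) 1 * (θ : NU C → ℂ) 1 = Nat.card C.U :=
    div_mul_cancel₀ _ (irr_one_ne_zero θ)
  exact ⟨fun h => hU (hmul ▸ memLocalIdeal_mul_left hr h),
    fun h => hU (hmul ▸ memLocalIdeal_mul_right h (irr_mem θ 1))⟩

/-- A conjugate of a character, as a function. -/
noncomputable def orbFun (θ : IrrCharacter (NU C)) (p x : G) : ℂ :=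
  C.ext0 (θ : NU C → ℂ) (p * x * p⁻¹)

/-- The conjugates under the Sylow subgroup. -/
noncomputable def orb (θ : IrrCharacter (NU C)) : Finset (G → ℂ) :=
  (fin (C.P : Subgroup G)).image (C.orbFun θ)

theorem orbFun_comp (θ : IrrCharacter (NU C)) {p h : G} (hp : p ∈ (C.P : Subgroup G))
    (hh : h ∈ C.H) :
    (fun x => C.orbFun θ p (h * x * h⁻¹)) = C.orbFun θ (p * C.pr h) := by
  funext x
  show C.ext0 (θ : NU C → ℂ) _ = C.ext0 (θ : NU C → ℂ) _
  rw [show p * (h * x * h⁻¹) * p⁻¹ = p * (h * (C.pr h)⁻¹) * p⁻¹ *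
      (p * C.pr h * x * (p * C.pr h)⁻¹) * (p * (h * (C.pr h)⁻¹) * p⁻¹)⁻¹ by group,
    C.ext0_conj_U θ (conj_mem (C.H_le_normalizer_U (C.P_le_H hp)) (C.upart_mem hh))]

theorem orb_comp_mem (θ : IrrCharacter (NU C)) {f : G → ℂ} (hf : f ∈ C.orb θ) {h : G}
    (hh : h ∈ C.H) : (fun x => f (h * x * h⁻¹)) ∈ C.orb θ := by
  obtain ⟨p, hp, rfl⟩ := mem_image.1 hf
  rw [C.orbFun_comp θ (mem_fin.1 hp) hh]
  exact mem_image.2 ⟨_, mem_fin.2 (mul_mem (mem_fin.1 hp) (C.data.proj_mem h)), rfl⟩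

/-- The sum over the conjugates, at the inverse. -/
noncomputable def orbSum (θ : IrrCharacter (NU C)) (y : G) : ℂ := ∑ f ∈ C.orb θ, f y⁻¹

theorem orbSum_conj (θ : IrrCharacter (NU C)) {h : G} (hh : h ∈ C.H) (y : G) :
    C.orbSum θ (h * y * h⁻¹) = C.orbSum θ y := by
  rw [orbSum, orbSum, show (h * y * h⁻¹)⁻¹ = h * y⁻¹ * h⁻¹ by group]
  refine sum_bij (fun f _ => fun x => f (h * x * h⁻¹)) (fun f hf => C.orb_comp_mem θ hf hh)
    (fun f _ f' _ e => funext fun x => ?_) (fun f hf => ⟨_, C.orb_comp_mem θ hf (inv_mem hh), ?_⟩)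
    fun f _ => rfl
  · have := congrFun e (h⁻¹ * x * h)
    simpa [mul_assoc] using this
  · funext x; simp [mul_assoc]

/-- The test function away from the reflections. -/
noncomputable def testN (θ : IrrCharacter (NU C)) (x : G) : ℂ :=
  if h : ∃ y, IsConj x y ∧ y ∈ C.U ∧ ¬ C.Dlike y then C.orbSum θ h.choose else 0

theorem testN_of (θ : IrrCharacter (NU C)) {x y : G} (hy : y ∈ C.U) (hn : ¬ C.Dlike y)
    (h : IsConj x y) : C.testN θ x = C.orbSum θ y := by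
  have he : ∃ y, IsConj x y ∧ y ∈ C.U ∧ ¬ C.Dlike y := ⟨y, h, hy, hn⟩
  rw [testN, dif_pos he]
  obtain ⟨hc, hU, -⟩ := he.choose_spec
  obtain ⟨g, hg⟩ := isConj_iff.1 (hc.symm.trans h)
  obtain ⟨k, hk, hkc⟩ := C.exists_conj_H hU hy hn hg
  rw [← hkc, C.orbSum_conj θ hk]

theorem mem_U_of_isConj {x d : G} (hd : d ∈ C.U) (h : IsConj x d) (hx : x ∈ C.H) : x ∈ C.U := by
  obtain ⟨g, hg⟩ := isConj_iff.1 h
  refine C.mem_U_of_odd hx ?_
  rw [← CfsgLib.Invol.orderOf_conj_eq g x, hg]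
  exact odd_orderOf C.odd_U hd

variable {lam : G → ℂ}

include hM in
/-- **Some reflection fixes a conjugate of a linked character.** -/
theorem exists_fixing [Fintype (NU C)] (hl : IsLin C lam)
    (hi : ∀ h ∈ C.H, ∀ x ∈ C.U, lam (h * x * h⁻¹) = lam x) {θ : IrrCharacter (NU C)}
    (hlink : C.Linked M lam θ) :
    ∃ r ∈ (C.P : Subgroup G), r ∉ Subgroup.zpowers C.s ∧
      ∀ x : G, C.ext0 (θ : NU C → ℂ) (r * x * r⁻¹) = C.ext0 (θ : NU C → ℂ) x := by
  by_contra hno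
  set T := C.ext0 (θ : NU C → ℂ) with hT
  set S := C.orbSum θ with hSdef
  have hint : ∀ f ∈ C.orb θ, ∀ x, IsIntegral ℤ (f x) := fun f hf x => by
    obtain ⟨p, -, rfl⟩ := mem_image.1 hf
    exact C.isIntegral_ext0 θ _
  have hSint : ∀ y, IsIntegral ℤ (S y) := fun y => IsIntegral.sum _ fun f hf => hint f hf _
  have hTN : IsIntClass M (C.testN θ) := by
    refine ⟨fun x g => ?_, fun x => memLocalRing_of_isIntegral ?_⟩
    · have hxy : IsConj x (g * x * g⁻¹) := isConj_iff.2 ⟨g, rfl⟩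
      by_cases h : ∃ y, IsConj x y ∧ y ∈ C.U ∧ ¬ C.Dlike y
      · obtain ⟨y, hc, hy, hn⟩ := h
        rw [C.testN_of θ hy hn hc, C.testN_of θ hy hn (hxy.symm.trans hc)]
      · rw [testN, testN, dif_neg h, dif_neg fun ⟨y, hc, hy⟩ => h ⟨y, hxy.trans hc, hy⟩]
    · rw [testN]; split_ifs
      exacts [hSint _, isIntegral_zero]
  have hsum := hlink (C.testN θ) hTN fun h hh hU => dif_neg fun ⟨y, hc, hy, _⟩ =>
    hU (C.mem_U_of_isConj hy hc hh)
  set P' := (fin C.U).filter fun x => ¬ C.Dlike x with hP'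
  set Q := (fin C.U).filter fun x => C.Dlike x with hQ
  have hsplit : ∀ g : G → ℂ, ∑ x ∈ fin C.U, C.testN θ x * g x = ∑ x ∈ P', S x * g x := fun g => by
    rw [hP', sum_filter]
    refine sum_congr rfl fun x hx => ?_
    by_cases h : C.Dlike x
    · rw [if_neg (not_not.2 h), testN, dif_neg, zero_mul]
      rintro ⟨y, hc, hy, hn⟩
      obtain ⟨g, hg⟩ := isConj_iff.1 hc
      obtain ⟨k, hk, hkc⟩ := C.exists_conj_H (mem_fin.1 hx) hy hn hg
      exact hn (hkc ▸ C.dlike_conj h hk)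
    · rw [if_pos h, C.testN_of θ (mem_fin.1 hx) h (IsConj.refl x)]
  rw [hsplit, hsplit] at hsum
  have htU : ∀ x, C.t * x * C.t ∈ C.U ↔ x ∈ C.U := fun x => by
    rw [← conj_invol_eq C.inv_t.1]; exact C.conj_mem_U_iff C.t_mem_H
  -- the free pairing
  have hfree : MemLocalIdeal M (∑ x ∈ P', S x * lam x) := by
    refine pairing_free hM P' _ (fun x => C.t * x * C.t) (fun x hx => ?_) (fun x _ => ?_)
      (fun x hx he => ?_) (fun x hx => memLocalRing_of_isIntegral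
        ((hSint x).mul (hl.isIntegral (mem_fin.1 (mem_filter.1 hx).1)))) fun x hx => ?_
    · obtain ⟨h1, h2⟩ := mem_filter.1 hx
      refine mem_filter.2 ⟨mem_fin.2 ((htU x).2 (mem_fin.1 h1)), fun h => h2 ?_⟩
      have := C.dlike_conj h C.t_mem_H
      rwa [conj_invol_eq C.inv_t.1, show C.t * (C.t * x * C.t) * C.t =
        C.t * C.t * x * (C.t * C.t) by group, C.inv_t.1, one_mul, mul_one] at this
    · rw [show C.t * (C.t * x * C.t) * C.t = C.t * C.t * x * (C.t * C.t) by group, C.inv_t.1,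
        one_mul, mul_one]
    · exact (mem_filter.1 hx).2 ⟨C.t, C.t_mem_refl, (commute_of_conj_eq C.inv_t.1 he).symm⟩
    · rw [← conj_invol_eq C.inv_t.1, hSdef, C.orbSum_conj θ C.t_mem_H,
        hi _ C.t_mem_H x (mem_fin.1 (mem_filter.1 hx).1)]
  -- the self product
  have hconjIrr : ∀ p (hp : p ∈ (C.P : Subgroup G)), C.orbFun θ p =
      C.ext0 (conjIrr (⟨p, C.P_le_H hp⟩ : Hz C) θ : NU C → ℂ) := fun p hp =>
    (C.ext0_conjIrr (C.P_le_H hp) θ).symm
  have hone : C.orbFun θ 1 = T := by funext x; simp [orbFun, hT]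
  have htot : ∑ x ∈ fin C.U, S x * T x = Nat.card C.U := by
    simp only [hSdef, orbSum, sum_mul]
    rw [sum_comm, sum_eq_single_of_mem T (show T ∈ C.orb θ from
      mem_image.2 ⟨1, mem_fin.2 (one_mem _), hone⟩)]
    · rw [hT, C.sum_ext0_mul θ θ, if_pos rfl]
    · intro f hf hne
      obtain ⟨p, hp, rfl⟩ := mem_image.1 hf
      rw [hconjIrr p (mem_fin.1 hp), hT, C.sum_ext0_mul, if_neg]
      intro e
      exact hne (by rw [hconjIrr p (mem_fin.1 hp), ← e, hT])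
  have hhalf : ∀ x : G, C.Dlike x → IsIntegral ℤ (S x / 2) := by
    rintro x ⟨v, hv, hvx⟩
    obtain ⟨-, hvH, hv2, -, -⟩ := mem_filter.1 hv
    have hne' : ∀ f ∈ C.orb θ, (fun y => f (v * y * v⁻¹)) ≠ f := by
      intro f hf he
      obtain ⟨p, hp, rfl⟩ := mem_image.1 hf
      have hp' := mem_fin.1 hp
      have e : C.orbFun θ (p * C.pr v) = C.orbFun θ p := (C.orbFun_comp θ hp' hvH).symm.trans he
      refine hno ⟨p * C.pr v * p⁻¹, mul_mem (mul_mem hp' (C.data.proj_mem v)) (inv_mem hp'),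
        fun hA => C.data.proj_refl hv ?_, fun y => ?_⟩
      · rcases C.data.conj_rot (inv_mem hp') hA with h | h <;>
          rw [inv_inv, show p⁻¹ * (p * C.pr v * p⁻¹) * p = C.pr v by group] at h <;>
          show C.pr v ∈ _ <;> rw [h]
        exacts [hA, inv_mem hA]
      · have := congrFun e (p⁻¹ * y * p)
        simpa [orbFun, mul_assoc, hT] using this
    obtain ⟨I, hI, e⟩ := exists_half (fun f : G → ℂ => f x⁻¹) (fun f y => f (v * y * v⁻¹)) (C.orb θ)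
      (fun f hf => C.orb_comp_mem θ hf hvH) (fun f _ => funext fun y => by
        show f (v * (v * y * v⁻¹) * v⁻¹) = f y
        rw [show v * (v * y * v⁻¹) * v⁻¹ = v * v * y * (v * v)⁻¹ by group, hv2, one_mul, inv_one,
          mul_one])
      hne' (fun f hf => hint f hf _) fun f _ => by
        show f (v * x⁻¹ * v⁻¹) = f x⁻¹
        rw [hvx.inv_right.eq, mul_inv_cancel_right]
    rw [hSdef, orbSum, e, mul_div_cancel_left₀ _ two_ne_zero]; exact hI
  let g : NU C → ℂ := fun n => if C.Dlike ((n : Hz C) : G) then S ((n : Hz C) : G) / 2 else 0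
  have hg : IsIntClass M g := by
    refine ⟨fun n m => ?_, fun n => ?_⟩
    · simp only [g, Subgroup.coe_mul, InvMemClass.coe_inv]
      refine if_congr ⟨fun h => ?_, fun h => C.dlike_conj h (m : Hz C).2⟩
        (by rw [hSdef, C.orbSum_conj θ (m : Hz C).2]) rfl
      have := C.dlike_conj h (C.H.inv_mem (m : Hz C).2)
      simpa [mul_assoc] using this
    · simp only [g]
      split_ifs with h
      exacts [memLocalRing_of_isIntegral (hhalf _ h), memLocalRing_zero]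
  have hQsum : ∑ x ∈ Q, S x * T x = 2 * (omega (θ : NU C → ℂ) g * (θ : NU C → ℂ) 1) := by
    rw [omega, div_mul_cancel₀ _ (irr_one_ne_zero θ), hQ, sum_filter,
      ← C.sum_NU (fun x => if C.Dlike x then S x * T x else 0), mul_sum]
    refine sum_congr rfl fun n _ => ?_
    simp only [g, hT, C.ext0_coe]
    split_ifs <;> ring
  have hPval : ∑ x ∈ P', S x * T x =
      Nat.card C.U - 2 * (omega (θ : NU C → ℂ) g * (θ : NU C → ℂ) 1) := by
    rw [← htot, ← hQsum, hP', hQ, ← sum_filter_add_sum_filter_not (fin C.U)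
      (fun x => C.Dlike x) (fun x => S x * T x)]
    ring
  rw [hPval] at hsum
  have h3 := memLocalIdeal_add hsum hfree
  rw [sub_add_cancel, sub_div, mul_div_assoc, mul_div_cancel_right₀ _ (irr_one_ne_zero θ)] at h3
  have h4 := memLocalIdeal_add h3
    (memLocalIdeal_mul_right (memLocalIdeal_p hM) (omega_mem θ hg))
  rw [Nat.cast_ofNat, sub_add_cancel] at h4
  exact (C.theta_unit hM θ).2 h4

variable {C}

/-- The sum of the inverses of the rotations. -/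
noncomputable def Twist.orbit (T : Twist C lam) (x : G) : ℂ := lam x⁻¹ + T.nu x⁻¹ + T.nu' x⁻¹

theorem Twist.orbit_conj (T : Twist C lam) {h x : G} (hh : h ∈ C.H) (hx : x ∈ C.U) :
    T.orbit (h * x * h⁻¹) = T.orbit x := by
  rw [Twist.orbit, Twist.orbit, show (h * x * h⁻¹)⁻¹ = h * x⁻¹ * h⁻¹ by group,
    T.inv h hh _ (inv_mem hx)]
  rcases T.perm h hh with e | e <;> rw [(e _ (inv_mem hx)).1, (e _ (inv_mem hx)).2]
  ring

theorem Twist.orbit_rot (T : Twist C lam) {d : G} (hd : d ∈ C.D1) :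
    T.orbit (T.r * d * T.r⁻¹) = T.orbit d := by
  rw [Twist.orbit, Twist.orbit, show (T.r * d * T.r⁻¹)⁻¹ = T.r * d⁻¹ * T.r⁻¹ by group,
    ← T.rot₁ _ (inv_mem hd), ← T.rot₂ _ (inv_mem hd), ← T.rot₃ _ (inv_mem hd)]
  ring

theorem Twist.orbit_fusion (T : Twist C lam) {d d' g : G} (hd : d ∈ C.D1) (hd' : d' ∈ C.D1)
    (hg : g * d * g⁻¹ = d') : T.orbit d' = T.orbit d := by
  have h3 := C.cycle_third T.hz T.ht
  have hpow : ∀ i : ℕ, ∀ e ∈ C.D1,
      T.r ^ i * e * (T.r ^ i)⁻¹ ∈ C.D1 ∧ T.orbit (T.r ^ i * e * (T.r ^ i)⁻¹) = T.orbit e := by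
    intro i
    induction i with
    | zero => intro e he; simpa using he
    | succ i ih =>
      intro e he
      obtain ⟨h1, h2⟩ := ih _ (C.conj_mem_D1 T.hz h3 he)
      rw [show T.r ^ (i + 1) * e * (T.r ^ (i + 1))⁻¹ =
        T.r ^ i * (T.r * e * T.r⁻¹) * (T.r ^ i)⁻¹ by rw [pow_succ]; group]
      exact ⟨h1, h2.trans (T.orbit_rot he)⟩
  have hpre : ∀ i : ℕ, ∀ e ∈ C.D1, (T.r ^ i)⁻¹ * e * T.r ^ i ∈ C.D1 := by
    intro i
    induction i with
    | zero => intro e he; simpa using he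
    | succ i ih =>
      intro e he
      rw [show (T.r ^ (i + 1))⁻¹ * e * T.r ^ (i + 1) =
        T.r⁻¹ * ((T.r ^ i)⁻¹ * e * T.r ^ i) * T.r by rw [pow_succ]; group]
      exact C.conj_mem_D1' T.hz T.ht (ih e he)
  obtain ⟨i, j, h, hh, he⟩ := C.fusion_D1 T.hz T.ht hd hd' hg
  have e1 : T.r ^ i * ((T.r ^ i)⁻¹ * d * T.r ^ i) * (T.r ^ i)⁻¹ = d := by group
  have e2 : T.r ^ j * ((T.r ^ j)⁻¹ * d' * T.r ^ j) * (T.r ^ j)⁻¹ = d' := by group
  have a1 := (hpow i _ (hpre i d hd)).2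
  have a2 := (hpow j _ (hpre j d' hd')).2
  rw [e1] at a1
  rw [e2, ← he _ _ e1 e2, T.orbit_conj hh (C.D1_le_U (hpre i d hd)), ← a1] at a2
  exact a2

/-- The test function on the elements conjugate into `D1`. -/
noncomputable def Twist.testD (T : Twist C lam) (x : G) : ℂ :=
  if h : ∃ d ∈ C.D1, IsConj x d then T.orbit h.choose else 0

theorem Twist.testD_of (T : Twist C lam) {x d : G} (hd : d ∈ C.D1) (h : IsConj x d) :
    T.testD x = T.orbit d := by
  have he : ∃ d ∈ C.D1, IsConj x d := ⟨d, hd, h⟩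
  rw [Twist.testD, dif_pos he]
  obtain ⟨g, hg⟩ := isConj_iff.1 (he.choose_spec.2.symm.trans h)
  exact (T.orbit_fusion he.choose_spec.1 hd hg).symm

include hM in
/-- **A linked character fixed by `t` is one of the rotations.** -/
theorem Twist.eq_of_fixed (T : Twist C lam) [Fintype (NU C)] {θ : IrrCharacter (NU C)}
    (hfix : ∀ x, C.ext0 (θ : NU C → ℂ) (C.t * x * C.t) = C.ext0 (θ : NU C → ℂ) x)
    (hlink : C.Linked M lam θ) :
    ∃ ψ : G → ℂ, (ψ = lam ∨ ψ = T.nu ∨ ψ = T.nu') ∧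
      ∀ x ∈ C.U, C.ext0 (θ : NU C → ℂ) x = ψ x := by
  set Tf := C.ext0 (θ : NU C → ℂ) with hT
  have hlins : ∀ ψ : G → ℂ, (ψ = lam ∨ ψ = T.nu ∨ ψ = T.nu') →
      IsLin C ψ ∧ ∀ x ∈ C.U, ψ (C.t * x * C.t) = ψ x := by
    rintro ψ (rfl | rfl | rfl)
    exacts [⟨T.lin, fun x hx => by rw [← conj_invol_eq C.inv_t.1]; exact T.inv _ C.t_mem_H x hx⟩,
      ⟨T.lin₁, T.fix₁⟩, ⟨T.lin₂, T.fix₂⟩]
  by_contra hall
  push Not at hall
  have hzero : ∀ ψ : G → ℂ, (ψ = lam ∨ ψ = T.nu ∨ ψ = T.nu') →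
      ∑ x ∈ fin C.U, ψ x⁻¹ * Tf x = 0 := by
    intro ψ hψ
    obtain ⟨φ, hφ⟩ := (hlins ψ hψ).1.exists_hom
    let Λ : NU C →* ℂˣ := φ.comp
      { toFun := fun n : NU C => (⟨((n : Hz C) : G), n.2⟩ : C.U)
        map_one' := rfl, map_mul' := fun _ _ => rfl }
    let ψ' : IrrCharacter (NU C) := ⟨fun n => ((Λ n : ℂˣ) : ℂ), isIrrCharacter_ofHom Λ⟩
    have he : ∀ x ∈ C.U, C.ext0 (ψ' : NU C → ℂ) x = ψ x := fun x hx => by
      rw [C.ext0_of_mem _ hx]; exact hφ ⟨x, hx⟩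
    rw [sum_congr rfl fun x hx => show ψ x⁻¹ * Tf x = C.ext0 (ψ' : NU C → ℂ) x⁻¹ * Tf x by
      rw [he _ (inv_mem (mem_fin.1 hx))], hT, C.sum_ext0_mul, if_neg]
    intro e
    obtain ⟨x, hx, hne⟩ := hall ψ hψ
    exact hne (by rw [hT, e, he x hx])
  have htU : ∀ x ∈ C.U, C.t * x * C.t ∈ C.U := fun x hx => by
    rw [← conj_invol_eq C.inv_t.1]; exact (C.conj_mem_U_iff C.t_mem_H).2 hx
  have hpair : ∀ f : G → ℂ, (∀ x ∈ C.U, MemLocalRing M (f x)) →
      (∀ x ∈ C.U, f (C.t * x * C.t) = f x) →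
      MemLocalIdeal M (∑ x ∈ fin C.U, f x - ∑ d ∈ fin C.D1, f d) := by
    intro f hf hft
    have h := pairing hM (fin C.U) f (fun x => C.t * x * C.t)
      (fun x hx => mem_fin.2 (htU x (mem_fin.1 hx))) (fun x _ => by
        rw [show C.t * (C.t * x * C.t) * C.t = C.t * C.t * x * (C.t * C.t) by group, C.inv_t.1,
          one_mul, mul_one]) (fun x hx => hf x (mem_fin.1 hx)) (fun x hx => hft x (mem_fin.1 hx))
    have e : (fin C.U).filter (fun x => C.t * x * C.t = x) = fin C.D1 := by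
      ext x
      simp only [mem_filter, mem_fin]
      exact ⟨fun h => C.mem_D1.2 ⟨h.1, commute_of_conj_eq C.inv_t.1 h.2⟩,
        fun h => ⟨C.D1_le_U h, conj_eq_of_commute C.inv_t.1 (C.mem_D1.1 h).2⟩⟩
    rwa [e] at h
  have hint : ∀ ψ : G → ℂ, (ψ = lam ∨ ψ = T.nu ∨ ψ = T.nu') → ∀ x ∈ C.U,
      IsIntegral ℤ (ψ x⁻¹) := fun ψ hψ x hx => (hlins ψ hψ).1.isIntegral (inv_mem hx)
  have hTD : IsIntClass M T.testD := by
    refine ⟨fun x g => ?_, fun x => memLocalRing_of_isIntegral ?_⟩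
    · have hxy : IsConj x (g * x * g⁻¹) := isConj_iff.2 ⟨g, rfl⟩
      by_cases h : ∃ d ∈ C.D1, IsConj x d
      · obtain ⟨d, hd, hc⟩ := h
        rw [T.testD_of hd hc, T.testD_of hd (hxy.symm.trans hc)]
      · rw [Twist.testD, Twist.testD, dif_neg h,
          dif_neg fun ⟨d, hd, hc⟩ => h ⟨d, hd, hxy.trans hc⟩]
    · rw [Twist.testD]
      split_ifs with h
      · have hU := C.D1_le_U h.choose_spec.1
        exact ((hint lam (Or.inl rfl) _ hU).add (hint _ (Or.inr (Or.inl rfl)) _ hU)).add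
          (hint _ (Or.inr (Or.inr rfl)) _ hU)
      · exact isIntegral_zero
  have hsum := hlink T.testD hTD fun h hh hU => dif_neg fun ⟨d, hd, hc⟩ =>
    hU (C.mem_U_of_isConj (C.D1_le_U hd) hc hh)
  have hDt : ∀ x, T.testD (C.t * x * C.t) = T.testD x := fun x => by
    rw [← conj_invol_eq C.inv_t.1]; exact hTD.1 x C.t
  have h1 := hpair (fun x => T.testD x * Tf x)
    (fun x _ => memLocalRing_mul (hTD.2 x) (memLocalRing_of_isIntegral (C.isIntegral_ext0 θ x)))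
    (fun x _ => by rw [hDt, hfix])
  have h2 := hpair (fun x => T.testD x * lam x)
    (fun x hx => memLocalRing_mul (hTD.2 x) (memLocalRing_of_isIntegral (T.lin.isIntegral hx)))
    (fun x hx => by rw [hDt, (hlins lam (Or.inl rfl)).2 x hx])
  have eD : ∀ g : G → ℂ, ∑ d ∈ fin C.D1, T.testD d * g d =
      ∑ d ∈ fin C.D1, lam d⁻¹ * g d + ∑ d ∈ fin C.D1, T.nu d⁻¹ * g d +
        ∑ d ∈ fin C.D1, T.nu' d⁻¹ * g d := fun g => by
    rw [← sum_add_distrib, ← sum_add_distrib]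
    refine sum_congr rfl fun d hd => ?_
    rw [T.testD_of (mem_fin.1 hd) (IsConj.refl d), Twist.orbit, add_mul, add_mul]
  have hD0 : ∀ ψ : G → ℂ, (ψ = lam ∨ ψ = T.nu ∨ ψ = T.nu') →
      MemLocalIdeal M (∑ d ∈ fin C.D1, ψ d⁻¹ * Tf d) := by
    intro ψ hψ
    have h := hpair (fun x => ψ x⁻¹ * Tf x)
      (fun x hx => memLocalRing_of_isIntegral ((hint ψ hψ x hx).mul (C.isIntegral_ext0 θ x)))
      (fun x hx => by
        rw [← invol_inv C.inv_t.1, (hlins ψ hψ).2 _ (inv_mem hx), hfix])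
    rw [hzero ψ hψ, zero_sub] at h
    simpa using memLocalIdeal_neg h
  rw [eD] at h1 h2
  obtain ⟨k, hk, ek⟩ : ∃ k : ℕ, Odd k ∧ ∑ d ∈ fin C.D1, lam d⁻¹ * lam d +
      ∑ d ∈ fin C.D1, T.nu d⁻¹ * lam d + ∑ d ∈ fin C.D1, T.nu' d⁻¹ * lam d =
      (k : ℂ) * Nat.card C.D1 := by
    have hD := C.D1_le_U
    rw [T.lin.sum_mul T.lin hD, T.lin₁.sum_mul T.lin hD, T.lin₂.sum_mul T.lin hD, if_pos fun _ _ => rfl]
    rcases T.mode with hm | ⟨-, hne1, hne2, -, -⟩
    · refine ⟨3, by decide, ?_⟩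
      rw [if_pos fun d hd => (hm d (hD hd)).1, if_pos fun d hd => (hm d (hD hd)).2]
      push_cast; ring
    · refine ⟨1, odd_one, ?_⟩
      rw [if_neg fun h => hne1 fun d hd => (h d hd).symm,
        if_neg fun h => hne2 fun d hd => (h d hd).symm]
      push_cast; ring
  rw [ek] at h2
  have hTu : MemLocalIdeal M (∑ x ∈ fin C.U, T.testD x * Tf x) :=
    (memLocalIdeal_iff_of_cong h1).2 (memLocalIdeal_add (memLocalIdeal_add (hD0 _ (Or.inl rfl))
      (hD0 _ (Or.inr (Or.inl rfl)))) (hD0 _ (Or.inr (Or.inr rfl))))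
  have h3 := memLocalIdeal_sub
    (memLocalIdeal_mul_right hTu (memLocalRing_inv (irr_mem θ 1) (C.theta_unit hM θ).1)) hsum
  rw [← div_eq_mul_inv, sub_sub_cancel] at h3
  exact not_memLocalIdeal_card hM C.D1 C.odd_D1 k hk ((memLocalIdeal_iff_of_cong h2).1 h3)

end CfsgLib.GW.Eight.Ctx
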