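import Cfsg.Agent.GW.Eight.Linear.Local

/-!
# Gorenstein–Walter, `|S| ≥ 8`, linear characters: the values on the coset `z U`

A character with nonzero coefficient at the invariant linear character is, on `z U`, a combination of
it and its rotations.
-/

set_option autoImplicit false
set_option linter.style.haveILetI false
set_option linter.unusedSectionVars false

namespace CfsgLib.GW.Eight.Ctx

open Cfsg Finset CfsgLib.DihPrincipal CfsgLib.GW CfsgLib.Block CfsgLib.Block.Chr CfsgLib.Char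
  CfsgLib.GW.Linear
open CfsgLib.GW.CaseI (conj_invol_eq)
open CfsgLib.DGroup (conj_mem odd_orderOf)
open scoped ComplexConjugate Classical

universe u

variable {G : Type u} [Group G] [Fintype G] [Fact (Nat.Prime 2)] (C : Ctx G)

theorem sum_Hz [Fintype (Hz C)] (f : G → ℂ) (hf : ∀ h : Hz C, (h : G) ∉ C.U → f h = 0) :
    ∑ h : Hz C, f h = ∑ x ∈ fin C.U, f x := by
  haveI : Fintype (NU C) := Fintype.ofFinite _
  rw [sum_eq_sum_subgroup (NU C) (fun h : Hz C => f h) fun h hh => hf h hh]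
  exact C.sum_NU f

/-- An irreducible character of `C(z)` not orthogonal on `U` to an invariant linear character is a
multiple of it there. -/
theorem res_eq_lin [Fintype (Hz C)] {lam : G → ℂ} (hl : IsLin C lam)
    (hi : ∀ h ∈ C.H, ∀ x ∈ C.U, lam (h * x * h⁻¹) = lam x) (ξ : IrrCharacter (Hz C)) (Ξ : G → ℂ)
    (hΞ : ∀ h : Hz C, Ξ h = (ξ : Hz C → ℂ) h)
    (hS : ∑ x ∈ fin C.U, lam x⁻¹ * Ξ x ≠ 0) :
    ∀ x : Hz C, (x : G) ∈ C.U → (ξ : Hz C → ℂ) x = (ξ : Hz C → ℂ) 1 * lam x := by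
  let e : Hz C → ℂ := fun h => if (h : G) ∈ C.U then lam (h : G)⁻¹ else 0
  have he : IsClassFunction (Hz C) e := fun h g => by
    simp only [e, Subgroup.coe_mul, InvMemClass.coe_inv]
    by_cases hh : (h : G) ∈ C.U
    · rw [if_pos hh, if_pos ((C.conj_mem_U_iff g.2).2 hh),
        show ((g : G) * h * (g : G)⁻¹)⁻¹ = (g : G) * (h : G)⁻¹ * (g : G)⁻¹ by group,
        hi _ g.2 _ (inv_mem hh)]
    · rw [if_neg hh, if_neg (mt (C.conj_mem_U_iff g.2).1 hh)]
  have hSξ : ∑ h : Hz C, e h * (ξ : Hz C → ℂ) h ≠ 0 := by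
    rw [sum_congr rfl fun (h : Hz C) _ => show e h * (ξ : Hz C → ℂ) h =
      (fun g : G => if g ∈ C.U then lam g⁻¹ * Ξ g else 0) h by
        simp only [e]
        split_ifs with hh
        · rw [hΞ h]
        · rw [zero_mul],
      C.sum_Hz (fun g : G => if g ∈ C.U then lam g⁻¹ * Ξ g else 0) (fun h hh => if_neg hh),
      sum_congr rfl fun x hx => if_pos (mem_fin.1 hx)]
    exact hS
  intro x hx
  have h := irr_mul_eq ξ he hSξ (k := x) (μ := lam x) (fun g => by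
    simp only [e, Subgroup.coe_mul, InvMemClass.coe_inv]
    by_cases hg : (g : G) ∈ C.U
    · rw [if_pos hg, if_pos (mul_mem hg (inv_mem hx)), ← hl.mul hx (inv_mem hg)]
      congr 1
      group
    · rw [if_neg hg, if_neg, mul_zero]
      intro h
      refine hg ?_
      have := mul_mem h hx
      rwa [inv_mul_cancel_right] at this) 1
  rw [mul_one] at h
  rw [h, mul_comm]

variable {lam : G → ℂ} {M : Ideal AlgInt} [M.IsPrime]

/-- Being linked passes to conjugates. -/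
theorem linked_conj {θ : IrrCharacter (NU C)} (h : C.Linked M lam θ)
    (hi : ∀ h ∈ C.H, ∀ x ∈ C.U, lam (h * x * h⁻¹) = lam x) {q : G} (hq : q ∈ C.H) :
    C.Linked M lam (conjIrr (⟨q, hq⟩ : Hz C) θ) := by
  intro a ha hsupp
  have h1 : ((conjIrr (⟨q, hq⟩ : Hz C) θ : IrrCharacter (NU C)) : NU C → ℂ) 1 = (θ : NU C → ℂ) 1 :=
    conjOn_apply_one _ _
  have h2 : ∑ x ∈ fin C.U, a x * C.ext0 (conjIrr (⟨q, hq⟩ : Hz C) θ : NU C → ℂ) x =
      ∑ x ∈ fin C.U, a x * C.ext0 (θ : NU C → ℂ) x := by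
    rw [C.ext0_conjIrr hq, ← C.sum_U_conj hq (fun x => a x * C.ext0 (θ : NU C → ℂ) x)]
    exact sum_congr rfl fun x _ => by rw [ha.1 x q]
  rw [h1, h2]
  exact h a ha hsupp

variable {C}

/-- **The values on `z U`.** -/
theorem Twist.exists_span (T : Twist C lam) (T₂ : Twist C.flip lam)
    (hT₂ : ∀ x ∈ C.U, T₂.nu x = lam x ∧ T₂.nu' x = lam x) (χ : IrrCharacter G)
    (hV : C.cV lam (χ : G → ℂ) C.z ≠ 0) :
    ∃ k₀ k₁ k₂ : ℂ, ∀ x ∈ C.U,
      (χ : G → ℂ) (C.z * x) = k₀ * lam x + k₁ * T.nu x + k₂ * T.nu' x := by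
  obtain ⟨M, hM⟩ := exists_isPModular Nat.prime_two
  haveI : M.IsPrime := hM.2.1.isPrime
  haveI : Fintype (Hz C) := Fintype.ofFinite _
  haveI : Fintype (NU C) := Fintype.ofFinite _
  letI := irrFintype (G := Hz C)
  letI := irrFintype (G := NU C)
  have hz2 : orderOf C.z = 2 ^ 1 := by rw [pow_one, C.inv_z.orderOf]
  set good := univ.filter (fun ξ : IrrCharacter (Hz C) =>
    IsInducedBlock M (Hz C) (blockOf M (ξ : Hz C → ℂ)) (blockOf M (χ : G → ℂ))) with hgood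
  set m : IrrCharacter (Hz C) → ℂ := fun ξ =>
    classInner (fun c : Hz C => (χ : G → ℂ) (C.z * (c : G))) (ξ : Hz C → ℂ)
  let Ξ : IrrCharacter (Hz C) → G → ℂ := fun ξ g =>
    if hg : g ∈ C.H then (ξ : Hz C → ℂ) ⟨g, hg⟩ else 0
  have hΞ : ∀ (ξ : IrrCharacter (Hz C)) (h : Hz C), Ξ ξ h = (ξ : Hz C → ℂ) h := fun ξ h =>
    dif_pos (show (h : G) ∈ C.H from h.2)
  have hexp : ∀ x ∈ C.U, (χ : G → ℂ) (C.z * x) = ∑ ξ ∈ good, m ξ * Ξ ξ x := by
    intro x hx
    have h := section_expansion hM hz2 χ (⟨x, C.U_le_H hx⟩ : Hz C) (by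
      rw [← Subgroup.orderOf_coe]
      exact Nat.two_dvd_ne_zero.2 (Nat.odd_iff.1 (odd_orderOf C.odd_U hx)))
    rw [h]
    refine sum_congr rfl fun ξ _ => ?_
    rw [← hΞ ξ ⟨x, C.U_le_H hx⟩]
  obtain ⟨η, hη, hne⟩ : ∃ η ∈ good, ∑ x ∈ fin C.U, lam x⁻¹ * Ξ η x ≠ 0 := by
    by_contra hall
    push Not at hall
    refine hV ?_
    rw [cV, sum_congr rfl fun x hx => by rw [hexp x (mem_fin.1 hx), sum_mul], sum_comm,
      sum_eq_zero, mul_zero]
    intro ξ hξ
    rw [sum_congr rfl fun x _ => show m ξ * Ξ ξ x * lam x⁻¹ =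
      m ξ * (lam x⁻¹ * Ξ ξ x) by ring, ← mul_sum, hall ξ hξ, mul_zero]
  have hηU := C.res_eq_lin T.lin T.inv η (Ξ η) (hΞ η) hne
  rw [hgood, mem_filter] at hη
  -- the function on `U` and its constituents
  let f : NU C → ℂ := fun n => (χ : G → ℂ) (C.z * ((n : Hz C) : G))
  have hfc : IsClassFunction (NU C) f := fun n k => by
    show (χ : G → ℂ) (C.z * (((k : Hz C) : G) * ((n : Hz C) : G) * ((k : Hz C) : G)⁻¹)) = _
    have hk : Commute ((k : Hz C) : G) C.z := C.mem_H.1 (k : Hz C).2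
    rw [← mul_assoc, ← mul_assoc, ← hk.eq, mul_assoc ((k : Hz C) : G) C.z,
      isClassFunction_irr χ]
  have hlink : ∀ θ : IrrCharacter (NU C), classInner f (θ : NU C → ℂ) ≠ 0 → C.Linked M lam θ := by
    intro θ hθ
    obtain ⟨ξ, hξ, hne'⟩ : ∃ ξ ∈ good,
        classInner (fun n : NU C => (ξ : Hz C → ℂ) n) (θ : NU C → ℂ) ≠ 0 := by
      by_contra hall
      push Not at hall
      refine hθ ?_
      rw [classInner, sum_congr rfl fun n _ => show f n * conj ((θ : NU C → ℂ) n) =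
        ∑ ξ ∈ good, m ξ * ((ξ : Hz C → ℂ) n * conj ((θ : NU C → ℂ) n)) by
          rw [show f n = _ from hexp _ n.2, sum_mul]
          exact sum_congr rfl fun ξ _ => by rw [hΞ, mul_assoc],
        sum_comm, mul_sum, sum_eq_zero]
      intro ξ hξ
      rw [← mul_sum, mul_left_comm]
      exact mul_eq_zero_of_right _ (hall ξ hξ)
    rw [hgood, mem_filter] at hξ
    intro a ha hsupp
    have h := omega_res_cong hξ.2 hη.2 ha
    rw [omega_eq_of_constituent (θ := θ) hne' (isIntClass_resFun (H := Hz C) ha).1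
      (fun g hg => hsupp g g.2 hg)] at h
    have e1 : omega (θ : NU C → ℂ) (resFun (NU C) (resFun (Hz C) a)) =
        (∑ x ∈ fin C.U, a x * C.ext0 (θ : NU C → ℂ) x) / (θ : NU C → ℂ) 1 := by
      rw [omega, ← C.sum_NU (fun x => a x * C.ext0 (θ : NU C → ℂ) x)]
      simp only [C.ext0_coe]
      rfl
    have e2 : omega (η : Hz C → ℂ) (resFun (Hz C) a) = ∑ x ∈ fin C.U, a x * lam x := by
      rw [omega, sum_congr rfl fun (g : Hz C) _ => show resFun (Hz C) a g * (η : Hz C → ℂ) g =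
          (η : Hz C → ℂ) 1 * (a g * lam g) by
        by_cases hg : (g : G) ∈ C.U
        · rw [hηU g hg]; show a g * _ = _; ring
        · show a g * _ = _
          rw [hsupp g g.2 hg]; ring,
        ← mul_sum, mul_div_cancel_left₀ _ (irr_one_ne_zero η),
        C.sum_Hz (fun x => a x * lam x) fun g hg => by rw [hsupp g g.2 hg, zero_mul]]
    rwa [e1, e2] at h
  have hterm : ∀ θ : IrrCharacter (NU C), ∃ k₀ k₁ k₂ : ℂ, ∀ x ∈ C.U,
      classInner f (θ : NU C → ℂ) * C.ext0 (θ : NU C → ℂ) x =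
        k₀ * lam x + k₁ * T.nu x + k₂ * T.nu' x := by
    intro θ
    by_cases hθ : classInner f (θ : NU C → ℂ) = 0
    · exact ⟨0, 0, 0, fun x _ => by rw [hθ]; ring⟩
    have hL := hlink θ hθ
    obtain ⟨r, hr, hrA, hrfix⟩ := C.exists_fixing hM T.lin T.inv hL
    obtain ⟨i, hi⟩ := Subgroup.mem_zpowers_iff.1 ((C.data.cases r hr).resolve_left hrA)
    have hr' : r = C.s ^ i * C.t := by rw [hi, mul_assoc, C.inv_t.1, mul_one]
    have hhalf : ∀ k : ℤ, C.s ^ (2 * k) = C.s ^ k * C.s ^ k := fun k => by rw [two_mul, zpow_add]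
    have hconj : ∀ k : ℤ, C.s ^ k * C.t * (C.s ^ k)⁻¹ = C.s ^ (2 * k) * C.t := fun k => by
      have h := C.data.conj_τ (zpow_mem (Subgroup.mem_zpowers C.s) (-k))
      calc C.s ^ k * C.t * (C.s ^ k)⁻¹ = C.s ^ k * (C.t * C.s ^ (-k) * C.t⁻¹) * C.t := by group
        _ = _ := by rw [h, ← zpow_neg, neg_neg, hhalf]
    have hmove : ∀ (k : ℤ) (v : G), v * v = 1 → C.s ^ k * v * (C.s ^ k)⁻¹ = r →
        ∀ (hq : C.s ^ k ∈ C.H) (x : G),
          C.ext0 (conjIrr (⟨C.s ^ k, hq⟩ : Hz C) θ : NU C → ℂ) (v * x * v) =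
            C.ext0 (conjIrr (⟨C.s ^ k, hq⟩ : Hz C) θ : NU C → ℂ) x := by
      intro k v hv hvr hq x
      rw [C.ext0_conjIrr hq]
      show C.ext0 (θ : NU C → ℂ) _ = C.ext0 (θ : NU C → ℂ) _
      rw [← hrfix (C.s ^ k * x * (C.s ^ k)⁻¹), ← hvr,
        show C.s ^ k * v * (C.s ^ k)⁻¹ * (C.s ^ k * x * (C.s ^ k)⁻¹) *
            (C.s ^ k * v * (C.s ^ k)⁻¹)⁻¹ = C.s ^ k * (v * x * v⁻¹) * (C.s ^ k)⁻¹ by group,
        inv_eq_of_mul_eq_one_right hv]
    have hback : ∀ (q : G) (hq : q ∈ C.H) (ψ : G → ℂ),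
        (∀ x ∈ C.U, C.ext0 (conjIrr (⟨q, hq⟩ : Hz C) θ : NU C → ℂ) x = ψ x) →
        ∀ x ∈ C.U, C.ext0 (θ : NU C → ℂ) x = ψ (q⁻¹ * x * q) := by
      intro q hq ψ h x hx
      have hm : q⁻¹ * x * q ∈ C.U := CfsgLib.DGroup.conj_mem' (C.H_le_normalizer_U hq) hx
      rw [← h _ hm, C.ext0_conjIrr hq]
      show _ = C.ext0 (θ : NU C → ℂ) (q * (q⁻¹ * x * q) * q⁻¹)
      congr 1
      group
    have hsH : ∀ k : ℤ, C.s ^ k ∈ C.H := fun k => zpow_mem C.s_mem_H k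
    rcases Int.even_or_odd' i with ⟨k, rfl | rfl⟩
    · obtain ⟨ψ, hψ, he⟩ := T.eq_of_fixed hM
        (hmove k C.t C.inv_t.1 (by rw [hr', hconj]) (hsH k)) (C.linked_conj hL T.inv (hsH k))
      have he' := hback _ (hsH k) ψ he
      have hinv : ∀ x ∈ C.U, C.ext0 (θ : NU C → ℂ) x = ψ ((C.s ^ k)⁻¹ * x * (C.s ^ k)⁻¹⁻¹) :=
        fun x hx => by rw [inv_inv]; exact he' x hx
      rcases hψ with rfl | rfl | rfl
      · exact ⟨classInner f (θ : NU C → ℂ), 0, 0, fun x hx => by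
          rw [hinv x hx, T.inv _ (inv_mem (hsH k)) x hx]; ring⟩
      · rcases T.perm _ (inv_mem (hsH k)) with e | e
        · exact ⟨0, classInner f (θ : NU C → ℂ), 0, fun x hx => by
            rw [hinv x hx, (e x hx).1]; ring⟩
        · exact ⟨0, 0, classInner f (θ : NU C → ℂ), fun x hx => by
            rw [hinv x hx, (e x hx).1]; ring⟩
      · rcases T.perm _ (inv_mem (hsH k)) with e | e
        · exact ⟨0, 0, classInner f (θ : NU C → ℂ), fun x hx => by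
            rw [hinv x hx, (e x hx).2]; ring⟩
        · exact ⟨0, classInner f (θ : NU C → ℂ), 0, fun x hx => by
            rw [hinv x hx, (e x hx).2]; ring⟩
    · have hst : C.s ^ k * (C.s * C.t) * (C.s ^ k)⁻¹ = r := by
        calc C.s ^ k * (C.s * C.t) * (C.s ^ k)⁻¹ = C.s * (C.s ^ k * C.t * (C.s ^ k)⁻¹) := by group
          _ = r := by rw [hconj, hr', ← mul_assoc, ← zpow_one_add, add_comm]
      obtain ⟨ψ, hψ, he⟩ := T₂.eq_of_fixed hM
        (hmove k (C.s * C.t) C.inv_st.1 hst (hsH k)) (C.linked_conj hL T.inv (hsH k))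
      refine ⟨classInner f (θ : NU C → ℂ), 0, 0, fun x hx => ?_⟩
      have hm : (C.s ^ k)⁻¹ * x * C.s ^ k ∈ C.U :=
        CfsgLib.DGroup.conj_mem' (C.H_le_normalizer_U (hsH k)) hx
      have hψl : ψ ((C.s ^ k)⁻¹ * x * C.s ^ k) = lam ((C.s ^ k)⁻¹ * x * C.s ^ k) := by
        rcases hψ with rfl | rfl | rfl
        exacts [rfl, (hT₂ _ hm).1, (hT₂ _ hm).2]
      rw [hback _ (hsH k) ψ he x hx, hψl]
      have := T.inv _ (inv_mem (hsH k)) x hx
      rw [inv_inv] at this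
      rw [this]; ring
  suffices hs : ∀ s : Finset (IrrCharacter (NU C)), ∃ k₀ k₁ k₂ : ℂ, ∀ x ∈ C.U,
      ∑ θ ∈ s, classInner f (θ : NU C → ℂ) * C.ext0 (θ : NU C → ℂ) x =
        k₀ * lam x + k₁ * T.nu x + k₂ * T.nu' x by
    obtain ⟨k₀, k₁, k₂, hk⟩ := hs univ
    refine ⟨k₀, k₁, k₂, fun x hx => ?_⟩
    rw [← hk x hx, show (χ : G → ℂ) (C.z * x) = f (C.toNU hx) from rfl, classFun_expand hfc]
    exact sum_congr rfl fun θ _ => by rw [C.ext0_of_mem _ hx]
  intro s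
  induction s using Finset.induction_on with
  | empty => exact ⟨0, 0, 0, fun x _ => by simp⟩
  | @insert θ s hθs ih =>
    obtain ⟨k₀, k₁, k₂, hk⟩ := ih
    obtain ⟨j₀, j₁, j₂, hj⟩ := hterm θ
    exact ⟨k₀ + j₀, k₁ + j₁, k₂ + j₂, fun x hx => by
      rw [sum_insert hθs, hk x hx, hj x hx]; ring⟩

end CfsgLib.GW.Eight.Ctx
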