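import Cfsg.Agent.GW.Eight.Linear.Coset

/-!
# Gorenstein–Walter, `|S| ≥ 8`, linear characters: multiplicities and the integral vectors
-/

set_option autoImplicit false
set_option linter.style.haveILetI false
set_option linter.unusedSectionVars false

namespace CfsgLib.GW.Eight.Ctx

open Cfsg Finset CfsgLib.DihPrincipal CfsgLib.GW CfsgLib.Block CfsgLib.Block.Chr CfsgLib.SL2C
open CfsgLib.DGroup (conj_mem)
open scoped ComplexConjugate Classical

universe u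

variable {G : Type u} [Group G] [Fintype G] [Fact (Nat.Prime 2)] (C : Ctx G)

/-- The elements of `C(z)` with image in `S`. -/
noncomputable def above (S : Subgroup G) : Subgroup G where
  carrier := {g | g ∈ C.H ∧ C.pr g ∈ S}
  one_mem' := ⟨one_mem _, by rw [pr_of_mem C (one_mem _)]; exact one_mem _⟩
  mul_mem' {a b} ha hb :=
    ⟨mul_mem ha.1 hb.1, by rw [C.pr_mul ha.1 hb.1]; exact mul_mem ha.2 hb.2⟩
  inv_mem' {a} ha := ⟨inv_mem ha.1, by
    rw [show C.pr a⁻¹ = (C.pr a)⁻¹ from C.data.proj_inv ha.1]; exact inv_mem ha.2⟩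

/-- The multiplicities of the extensions of a linear character fixed by `S`. -/
theorem exists_mult {ψ : G → ℂ} (hψ : IsLin C ψ) {S : Subgroup G}
    (hS : S ≤ (C.P : Subgroup G)) (hfix : ∀ a ∈ S, ∀ x ∈ C.U, ψ (a * x * a⁻¹) = ψ x)
    (μ : S →* ℂˣ) [Fintype S] (χ : IrrCharacter G) :
    ∃ k : ℕ, (Nat.card S : ℂ) * k =
      ∑ a : S, conj ((μ a : ℂˣ) : ℂ) * C.cV ψ (χ : G → ℂ) (a : G) := by
  haveI : Fintype (C.above S) := Fintype.ofFinite _
  let μ' : G → ℂ := fun g => if h : g ∈ S then ((μ ⟨g, h⟩ : ℂˣ) : ℂ) else 0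
  have hμ : ∀ {g g' : G}, g ∈ S → g' ∈ S → μ' (g * g') = μ' g * μ' g' := fun {g g'} hg hg' => by
    simp only [μ', dif_pos hg, dif_pos hg', dif_pos (mul_mem hg hg'), ← Units.val_mul, ← map_mul]
    rfl
  have hμ1 : μ' 1 = 1 := by
    simp only [μ', dif_pos (one_mem S)]
    rw [show (⟨1, one_mem S⟩ : S) = 1 from rfl, map_one, Units.val_one]
  let Λ : C.above S →* ℂˣ := MonoidHom.toHomUnits
    { toFun := fun g => C.ext ψ g * μ' (C.pr g)
      map_one' := by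
        show C.ext ψ ((1 : C.above S) : G) * μ' (C.pr ((1 : C.above S) : G)) = 1
        rw [OneMemClass.coe_one, ext, pr_of_mem C (one_mem _), inv_one, mul_one, hψ.one, hμ1,
          one_mul]
      map_mul' := fun g g' => by
        show C.ext ψ ((g : G) * g') * μ' (C.pr ((g : G) * g')) =
          C.ext ψ g * μ' (C.pr g) * (C.ext ψ g' * μ' (C.pr g'))
        rw [C.ext_mul hψ g.2.1 g'.2.1 (hfix _ g.2.2), C.pr_mul g.2.1 g'.2.1, hμ g.2.2 g'.2.2]
        ring }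
  have hΛ : ∀ g : C.above S, ((Λ g : ℂˣ) : ℂ) = C.ext ψ g * μ' (C.pr g) := fun g => rfl
  obtain ⟨k, hk⟩ := FrobeniusSylow.exists_restrict_mult (C.above S) χ Λ
  refine ⟨k, mul_left_cancel₀ C.card_U_ne ?_⟩
  have hmem : ∀ p ∈ fin S ×ˢ fin C.U, p.1 * p.2 ∈ C.above S := fun p hp => by
    obtain ⟨h1, h2⟩ := mem_product.1 hp
    refine ⟨mul_mem (C.P_le_H (hS (mem_fin.1 h1))) (C.U_le_H (mem_fin.1 h2)), ?_⟩
    rw [C.pr_mul_U (hS (mem_fin.1 h1)) (mem_fin.1 h2)]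
    exact mem_fin.1 h1
  have hsum : ∀ f : G → ℂ, ∑ g : C.above S, f g = ∑ a ∈ fin S, ∑ x ∈ fin C.U, f (a * x) := by
    intro f
    rw [sum_fin_coe, ← sum_product']
    refine (sum_bij (fun p _ => p.1 * p.2) (fun p hp => mem_fin.2 (hmem p hp)) (fun p hp q hq e => ?_)
      (fun g hg => ?_) fun _ _ => rfl).symm
    · obtain ⟨h1, h2⟩ := mem_product.1 hp
      obtain ⟨h1', h2'⟩ := mem_product.1 hq
      have e1 : p.1 = q.1 := by
        rw [← C.pr_mul_U (hS (mem_fin.1 h1)) (mem_fin.1 h2), e,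
          C.pr_mul_U (hS (mem_fin.1 h1')) (mem_fin.1 h2')]
      rw [e1] at e
      exact Prod.ext e1 (mul_left_cancel e)
    · obtain ⟨hgH, hgS⟩ := mem_fin.1 hg
      exact ⟨(C.pr g, (C.pr g)⁻¹ * g),
        mem_product.2 ⟨mem_fin.2 hgS, mem_fin.2 (C.lpart_mem hgH)⟩, mul_inv_cancel_left _ _⟩
  have hcard : (Nat.card (C.above S) : ℂ) = Nat.card C.U * Nat.card S := by
    have h := hsum fun _ => 1
    simp only [sum_const, card_univ, nsmul_one, card_fin, nsmul_eq_mul, mul_one] at h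
    rw [Nat.card_eq_fintype_card, h, mul_comm]
  rw [← mul_assoc, ← hcard, hk,
    sum_congr rfl (fun (g : C.above S) _ => show (χ : G → ℂ) (g : G) * conj ((Λ g : ℂˣ) : ℂ) =
      (fun g : G => (χ : G → ℂ) g * conj (C.ext ψ g * μ' (C.pr g))) g by rw [hΛ]),
    hsum (fun g : G => (χ : G → ℂ) g * conj (C.ext ψ g * μ' (C.pr g))), mul_sum,
    sum_congr rfl (fun (a : S) _ => show (Nat.card C.U : ℂ) *
        (conj ((μ a : ℂˣ) : ℂ) * C.cV ψ (χ : G → ℂ) (a : G)) =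
      (fun a : G => conj (μ' a) * ((Nat.card C.U : ℂ) * C.cV ψ (χ : G → ℂ) a)) a by
        simp only [μ', dif_pos a.2]
        ring),
    sum_fin_coe S (fun a : G => conj (μ' a) * ((Nat.card C.U : ℂ) * C.cV ψ (χ : G → ℂ) a))]
  refine sum_congr rfl fun a ha => ?_
  rw [C.card_mul_cV, mul_sum]
  refine sum_congr rfl fun x hx => ?_
  have haS := mem_fin.1 ha
  have hxU := mem_fin.1 hx
  rw [C.ext_mul_of_mem hψ (hS haS) hxU (hfix a haS x hxU), C.pr_mul_U (hS haS) hxU, map_mul,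
    hψ.conj_eq hxU]
  ring

variable {lam : G → ℂ} (hl : IsLin C lam)
  (hi : ∀ h ∈ C.H, ∀ x ∈ C.U, lam (h * x * h⁻¹) = lam x)
include hl hi

/-- The difference of the multiplicities of `μ` and of the trivial character. -/
theorem exists_dvec (μ : Subgroup.zpowers C.s →* ℂˣ) (χ : IrrCharacter G) :
    ∃ d : ℤ, (orderOf C.s : ℂ) * d = ∑ a : Subgroup.zpowers C.s,
      (conj ((μ a : ℂˣ) : ℂ) - 1) * C.cV lam (χ : G → ℂ) (a : G) := by
  have hfix : ∀ a ∈ Subgroup.zpowers C.s, ∀ x ∈ C.U, lam (a * x * a⁻¹) = lam x := fun a ha =>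
    hi a (C.data.mem_centralizer_zpowers ha)
  obtain ⟨k, hk⟩ := C.exists_mult hl C.data.le_sylow hfix μ χ
  obtain ⟨m, hm⟩ := C.exists_mult hl C.data.le_sylow hfix 1 χ
  refine ⟨(k : ℤ) - m, ?_⟩
  rw [Nat.card_zpowers] at hk hm
  push_cast
  rw [mul_sub, hk, hm, ← sum_sub_distrib]
  exact sum_congr rfl fun a _ => by simp [sub_mul]

/-- The integral vectors. -/
noncomputable def dvec (μ : Subgroup.zpowers C.s →* ℂˣ) (χ : IrrCharacter G) : ℤ :=
  (C.exists_dvec hl hi μ χ).choose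

theorem dvec_spec (μ : Subgroup.zpowers C.s →* ℂˣ) (χ : IrrCharacter G) :
    (orderOf C.s : ℂ) * C.dvec hl hi μ χ = ∑ a : Subgroup.zpowers C.s,
      (conj ((μ a : ℂˣ) : ℂ) - 1) * C.cV lam (χ : G → ℂ) (a : G) :=
  (C.exists_dvec hl hi μ χ).choose_spec

theorem orderOf_s_ne : (orderOf C.s : ℂ) ≠ 0 := Nat.cast_ne_zero.2 (orderOf_pos C.s).ne'

theorem dvec_one (χ : IrrCharacter G) : C.dvec hl hi 1 χ = 0 := by
  have h := C.dvec_spec hl hi 1 χ
  simp only [MonoidHom.one_apply, Units.val_one, map_one, sub_self, zero_mul, sum_const_zero,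
    mul_eq_zero, C.orderOf_s_ne hl hi, false_or] at h
  exact_mod_cast h

theorem dvec_inv (μ : Subgroup.zpowers C.s →* ℂˣ) (χ : IrrCharacter G) :
    C.dvec hl hi μ⁻¹ χ = C.dvec hl hi μ χ := by
  have h : (orderOf C.s : ℂ) * C.dvec hl hi μ⁻¹ χ = (orderOf C.s : ℂ) * C.dvec hl hi μ χ := by
    rw [C.dvec_spec hl hi, C.dvec_spec hl hi]
    refine Fintype.sum_equiv (Equiv.inv _) _ _ fun a => ?_
    rw [Equiv.inv_apply, MonoidHom.inv_apply, map_inv μ, InvMemClass.coe_inv,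
      C.cV_inv hi χ a.2]
  exact_mod_cast mul_left_cancel₀ (C.orderOf_s_ne hl hi) h

/-- The expansion away from the identity. -/
theorem cV_eq_sum (χ : IrrCharacter G) {a : Subgroup.zpowers C.s} (ha : a ≠ 1) :
    C.cV lam (χ : G → ℂ) (a : G) =
      ∑ μ : Subgroup.zpowers C.s →* ℂˣ, (C.dvec hl hi μ χ : ℂ) * ((μ a : ℂˣ) : ℂ) := by
  refine mul_left_cancel₀ (C.orderOf_s_ne hl hi) ?_
  simp only [mul_sum, ← mul_assoc, C.dvec_spec hl hi, sum_mul]
  have key : ∀ w : Subgroup.zpowers C.s, ∑ μ : Subgroup.zpowers C.s →* ℂˣ,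
      (conj (μ w : ℂ) - 1) * C.cV lam (χ : G → ℂ) (w : G) * (μ a : ℂ) =
      C.cV lam (χ : G → ℂ) (w : G) *
        ∑ μ : Subgroup.zpowers C.s →* ℂˣ, ((μ (w⁻¹ * a) : ℂ) - (μ a : ℂ)) := by
    intro w
    rw [mul_sum]
    refine sum_congr rfl fun μ _ => ?_
    rw [conj_char, MonoidHom.inv_apply, map_mul, map_inv, Units.val_mul]
    ring
  rw [sum_comm, sum_congr rfl fun w _ => key w, sum_eq_single a]
  · rw [sum_sub_distrib, sum_dual (zpowers_comm C.s) a, if_neg ha, sum_dual (zpowers_comm C.s),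
      if_pos (inv_mul_cancel a), sub_zero, ← Nat.card_eq_fintype_card, Nat.card_zpowers, mul_comm]
  · intro w _ hw
    rw [sum_sub_distrib, sum_dual (zpowers_comm C.s) a, if_neg ha, sum_dual (zpowers_comm C.s),
      if_neg fun h : w⁻¹ * a = 1 => hw (inv_mul_eq_one.1 h), sub_zero, mul_zero]
  · simp

variable [Fintype (IrrCharacter G)]

/-- The Gram matrix of the vectors. -/
theorem sum_dvec_mul {μ ν : Subgroup.zpowers C.s →* ℂˣ} (hμ : μ ≠ 1) (hν : ν ≠ 1) :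
    ∑ χ : IrrCharacter G, C.dvec hl hi μ χ * C.dvec hl hi ν χ =
      2 + (if ν = μ then 1 else 0) + if ν = μ⁻¹ then 1 else 0 := by
  have hA : (Fintype.card (Subgroup.zpowers C.s) : ℂ) = orderOf C.s := by
    rw [← Nat.card_eq_fintype_card, Nat.card_zpowers]
  have hA0 := C.orderOf_s_ne hl hi
  have e3 : ∀ ρ : Subgroup.zpowers C.s →* ℂˣ, ρ ≠ 1 →
      ∑ v : Subgroup.zpowers C.s, (conj (ρ v : ℂ) - 1) * ((ν v : ℂ) - 1) =
        (orderOf C.s : ℂ) * ((if ν = ρ then 1 else 0) + 1) := by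
    intro ρ hρ
    have e4 : ∀ v : Subgroup.zpowers C.s, (conj (ρ v : ℂ) - 1) * ((ν v : ℂ) - 1) =
        ((ρ⁻¹ * ν) v : ℂ) - ((ρ⁻¹) v : ℂ) - (ν v : ℂ) + 1 := fun v => by
      rw [MonoidHom.mul_apply, Units.val_mul, ← conj_char]
      ring
    have i1 : ρ⁻¹ * ν = 1 ↔ ν = ρ :=
      (inv_mul_eq_one (G := Subgroup.zpowers C.s →* ℂˣ)).trans eq_comm
    simp only [e4, sum_add_distrib, sum_sub_distrib, sum_char]
    rw [if_neg (fun h => hρ ((inv_eq_one (α := Subgroup.zpowers C.s →* ℂˣ)).1 h)), if_neg hν,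
      sum_const, card_univ, nsmul_eq_mul, mul_one, hA]
    by_cases hh : ν = ρ
    · rw [if_pos hh, if_pos (i1.2 hh)]; ring
    · rw [if_neg hh, if_neg fun h => hh (i1.1 h)]; ring
  have e1 : ∀ χ : IrrCharacter G, (orderOf C.s : ℂ) * orderOf C.s *
      ((C.dvec hl hi μ χ : ℂ) * (C.dvec hl hi ν χ : ℂ)) =
      ∑ u : Subgroup.zpowers C.s, ∑ v : Subgroup.zpowers C.s,
        (conj (μ u : ℂ) - 1) * ((ν v : ℂ) - 1) *
          (C.cV lam (χ : G → ℂ) (u : G) * conj (C.cV lam (χ : G → ℂ) (v : G))) := by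
    intro χ
    have h2 := congrArg conj (C.dvec_spec hl hi ν χ)
    rw [map_mul, map_natCast, map_intCast, map_sum] at h2
    rw [mul_mul_mul_comm, C.dvec_spec hl hi μ χ, h2, sum_mul_sum]
    refine sum_congr rfl fun u _ => sum_congr rfl fun v _ => ?_
    rw [map_mul, map_sub, map_one, Complex.conj_conj]
    ring
  have e2 : ∀ u v : Subgroup.zpowers C.s, (conj (μ u : ℂ) - 1) * ((ν v : ℂ) - 1) *
      ∑ χ : IrrCharacter G, C.cV lam (χ : G → ℂ) (u : G) * conj (C.cV lam (χ : G → ℂ) (v : G)) =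
      (conj (μ u : ℂ) - 1) * ((ν v : ℂ) - 1) *
        ((orderOf C.s : ℂ) * ((if u = v then 1 else 0) + if u = v⁻¹ then 1 else 0)) := by
    intro u v
    by_cases hu : u = 1
    · subst hu; simp
    rw [C.gram_inv hl hi u.2 (fun h => hu (Subtype.ext h)) v.2]
    simp only [← Subtype.val_inj, InvMemClass.coe_inv, inv_eq_iff_eq_inv]
  have key : (orderOf C.s : ℂ) * orderOf C.s *
      ∑ χ : IrrCharacter G, (C.dvec hl hi μ χ : ℂ) * (C.dvec hl hi ν χ : ℂ) =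
      (orderOf C.s : ℂ) * orderOf C.s *
        (2 + (if ν = μ then 1 else 0) + if ν = μ⁻¹ then 1 else 0) := by
    rw [mul_sum, sum_congr rfl fun χ _ => e1 χ, sum_comm, sum_congr rfl fun u _ => sum_comm]
    simp only [← mul_sum]
    rw [sum_congr rfl fun u _ => sum_congr rfl fun v _ => e2 u v, sum_comm]
    simp only [mul_add, mul_ite, mul_one, mul_zero, sum_add_distrib, sum_ite_eq', mem_univ, if_true]
    have hinv : ∀ v : Subgroup.zpowers C.s, conj (μ v⁻¹ : ℂ) = conj ((μ⁻¹) v : ℂ) := fun v => by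
      rw [MonoidHom.inv_apply, map_inv]
    simp only [hinv, ← sum_mul, e3 μ hμ,
      e3 μ⁻¹ fun h => hμ ((inv_eq_one (α := Subgroup.zpowers C.s →* ℂˣ)).1 h)]
    split_ifs <;> ring
  have h := mul_left_cancel₀ (mul_ne_zero hA0 hA0) key
  split_ifs at h ⊢ <;> exact_mod_cast h

/-- The vectors are orthogonal to the degrees. -/
theorem sum_deg_dvec (μ : Subgroup.zpowers C.s →* ℂˣ) :
    ∑ χ : IrrCharacter G, (charDegree (χ : G → ℂ) : ℤ) * C.dvec hl hi μ χ = 0 := by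
  have h : (orderOf C.s : ℂ) *
      ∑ χ : IrrCharacter G, (charDegree (χ : G → ℂ) : ℂ) * (C.dvec hl hi μ χ : ℂ) = 0 := by
    rw [mul_sum, sum_congr rfl fun (χ : IrrCharacter G) _ => show (orderOf C.s : ℂ) *
      ((charDegree (χ : G → ℂ) : ℂ) * (C.dvec hl hi μ χ : ℂ)) = _ by
        rw [mul_left_comm, C.dvec_spec hl hi, mul_sum], sum_comm]
    refine sum_eq_zero fun a _ => ?_
    by_cases ha : a = 1
    · subst ha; simp
    rw [sum_congr rfl (g := fun χ : IrrCharacter G => (conj (μ a : ℂ) - 1) *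
      (C.cV lam (χ : G → ℂ) (a : G) * (χ : G → ℂ) 1))
      (fun χ _ => by rw [(irr_one χ).1]; ring), ← mul_sum,
      C.sum_deg_cV lam (C.data.le_sylow a.2) (fun h => ha (Subtype.ext h)), mul_zero]
  have h' := (mul_eq_zero.1 h).resolve_left (C.orderOf_s_ne hl hi)
  exact_mod_cast h'

/-- **The vectors indexed by a root of unity.** -/
theorem exists_vec {ζ : ℂ} (hζ : IsPrimitiveRoot ζ (2 ^ (C.n - 1))) :
    ∃ (w : Fin (2 ^ (C.n - 2) - 1) → IrrCharacter G → ℤ) (u : IrrCharacter G → ℤ),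
      (∀ i j, ∑ χ : IrrCharacter G, w i χ * w j χ = 2 + if i = j then 1 else 0) ∧
      (∑ χ : IrrCharacter G, u χ * u χ = 4) ∧ (∀ i, ∑ χ : IrrCharacter G, w i χ * u χ = 2) ∧
      (∀ i, ∑ χ : IrrCharacter G, (charDegree (χ : G → ℂ) : ℤ) * w i χ = 0) ∧
      (∑ χ : IrrCharacter G, (charDegree (χ : G → ℂ) : ℤ) * u χ = 0) ∧
      (∀ χ : IrrCharacter G, ∀ l : ℕ, 0 < l → l < 2 ^ (C.n - 1) → C.cV lam (χ : G → ℂ) (C.s ^ l) =
        (u χ : ℂ) * (-1) ^ l + ∑ i : Fin (2 ^ (C.n - 2) - 1),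
          (w i χ : ℂ) * (ζ ^ (((i : ℕ) + 1) * l) + (ζ ^ (((i : ℕ) + 1) * l))⁻¹)) ∧
      ∀ χ : IrrCharacter G, ∑ l ∈ range (2 ^ (C.n - 1) - 1),
        C.cV lam (χ : G → ℂ) (C.s ^ (l + 1)) =
          -((u χ : ℂ) + 2 * ∑ i : Fin (2 ^ (C.n - 2) - 1), (w i χ : ℂ)) := by
  have hq : 2 ^ (C.n - 1) = 2 * 2 ^ (C.n - 2) := two_mul_pow C.data.hn
  have hh2 := C.four_le_pow
  have hζσ : IsPrimitiveRoot ζ (orderOf C.s) := by rwa [C.data.ordσ]
  choose μ hμ using fun j : ℕ => exists_chr hζσ j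
  have hμσ : ∀ j, (μ j ⟨C.s, Subgroup.mem_zpowers C.s⟩ : ℂ) = ζ ^ j := fun j => by
    have := hμ j 1
    simpa using this
  have hinj : ∀ i j, i < 2 ^ (C.n - 1) → j < 2 ^ (C.n - 1) → μ i = μ j → i = j := fun i j hi hj h =>
    hζ.pow_inj hi hj (by rw [← hμσ i, ← hμσ j, h])
  have hμ0 : μ 0 = 1 := hom_ext (by rw [hμσ]; simp)
  have hne : ∀ j, 0 < j → j < 2 ^ (C.n - 1) → μ j ≠ 1 := fun j h1 h2 h =>
    h1.ne' (hinj j 0 h2 (by positivity) (h.trans hμ0.symm))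
  have hinv : ∀ j, j ≤ 2 ^ (C.n - 1) → μ (2 ^ (C.n - 1) - j) = (μ j)⁻¹ := fun j hj => hom_ext (by
    rw [hμσ, MonoidHom.inv_apply, Units.val_inv_eq_inv_val, hμσ]
    refine eq_inv_of_mul_eq_one_left ?_
    rw [← pow_add, Nat.sub_add_cancel hj, hζ.pow_eq_one])
  have hpowh : ζ ^ 2 ^ (C.n - 2) = -1 := by
    have h1 : ζ ^ 2 ^ (C.n - 2) * ζ ^ 2 ^ (C.n - 2) = 1 := by
      rw [← pow_add, ← two_mul, ← hq, hζ.pow_eq_one]
    exact (mul_self_eq_one_iff.1 h1).resolve_left (hζ.pow_ne_one_of_pos_of_lt (by omega) (by omega))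
  have hwne : ∀ i : Fin (2 ^ (C.n - 2) - 1), μ (i + 1) ≠ 1 := fun i => hne _ (by omega) (by omega)
  have hune : μ (2 ^ (C.n - 2)) ≠ 1 := hne _ (by omega) (by omega)
  have hval : ∀ (χ : IrrCharacter G) (l : ℕ), 0 < l → l < 2 ^ (C.n - 1) →
      C.cV lam (χ : G → ℂ) (C.s ^ l) =
        (C.dvec hl hi (μ (2 ^ (C.n - 2))) χ : ℂ) * (-1) ^ l + ∑ i : Fin (2 ^ (C.n - 2) - 1),
          (C.dvec hl hi (μ (i + 1)) χ : ℂ) *
            (ζ ^ (((i : ℕ) + 1) * l) + (ζ ^ (((i : ℕ) + 1) * l))⁻¹) := by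
    intro χ l hl0 hl'
    have hl1 : (⟨C.s ^ l, Subgroup.npow_mem_zpowers C.s l⟩ : Subgroup.zpowers C.s) ≠ 1 := fun h => by
      have := Nat.le_of_dvd hl0 (orderOf_dvd_of_pow_eq_one (congrArg Subtype.val h))
      rw [C.data.ordσ] at this
      omega
    rw [show C.cV lam (χ : G → ℂ) (C.s ^ l) = _ from C.cV_eq_sum hl hi χ hl1]
    have hbij : ∑ ν : Subgroup.zpowers C.s →* ℂˣ, (C.dvec hl hi ν χ : ℂ) *
          (ν ⟨C.s ^ l, Subgroup.npow_mem_zpowers C.s l⟩ : ℂ) =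
        ∑ j ∈ range (2 * 2 ^ (C.n - 2)), (C.dvec hl hi (μ j) χ : ℂ) * ζ ^ (j * l) := by
      symm
      refine sum_bij (fun j _ => μ j) (fun _ _ => mem_univ _) (fun i hi j hj h => ?_)
        (fun ν _ => ?_) fun j _ => by rw [hμ]
      · rw [mem_range, ← hq] at hi hj; exact hinj i j hi hj h
      · haveI : NeZero (2 ^ (C.n - 1)) := ⟨by positivity⟩
        obtain ⟨j, hj, he⟩ := hζ.eq_pow_of_pow_eq_one
          (ξ := (ν ⟨C.s, Subgroup.mem_zpowers C.s⟩ : ℂ)) (by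
            rw [← Units.val_pow_eq_pow_val, ← map_pow]
            have : (⟨C.s, Subgroup.mem_zpowers C.s⟩ : Subgroup.zpowers C.s) ^ 2 ^ (C.n - 1) = 1 :=
              Subtype.ext (by simp [← C.data.ordσ, pow_orderOf_eq_one])
            rw [this, map_one, Units.val_one])
        exact ⟨j, mem_range.2 (by rw [← hq]; exact hj), hom_ext (by rw [hμσ, he])⟩
    rw [hbij, sum_range_two_mul _ (by omega), hμ0, C.dvec_one hl hi, Int.cast_zero, zero_mul,
      zero_add, pow_mul ζ, hpowh]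
    refine congrArg _ (sum_congr rfl fun i _ => ?_)
    have h1 : μ (2 * 2 ^ (C.n - 2) - ((i : ℕ) + 1)) = (μ ((i : ℕ) + 1))⁻¹ := by
      rw [← hq, hinv _ (by omega)]
    have h2 : ζ ^ ((2 * 2 ^ (C.n - 2) - ((i : ℕ) + 1)) * l) = (ζ ^ (((i : ℕ) + 1) * l))⁻¹ := by
      refine eq_inv_of_mul_eq_one_left ?_
      rw [← pow_add, ← add_mul, ← hq, Nat.sub_add_cancel (by omega), pow_mul, hζ.pow_eq_one, one_pow]
    rw [h1, C.dvec_inv hl hi, h2, mul_add]
  refine ⟨fun i => C.dvec hl hi (μ (i + 1)), C.dvec hl hi (μ (2 ^ (C.n - 2))), fun i j => ?_, ?_,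
    fun i => ?_, fun i => C.sum_deg_dvec hl hi _, C.sum_deg_dvec hl hi _, hval, fun χ => ?_⟩
  · rw [C.sum_dvec_mul hl hi (hwne i) (hwne j), ← hinv _ (by omega),
      if_neg (fun h : μ ((j : ℕ) + 1) = μ (2 ^ (C.n - 1) - ((i : ℕ) + 1)) => by
        have := hinj _ _ (by omega) (by omega) h; omega), add_zero]
    by_cases hij : i = j
    · subst hij; rw [if_pos rfl, if_pos rfl]
    · rw [if_neg hij, if_neg fun h => hij (Fin.ext (by
        have := hinj _ _ (by omega) (by omega) h; omega))]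
  · rw [C.sum_dvec_mul hl hi hune hune, ← hinv _ (by omega),
      show 2 ^ (C.n - 1) - 2 ^ (C.n - 2) = 2 ^ (C.n - 2) by omega, if_pos rfl]
    rfl
  · rw [C.sum_dvec_mul hl hi (hwne i) hune, ← hinv _ (by omega),
      if_neg (fun h : μ (2 ^ (C.n - 2)) = μ ((i : ℕ) + 1) => by
        have := hinj _ _ (by omega) (by omega) h; omega),
      if_neg (fun h : μ (2 ^ (C.n - 2)) = μ (2 ^ (C.n - 1) - ((i : ℕ) + 1)) => by
        have := hinj _ _ (by omega) (by omega) h; omega)]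
    rfl
  · set F : ℕ → ℂ := fun l => (C.dvec hl hi (μ (2 ^ (C.n - 2))) χ : ℂ) * (-1) ^ l +
      ∑ i : Fin (2 ^ (C.n - 2) - 1), (C.dvec hl hi (μ (i + 1)) χ : ℂ) *
        (ζ ^ (((i : ℕ) + 1) * l) + (ζ ^ (((i : ℕ) + 1) * l))⁻¹)
    rw [sum_congr rfl (g := fun l => F (l + 1)) fun l hl' => by
      rw [mem_range] at hl'
      exact hval χ (l + 1) (by omega) (by omega)]
    have h0 : ∑ l ∈ range (2 ^ (C.n - 1)), F l = 0 := by
      have hgeo : ∀ x : ℂ, x ^ 2 ^ (C.n - 1) = 1 → x ≠ 1 → ∑ l ∈ range (2 ^ (C.n - 1)), x ^ l = 0 :=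
        fun x h1 h2 => by rw [geom_sum_eq h2, h1, sub_self, zero_div]
      simp only [F, sum_add_distrib, ← mul_sum]
      rw [hgeo (-1) (by rw [hq, pow_mul, neg_one_sq, one_pow]) (by norm_num), mul_zero, zero_add,
        sum_comm]
      refine sum_eq_zero fun i _ => ?_
      simp only [← mul_sum, sum_add_distrib, pow_mul, ← inv_pow]
      have h1 : ζ ^ ((i : ℕ) + 1) ≠ 1 := hζ.pow_ne_one_of_pos_of_lt (by omega) (by omega)
      have h2 : (ζ ^ ((i : ℕ) + 1)) ^ 2 ^ (C.n - 1) = 1 := by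
        rw [← pow_mul, mul_comm, pow_mul, hζ.pow_eq_one, one_pow]
      rw [hgeo _ h2 h1, hgeo (ζ⁻¹ ^ ((i : ℕ) + 1)) (by rw [inv_pow, inv_pow, h2, inv_one])
        (fun e => h1 (inv_eq_one.1 (by rw [← inv_pow]; exact e))), add_zero, mul_zero]
    have hpos : 2 ^ (C.n - 1) = 2 ^ (C.n - 1) - 1 + 1 := by omega
    rw [hpos, sum_range_succ'] at h0
    rw [eq_neg_iff_add_eq_zero, ← h0]
    congr 1
    simp only [F, mul_zero, pow_zero, inv_one, mul_one, mul_sum]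
    congr 1
    exact sum_congr rfl fun i _ => by ring

end CfsgLib.GW.Eight.Ctx
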