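import Cfsg.Agent.GW.Eight.Linear.Coset

/-!
# Gorenstein–Walter, `|S| ≥ 8`, linear characters: pairs of involutions with product in a coset of `U`

Such pairs are pairs of reflections, and an invariant linear character is trivial on their products.
-/

set_option autoImplicit false
set_option linter.style.haveILetI false
set_option linter.unusedSectionVars false

namespace CfsgLib.GW.Eight.Ctx

open Cfsg Finset CfsgLib.DihPrincipal CfsgLib.GW CfsgLib.Block CfsgLib.Block.Chr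
open CfsgLib.NormCyclic (Inv)
open CfsgLib.DGroup (odd_orderOf)
open scoped ComplexConjugate Classical

universe u

variable {G : Type u} [Group G] [Fintype G] [Fact (Nat.Prime 2)] (C : Ctx G)

/-- All involutions are conjugate. -/
theorem isConj_z_iff {v : G} : IsConj C.z v ↔ Inv v := by
  refine ⟨fun h => ?_, fun hv => ?_⟩
  · obtain ⟨c, rfl⟩ := isConj_iff.1 h
    exact C.inv_z.conj c
  obtain ⟨R, hR⟩ := (IsPGroup.of_card (n := 1) (by rw [Nat.card_zpowers, hv.orderOf, pow_one]) :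
    IsPGroup 2 (Subgroup.zpowers v)).exists_le_sylow
  obtain ⟨g, hg⟩ := MulAction.exists_smul_eq G R C.P
  have hgv : g * v * g⁻¹ ∈ (C.P : Subgroup G) := by
    rw [← hg, Sylow.smul_def, Sylow.pointwise_smul_def]
    exact Subgroup.smul_mem_pointwise_smul _ (MulAut.conj g) _ (hR (Subgroup.mem_zpowers v))
  refine IsConj.trans ?_ (isConj_iff.2 ⟨g, rfl⟩ : IsConj v (g * v * g⁻¹)).symm
  rcases C.data.cases _ hgv with h | h
  · rcases C.data.eq_z h (hv.conj g).1 with h' | h'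
    · exact absurd h' (hv.conj g).2
    · rw [h']; rfl
  · obtain ⟨i, hi⟩ := Subgroup.mem_zpowers_iff.1 h
    rw [show g * v * g⁻¹ = C.s ^ i * C.t by rw [hi, mul_assoc _ C.t, C.inv_t.1, mul_one]]
    exact zpow_refl_conj C.data C.conj

/-- An involution with involution product with `a x` is a reflection. -/
theorem mem_refl_of_prod {a x v : G} (ha : a ∈ Subgroup.zpowers C.s) (ha1 : a ≠ 1) (hx : x ∈ C.U)
    (hv : Inv v) (hw : Inv (v * (a * x))) : v ∈ C.data.refl ∧ v * (a * x) ∈ C.data.refl := by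
  have haH : a ∈ C.H := C.data.mem_centralizer_zpowers ha
  have hgH : a * x ∈ C.H := mul_mem haH (C.U_le_H hx)
  obtain ⟨k, hk, -⟩ := C.exists_pow_z ha ha1 hx
  have hinv : v * (a * x) * v⁻¹ = (a * x)⁻¹ := by
    refine eq_inv_of_mul_eq_one_left ?_
    rw [hv.inv_eq, show v * (a * x) * v * (a * x) = v * (a * x) * (v * (a * x)) by group]
    exact hw.1
  have hvH : v ∈ C.H := C.mem_H.2 (mul_inv_eq_iff_eq_mul.1 (by
    rw [← hk, ← conj_pow, hinv, inv_pow, hk, C.inv_z.inv_eq]))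
  have hrot : ∀ {w : G}, Inv w → w ∈ C.H → C.pr w ∈ Subgroup.zpowers C.s → w = C.z :=
    fun hw' hwH h => C.eq_z_of_pr_mem hw' hwH h
  have hne : v ≠ C.z := by
    rintro rfl
    have hza : C.z * a ∈ Subgroup.zpowers C.s := mul_mem Data.z_mem_zpowers ha
    have h := hrot hw (mul_mem C.z_mem_H hgH) (by
      rw [← mul_assoc, C.pr_mul_U (C.data.le_sylow hza) hx]; exact hza)
    have h' : a * x = 1 := mul_left_cancel (h.trans (mul_one _).symm)
    refine ha1 ?_
    rw [← C.pr_mul_U (C.data.le_sylow ha) hx, h', pr_of_mem C (one_mem _)]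
  have hne' : v * (a * x) ≠ C.z := fun h => hne (hrot hv hvH (by
    rw [show v = C.z * (a * x)⁻¹ from eq_mul_inv_of_mul_eq h,
      C.pr_mul C.z_mem_H (inv_mem hgH), show C.pr (a * x)⁻¹ = (C.pr (a * x))⁻¹ from C.data.proj_inv hgH,
      C.pr_mul_U (C.data.le_sylow ha) hx, pr_of_mem C (C.data.le_sylow Data.z_mem_zpowers : C.z ∈ _)]
    exact mul_mem Data.z_mem_zpowers (inv_mem ha)))
  exact ⟨mem_filter.2 ⟨mem_univ _, hvH, hv.1, hv.2, hne⟩,
    mem_filter.2 ⟨mem_univ _, mul_mem hvH hgH, hw.1, hw.2, hne'⟩⟩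

variable {lam : G → ℂ} (hl : IsLin C lam)
  (hi : ∀ h ∈ C.H, ∀ x ∈ C.U, lam (h * x * h⁻¹) = lam x)
include hl hi

/-- An invariant linear character is trivial on a product of two reflections. -/
theorem lam_prod_refl {a x v : G} (ha : a ∈ Subgroup.zpowers C.s) (hx : x ∈ C.U)
    (hv : v ∈ C.data.refl) (hw : v * (a * x) ∈ C.data.refl) : lam x = 1 := by
  have hone : ∀ w ∈ C.data.refl, C.ext lam w = 1 := fun w hw => by
    obtain ⟨-, hwH, hw2, -, -⟩ := mem_filter.1 hw
    have he : C.ext lam w * C.ext lam w = 1 := by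
      rw [← C.ext_mul hl hwH hwH (hi _ (C.pr_mem_H w)), hw2, ext, pr_of_mem C (one_mem _),
        inv_one, mul_one, hl.one]
    exact hl.eq_one_of_sq (C.upart_mem hwH) he
  have hvH : v ∈ C.H := (mem_filter.1 hv).2.1
  have hgH : a * x ∈ C.H := mul_mem (C.data.mem_centralizer_zpowers ha) (C.U_le_H hx)
  have h := hone _ hw
  rwa [C.ext_mul hl hvH hgH (hi _ (C.pr_mem_H v)), hone v hv, one_mul,
    C.ext_mul_of_mem hl (C.data.le_sylow ha) hx
      (hi a (C.data.mem_centralizer_zpowers ha) x hx)] at h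

theorem sum_conj_mul (χ : IrrCharacter G) {a : G} (ha : a ∈ Subgroup.zpowers C.s) :
    ∑ x ∈ fin C.U, conj ((χ : G → ℂ) (a * x)) * lam x =
      (Nat.card C.U : ℂ) * C.cV lam (χ : G → ℂ) a := by
  rw [← C.cV_inv hi χ ha, C.card_mul_cV]
  refine sum_bij (fun x _ => x⁻¹) (fun x hx => mem_fin.2 (inv_mem (mem_fin.1 hx)))
    (fun x _ y _ e => inv_injective e)
    (fun x hx => ⟨x⁻¹, mem_fin.2 (inv_mem (mem_fin.1 hx)), inv_inv x⟩) fun x _ => ?_
  rw [conj_irr, inv_inv, show (a * x)⁻¹ = x⁻¹ * (a⁻¹ * x⁻¹) * x⁻¹⁻¹ by group,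
    isClassFunction_irr χ]

variable [Fintype (IrrCharacter G)]

/-- **Pairs with product over a rotation.** -/
theorem pairs_rot {a : G} (ha : a ∈ Subgroup.zpowers C.s) (ha1 : a ≠ 1) :
    ((C.data.fibre a).card : ℂ) * 2 ^ C.n = (C.H.index : ℂ) *
      ∑ χ : IrrCharacter G, (χ : G → ℂ) C.z ^ 2 / (χ : G → ℂ) 1 * C.cV lam (χ : G → ℂ) a := by
  have hK := isClassFunction_classInd (G := G) C.z
  have hcls : ∀ χ : IrrCharacter G, centralChar (χ : G → ℂ) C.z =
      (C.H.index : ℂ) * (χ : G → ℂ) C.z / (χ : G → ℂ) 1 := fun χ => rfl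
  have hexp : ∀ x : G, conv (classInd C.z) (classInd C.z) (a * x) = (Nat.card G : ℂ)⁻¹ *
      ((C.H.index : ℂ) ^ 2 * ∑ χ : IrrCharacter G,
        (χ : G → ℂ) C.z ^ 2 / (χ : G → ℂ) 1 * conj ((χ : G → ℂ) (a * x))) := by
    intro x
    rw [eq_sum_omega (isClassFunction_conv hK hK), mul_sum (a := (C.H.index : ℂ) ^ 2)]
    congr 1
    refine sum_congr rfl fun χ _ => ?_
    rw [omega_conv χ hK, omega_classInd, hcls]
    have := irr_one_ne_zero χ
    field_simp
  have hconv : ∀ x : G, conv (classInd C.z) (classInd C.z) (a * x) =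
      ∑ v : G, if Inv v ∧ Inv (v * (a * x)) then (1 : ℂ) else 0 := by
    intro x
    refine sum_congr rfl fun v _ => ?_
    by_cases hv : Inv v
    · rw [classInd_of_isConj (C.isConj_z_iff.2 hv), one_mul, hv.inv_eq]
      by_cases hw : Inv (v * (a * x))
      · rw [classInd_of_isConj (C.isConj_z_iff.2 hw), if_pos ⟨hv, hw⟩]
      · rw [classInd_of_not_isConj (mt C.isConj_z_iff.1 hw), if_neg fun h => hw h.2]
    · rw [classInd_of_not_isConj (mt C.isConj_z_iff.1 hv), zero_mul, if_neg fun h => hv h.1]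
  have hleft : ∑ x ∈ fin C.U, conv (classInd C.z) (classInd C.z) (a * x) * lam x =
      ((C.data.fibre a).card : ℂ) := by
    simp only [hconv, sum_mul, ite_mul, one_mul, zero_mul]
    rw [← sum_product', ← sum_filter]
    rw [card_eq_sum_ones, Nat.cast_sum, Nat.cast_one]
    refine sum_bij (fun p _ => (p.2, p.2 * (a * p.1))) (fun p hp => ?_) (fun p _ p' _ e => ?_)
      (fun q hq => ?_) fun p hp => ?_
    · obtain ⟨hpm, hv, hw⟩ := mem_filter.1 hp
      have hx := mem_fin.1 (mem_product.1 hpm).1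
      obtain ⟨h1, h2⟩ := C.mem_refl_of_prod ha ha1 hx hv hw
      refine mem_filter.2 ⟨mem_product.2 ⟨h1, h2⟩, ?_⟩
      show C.pr (p.2 * (p.2 * (a * p.1))) = a
      rw [← mul_assoc, hv.1, one_mul, C.pr_mul_U (C.data.le_sylow ha) hx]
    · obtain ⟨e1, e2⟩ := Prod.mk.inj e
      rw [e1] at e2
      exact Prod.ext (mul_left_cancel (mul_left_cancel e2)) e1
    · obtain ⟨hq', hpr⟩ := mem_filter.1 hq
      obtain ⟨hq1, hq2⟩ := mem_product.1 hq'
      obtain ⟨-, h1H, h1sq, h1ne, -⟩ := mem_filter.1 hq1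
      obtain ⟨-, h2H, h2sq, h2ne, -⟩ := mem_filter.1 hq2
      have hU : a⁻¹ * (q.1 * q.2) ∈ C.U := by
        have h := C.lpart_mem (mul_mem h1H h2H)
        rwa [show C.pr (q.1 * q.2) = a from hpr] at h
      have he : q.1 * (a * (a⁻¹ * (q.1 * q.2))) = q.2 := by
        rw [mul_inv_cancel_left, ← mul_assoc, h1sq, one_mul]
      refine ⟨(a⁻¹ * (q.1 * q.2), q.1), mem_filter.2 ⟨mem_product.2 ⟨mem_fin.2 hU, mem_univ _⟩,
        ⟨h1sq, h1ne⟩, ?_⟩, Prod.ext rfl he⟩
      rw [he]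
      exact ⟨h2sq, h2ne⟩
    · obtain ⟨hpm, hv, hw⟩ := mem_filter.1 hp
      have hx := mem_fin.1 (mem_product.1 hpm).1
      obtain ⟨h1, h2⟩ := C.mem_refl_of_prod ha ha1 hx hv hw
      exact C.lam_prod_refl hl hi ha hx h1 h2
  have hr : ∑ x ∈ fin C.U, conv (classInd C.z) (classInd C.z) (a * x) * lam x =
      (Nat.card G : ℂ)⁻¹ * (C.H.index : ℂ) ^ 2 * ∑ χ : IrrCharacter G,
        (χ : G → ℂ) C.z ^ 2 / (χ : G → ℂ) 1 * ((Nat.card C.U : ℂ) * C.cV lam (χ : G → ℂ) a) := by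
    simp only [hexp, ← C.sum_conj_mul hl hi _ ha, mul_sum, sum_mul]
    rw [sum_comm]
    exact sum_congr rfl fun χ _ => sum_congr rfl fun x _ => by ring
  have hG : (Nat.card G : ℂ) = (C.H.index : ℂ) * ((Nat.card C.U : ℂ) * 2 ^ C.n) := by
    rw [← C.H.index_mul_card, C.card_H]
    push_cast
    rfl
  have hi0 : (C.H.index : ℂ) ≠ 0 := Nat.cast_ne_zero.2 Subgroup.index_ne_zero_of_finite
  have hU := C.card_U_ne
  rw [hleft, hG] at hr
  rw [hr, mul_sum, sum_mul, mul_sum]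
  refine sum_congr rfl fun χ _ => ?_
  field_simp

/-- **The counting equations.** -/
theorem pair_numbers : ∃ K a b : ℕ, Odd K ∧ Odd a ∧ Odd b ∧ a < 4 * b ∧ b < 4 * a ∧
    (K = C.H.index ∧ C.data.refl.card = 2 ^ (C.n - 2) * (a + b)) ∧
    4 * ((2 ^ (C.n - 2) : ℕ) : ℂ) ^ 3 * ((a : ℂ) + b) ^ 2 = (K : ℂ) * ∑ χ : IrrCharacter G,
      (χ : G → ℂ) C.z ^ 2 / (χ : G → ℂ) 1 * (C.cV lam (χ : G → ℂ) C.z +
        ∑ l ∈ range (2 ^ (C.n - 1) - 1), C.cV lam (χ : G → ℂ) (C.s ^ (l + 1))) ∧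
    8 * ((2 ^ (C.n - 2) : ℕ) : ℂ) ^ 2 * a * b = (K : ℂ) * ∑ χ : IrrCharacter G,
      (χ : G → ℂ) C.z ^ 2 / (χ : G → ℂ) 1 * C.cV lam (χ : G → ℂ) C.s := by
  set h := 2 ^ (C.n - 2) with hh
  have hn := C.data.hn
  have h2n : 2 ^ C.n = 4 * h := by
    rw [hh, show (4 : ℕ) = 2 ^ 2 by norm_num, ← pow_add, show 2 + (C.n - 2) = C.n by omega]
  have hq : 2 ^ (C.n - 1) = 2 * h := two_mul_pow hn
  obtain ⟨a, ha⟩ : ∃ a, (reflClass C.data 0).card = h * a := ⟨_, card_reflClass C.data 0⟩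
  obtain ⟨b, hb⟩ : ∃ b, (reflClass C.data 1).card = h * b := ⟨_, card_reflClass C.data 1⟩
  have hh0 : 0 < h := Nat.two_pow_pos _
  have hA := card_reflClass_mul C.data 0 (Or.inl rfl)
  have hB := card_reflClass_mul C.data 1 (Or.inr rfl)
  rw [zpow_zero, one_mul, C.oddU_eq, ha, h2n] at hA
  rw [zpow_one, C.oddU_eq, hb, h2n] at hB
  change h * a * (4 * Nat.card C.D1) = _ at hA
  change h * b * (4 * Nat.card C.D2) = _ at hB
  have hA' : a * Nat.card C.D1 = Nat.card C.U :=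
    Nat.eq_of_mul_eq_mul_left (show 0 < 4 * h by omega) (by linear_combination hA)
  have hB' : b * Nat.card C.D2 = Nat.card C.U :=
    Nat.eq_of_mul_eq_mul_left (show 0 < 4 * h by omega) (by linear_combination hB)
  haveI := C.simple
  have hlt1 : Nat.card C.D1 < 4 * Nat.card C.D2 := by
    have := card_fixT_lt C.data C.conj
    rwa [C.fixT_eq, C.fixST_eq] at this
  have hlt2 : Nat.card C.D2 < 4 * Nat.card C.D1 := by
    have hthis := card_fixT_lt C.flip.data C.flip.conj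
    rw [C.flip.fixT_eq, C.flip.fixST_eq] at hthis
    have e2 : C.flip.D2 = C.D1.map (MulAut.conj C.s).toMonoidHom := by
      have e : C.s * C.t * C.s⁻¹ = C.s * (C.s * C.t) := by
        calc C.s * C.t * C.s⁻¹ = C.s * (C.t * C.s⁻¹) := by group
          _ = C.s * (C.s * C.t) := by
              congr 1
              calc C.t * C.s⁻¹ = C.s * (C.s⁻¹ * C.t) * C.s⁻¹ := by group
                _ = _ := by rw [← C.t_mul_s]; group
      ext x
      rw [C.flip.mem_D2, Subgroup.mem_map_equiv, C.mem_D1, MulAut.conj_symm_apply]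
      show x ∈ C.U ∧ Commute x (C.s * (C.s * C.t)) ↔ _
      rw [← e]
      refine and_congr ⟨fun hx => ?_, fun hx => ?_⟩ ?_
      · have := CfsgLib.DGroup.conj_mem (C.H_le_normalizer_U (inv_mem C.s_mem_H)) hx
        rwa [inv_inv] at this
      · have := CfsgLib.DGroup.conj_mem C.s_norm_U hx
        rwa [show C.s * (C.s⁻¹ * x * C.s) * C.s⁻¹ = x by group] at this
      · constructor
        · intro hc
          have := (Commute.conj_iff C.s⁻¹).2 hc
          rwa [inv_inv, show C.s⁻¹ * (C.s * C.t * C.s⁻¹) * C.s = C.t by group] at this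
        · intro hc
          have := (Commute.conj_iff C.s).2 hc
          rwa [show C.s * (C.s⁻¹ * x * C.s) * C.s⁻¹ = x by group] at this
    rw [e2, Subgroup.card_map_of_injective (MulAut.conj C.s).injective] at hthis
    exact hthis
  have hd1 : 0 < Nat.card C.D1 := Nat.card_pos
  have hd2 : 0 < Nat.card C.D2 := Nat.card_pos
  have hoa : Odd a := C.odd_U.of_dvd_nat ⟨_, hA'.symm⟩
  have hob : Odd b := C.odd_U.of_dvd_nat ⟨_, hB'.symm⟩
  have hK : Odd C.H.index := by
    rw [← Nat.not_even_iff_odd, even_iff_two_dvd]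
    exact fun h => C.P.not_dvd_index (h.trans (Subgroup.index_dvd_of_le C.P_le_H))
  refine ⟨C.H.index, a, b, hK, hoa, hob, ?_, ?_, ⟨rfl, ?_⟩, ?_, ?_⟩
  · refine Nat.lt_of_mul_lt_mul_right (a := Nat.card C.D1) ?_
    rw [hA', ← hB', mul_assoc 4 b, mul_left_comm 4 b]
    exact Nat.mul_lt_mul_of_pos_left hlt2 hob.pos
  · refine Nat.lt_of_mul_lt_mul_right (a := Nat.card C.D2) ?_
    rw [hB', ← hA', mul_assoc 4 a, mul_left_comm 4 a]
    exact Nat.mul_lt_mul_of_pos_left hlt1 hoa.pos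
  · rw [refl_eq_union C.data, card_union_of_disjoint (disjoint_reflClass C.data), ha, hb, mul_add]
  · have hne : ∀ l < 2 * h, l ≠ 0 → C.s ^ l ≠ 1 := fun l hl hl0 =>
      pow_ne_one_of_lt_orderOf hl0 (by rw [C.data.ordσ, hq]; exact hl)
    have hrefl : (C.data.refl.card : ℂ) = (h : ℂ) * ((a : ℂ) + b) := by
      rw [refl_eq_union C.data, card_union_of_disjoint (disjoint_reflClass C.data), ha, hb]
      push_cast; ring
    have hsum : ((C.data.refl.card : ℂ) * C.data.refl.card) * 2 ^ C.n =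
        (C.H.index : ℂ) * ∑ χ : IrrCharacter G, (χ : G → ℂ) C.z ^ 2 / (χ : G → ℂ) 1 *
          (C.cV lam (χ : G → ℂ) C.z +
            ∑ l ∈ range (2 ^ (C.n - 1) - 1), C.cV lam (χ : G → ℂ) (C.s ^ (l + 1))) := by
      rw [← Nat.cast_mul, C.data.card_refl_sq, ← hh, show range (2 * h) = range ((2 * h - 1) + 1) by
        rw [Nat.sub_add_cancel (by omega)], sum_range_succ', pow_zero, C.data.card_fibre_z,
        Nat.cast_add, Nat.cast_sum, add_mul, sum_mul, hq]
      rw [C.pairs_rot hl hi Data.z_mem_zpowers C.inv_z.2, sum_congr rfl fun l hl' => by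
        rw [C.pairs_rot hl hi (Subgroup.npow_mem_zpowers C.s (l + 1))
          (hne _ (by have := mem_range.1 hl'; omega) (by omega))]]
      rw [← mul_sum, ← mul_add]
      congr 1
      rw [sum_comm, ← sum_add_distrib]
      refine sum_congr rfl fun χ _ => ?_
      rw [← mul_sum, mul_add, add_comm]
      rfl
    rw [← hsum, hrefl, show (2 : ℂ) ^ C.n = 4 * (h : ℂ) by exact_mod_cast h2n]
    ring
  · have hF : (h : ℂ) * ((C.data.fibre C.s).card : ℂ) = 2 * ((h * a : ℂ) * (h * b)) := by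
      have := card_fibre_sigma C.data
      rw [← hh, ha, hb] at this
      exact_mod_cast this
    have hs1 : C.s ≠ 1 := fun e => by
      have := C.data.ordσ; rw [e, orderOf_one, hq] at this; omega
    rw [← C.pairs_rot hl hi (Subgroup.mem_zpowers C.s) hs1,
      show (2 : ℂ) ^ C.n = 4 * (h : ℂ) by exact_mod_cast h2n]
    linear_combination (-4 : ℂ) * hF

end CfsgLib.GW.Eight.Ctx
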