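import Cfsg.Agent.GW.Eight.Linear.Base
import Cfsg.Agent.GW.Eight.CaseII.Basic

/-!
# Gorenstein–Walter, `|S| ≥ 8`, linear characters: the twist of a linear character of `U`

`lam` is fixed by `H`; `nu`, `nu'` are fixed by `t`, permuted by `H`, and are the rotations of `lam`
on `D1`.  Either all three agree or `n = 3` and they are distinct.
-/

set_option autoImplicit false
set_option linter.style.haveILetI false
set_option linter.unusedSectionVars false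

namespace CfsgLib.GW.Eight.Ctx

open Subgroup Finset CfsgLib.DihPrincipal CfsgLib.GW
open CfsgLib.GW.CaseI (invGen invGen_le mem_invGen conj_invol_eq conj_eq_of_commute invol_mul
  le_normalizer_invGen mem_normalizer_invGen_of_commute)
open CfsgLib.NormCyclic (Inv)
open CfsgLib.DGroup (conj_mem conj_mem' odd_orderOf)
open scoped Classical

universe u

variable {G : Type u} [Group G] [Fintype G] [Fact (Nat.Prime 2)]

/-- The rotations of a linear character. -/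
structure Twist (C : Ctx G) (lam : G → ℂ) where
  r : G
  hz : r * C.z * r⁻¹ = C.t
  ht : r * C.t * r⁻¹ = C.z * C.t
  lin : IsLin C lam
  inv : ∀ h ∈ C.H, ∀ x ∈ C.U, lam (h * x * h⁻¹) = lam x
  nu : G → ℂ
  nu' : G → ℂ
  lin₁ : IsLin C nu
  lin₂ : IsLin C nu'
  perm : ∀ h ∈ C.H,
    (∀ x ∈ C.U, nu (h * x * h⁻¹) = nu x ∧ nu' (h * x * h⁻¹) = nu' x) ∨
      ∀ x ∈ C.U, nu (h * x * h⁻¹) = nu' x ∧ nu' (h * x * h⁻¹) = nu x
  fix₁ : ∀ x ∈ C.U, nu (C.t * x * C.t) = nu x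
  fix₂ : ∀ x ∈ C.U, nu' (C.t * x * C.t) = nu' x
  rot₁ : ∀ d ∈ C.D1, nu d = lam (r * d * r⁻¹)
  rot₂ : ∀ d ∈ C.D1, nu' d = nu (r * d * r⁻¹)
  rot₃ : ∀ d ∈ C.D1, lam d = nu' (r * d * r⁻¹)
  mode : (∀ x ∈ C.U, nu x = lam x ∧ nu' x = lam x) ∨
    (C.n = 3 ∧ (¬ ∀ d ∈ C.D1, lam d = nu d) ∧ (¬ ∀ d ∈ C.D1, lam d = nu' d) ∧
      (¬ ∀ d ∈ C.D1, nu d = nu' d) ∧ ∀ x ∈ C.U, nu' x = nu (C.s * x * C.s⁻¹))

variable (C : Ctx G)

theorem cycle_third {r : G} (h1 : r * C.z * r⁻¹ = C.t) (h2 : r * C.t * r⁻¹ = C.z * C.t) :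
    r * (C.z * C.t) * r⁻¹ = C.z := by
  rw [← conj_mul, h1, h2, ← mul_assoc, ← C.commute_zt.eq, mul_assoc, C.inv_t.1, mul_one]

/-- The inverse rotation normalises `D1`. -/
theorem conj_mem_D1' {r : G} (h1 : r * C.z * r⁻¹ = C.t) (h2 : r * C.t * r⁻¹ = C.z * C.t) {x : G}
    (hx : x ∈ C.D1) : r⁻¹ * x * r ∈ C.D1 := by
  obtain ⟨hxU, hxt⟩ := C.mem_D1.1 hx
  have hxz : Commute x C.z := C.mem_H.1 (C.U_le_H hxU)
  refine C.mem_D1_of_odd ?_ ?_ ?_
  · have h := (Commute.conj_iff r⁻¹).2 (show Commute x C.t from hxt)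
    rwa [← h1, inv_inv, show r⁻¹ * (r * C.z * r⁻¹) * r = C.z by group] at h
  · have h := (Commute.conj_iff r⁻¹).2 (hxz.mul_right hxt)
    rwa [← h2, inv_inv, show r⁻¹ * (r * C.t * r⁻¹) * r = C.t by group] at h
  · have h := CfsgLib.Invol.orderOf_conj_eq r⁻¹ x
    rw [inv_inv] at h
    rw [h]; exact odd_orderOf C.odd_U hxU

theorem V1_commute_D1 {v d : G} (hv : v ∈ C.V1) (hd : d ∈ C.D1) : Commute v d := by
  obtain ⟨hdU, hdt⟩ := C.mem_D1.1 hd
  have hdz : Commute d C.z := C.mem_H.1 (C.U_le_H hdU)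
  rcases C.mem_V1.1 hv with rfl | rfl | rfl | rfl
  exacts [Commute.one_left d, hdz.symm, hdt.symm, (hdz.mul_right hdt).symm]

/-- The centraliser of `V1` acts on `D1` by inner automorphisms. -/
theorem exists_inner {c : G} (hz : Commute c C.z) (ht : Commute c C.t) :
    ∃ e ∈ C.D1, ∀ d ∈ C.D1, c * d * c⁻¹ = e * d * e⁻¹ := by
  have hcH := C.mem_H.2 hz
  have hp : Commute (C.pr c) C.t := by
    show C.pr c * C.t = C.t * C.pr c
    rw [← pr_of_mem C C.data.τ_mem, ← C.pr_mul hcH C.t_mem_H, ← C.pr_mul C.t_mem_H hcH, ht.eq]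
  have hpV : C.pr c ∈ C.V1 := CaseII.commute_t_of_mem_P C (C.data.proj_mem c) hp
  refine ⟨c * (C.pr c)⁻¹, C.mem_D1.2 ⟨C.upart_mem hcH, ht.mul_left hp.inv_left⟩, fun d hd => ?_⟩
  symm
  calc c * (C.pr c)⁻¹ * d * (c * (C.pr c)⁻¹)⁻¹
      = c * ((C.pr c)⁻¹ * d * C.pr c) * c⁻¹ := by group
    _ = _ := by rw [(C.V1_commute_D1 (inv_mem hpV) hd).eq, inv_mul_cancel_right]

/-- A function on `U` is invariant under all of `H` if it is invariant under `t` and `s`. -/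
theorem inv_of_gen {f : G → ℂ} (hf : IsLin C f) (ht : ∀ x ∈ C.U, f (C.t * x * C.t) = f x)
    (hs : ∀ x ∈ C.U, f (C.s * x * C.s⁻¹) = f x) :
    ∀ h ∈ C.H, ∀ x ∈ C.U, f (h * x * h⁻¹) = f x := by
  have hpow : ∀ (k : ℕ), ∀ x ∈ C.U, f (C.s ^ k * x * (C.s ^ k)⁻¹) = f x := by
    intro k
    induction k with
    | zero => intro x _; simp
    | succ k ih =>
      intro x hx
      rw [show C.s ^ (k + 1) * x * (C.s ^ (k + 1))⁻¹ =
        C.s ^ k * (C.s * x * C.s⁻¹) * (C.s ^ k)⁻¹ by rw [pow_succ]; group,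
        ih _ (conj_mem C.s_norm_U hx), hs x hx]
  intro h hh x hx
  obtain ⟨w, hw, p, hp, rfl⟩ := C.exists_mul_P hh
  have hpx : p * x * p⁻¹ ∈ C.U := conj_mem (C.H_le_normalizer_U (C.P_le_H hp)) hx
  rw [show w * p * x * (w * p)⁻¹ = w * (p * x * p⁻¹) * w⁻¹ by group, hf.conj_apply hw hpx]
  rcases C.data.cases p hp with h1 | h1 <;> obtain ⟨k, hk⟩ := mem_powers_iff_mem_zpowers.2 h1
  · change C.s ^ k = p at hk
    rw [← hk, hpow k x hx]
  · change C.s ^ k = p * C.t at hk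
    rw [show p = C.s ^ k * C.t by rw [hk, mul_assoc, C.inv_t.1, mul_one],
      show C.s ^ k * C.t * x * (C.s ^ k * C.t)⁻¹ = C.s ^ k * (C.t * x * C.t⁻¹) * (C.s ^ k)⁻¹ by group,
      C.inv_t.inv_eq, hpow k _ (conj_invol_eq C.inv_t.1 x ▸ conj_mem C.t_norm_U hx), ht x hx]

/-- A linear character trivial on the elements inverted by a reflection is fixed by it. -/
theorem fix_of_trivial {f : G → ℂ} (hf : IsLin C f) (h : ∀ y ∈ C.U1, f y = 1) {x : G}
    (hx : x ∈ C.U) : f (C.t * x * C.t) = f x := by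
  obtain ⟨e, he, y, hy, hyt, rfl⟩ := C.exists_mul_t hx
  rw [invol_mul C.inv_t.1, conj_eq_of_commute C.inv_t.1 (C.mem_D1.1 he).2, hyt,
    hf.mul (C.D1_le_U he) (inv_mem hy), hf.mul (C.D1_le_U he) hy, h y (mem_invGen hy hyt),
    h y⁻¹ (inv_mem (mem_invGen hy hyt))]

variable {C}

/-- A linear character fixed by a rotation has the constant twist. -/
def Twist.const {lam : G → ℂ} (hl : IsLin C lam)
    (hi : ∀ h ∈ C.H, ∀ x ∈ C.U, lam (h * x * h⁻¹) = lam x) (r : G)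
    (h1 : r * C.z * r⁻¹ = C.t) (h2 : r * C.t * r⁻¹ = C.z * C.t)
    (hr : ∀ d ∈ C.D1, lam (r * d * r⁻¹) = lam d) : Twist C lam where
  r := r
  hz := h1
  ht := h2
  lin := hl
  inv := hi
  nu := lam
  nu' := lam
  lin₁ := hl
  lin₂ := hl
  perm h hh := Or.inl fun x hx => ⟨hi h hh x hx, hi h hh x hx⟩
  fix₁ x hx := by rw [← conj_invol_eq C.inv_t.1]; exact hi _ C.t_mem_H x hx
  fix₂ x hx := by rw [← conj_invol_eq C.inv_t.1]; exact hi _ C.t_mem_H x hx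
  rot₁ d hd := (hr d hd).symm
  rot₂ d hd := (hr d hd).symm
  rot₃ d hd := (hr d hd).symm
  mode := Or.inl fun _ _ => ⟨rfl, rfl⟩

/-- The rotations when the first one extends to a linear character of `U`. -/
theorem exists_twist (hn : C.n = 3) {lam : G → ℂ} (hl : IsLin C lam)
    (hi : ∀ h ∈ C.H, ∀ x ∈ C.U, lam (h * x * h⁻¹) = lam x) (r : G)
    (h1 : r * C.z * r⁻¹ = C.t) (h2 : r * C.t * r⁻¹ = C.z * C.t)
    (hker : ∀ d ∈ C.D1, d ∈ C.U1 → lam (r * d * r⁻¹) = 1) : Nonempty (Twist C lam) := by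
  have h3 := C.cycle_third h1 h2
  have hrD : ∀ {d : G}, d ∈ C.D1 → r * d * r⁻¹ ∈ C.D1 := fun hd => C.conj_mem_D1 h1 h3 hd
  have hU1 : C.U ≤ normalizer (C.U1 : Set G) :=
    le_normalizer_invGen C.inv_t.1 C.odd_U C.t_norm_U
  have htU1 : C.t ∈ normalizer (C.U1 : Set G) :=
    mem_normalizer_invGen_of_commute C.inv_t.1 (Commute.refl _) C.t_norm_U
  have hex : ∀ x : G, x ∈ C.U → ∃ e, e ∈ C.D1 ∧ e⁻¹ * x ∈ C.U1 := by
    intro x hx
    obtain ⟨e, he, y, hy, hyt, rfl⟩ := C.exists_mul_t hx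
    exact ⟨e, he, by rw [inv_mul_cancel_left]; exact mem_invGen hy hyt⟩
  let nu : G → ℂ := fun x => if h : x ∈ C.U then lam (r * (hex x h).choose * r⁻¹) else 0
  have hnu : ∀ {x e : G}, x ∈ C.U → e ∈ C.D1 → e⁻¹ * x ∈ C.U1 → nu x = lam (r * e * r⁻¹) := by
    intro x e hx he hex'
    simp only [nu, dif_pos hx]
    obtain ⟨he', he''⟩ := (hex x hx).choose_spec
    generalize (hex x hx).choose = e' at he' he''
    have hd : e⁻¹ * e' ∈ C.D1 := mul_mem (inv_mem he) he'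
    have hd' : e⁻¹ * e' ∈ C.U1 := by
      have h := mul_mem hex' (inv_mem he'')
      rwa [show e⁻¹ * x * (e'⁻¹ * x)⁻¹ = e⁻¹ * e' by group] at h
    have h4 := hker _ hd hd'
    rw [show r * (e⁻¹ * e') * r⁻¹ = (r * e * r⁻¹)⁻¹ * (r * e' * r⁻¹) by group,
      hl.mul (inv_mem (C.D1_le_U (hrD he))) (C.D1_le_U (hrD he'))] at h4
    calc lam (r * e' * r⁻¹) = lam (r * e * r⁻¹) * (lam (r * e * r⁻¹)⁻¹ * lam (r * e' * r⁻¹)) := by
          rw [← mul_assoc, mul_comm (lam (r * e * r⁻¹)),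
            hl.inv_mul (C.D1_le_U (hrD he)), one_mul]
      _ = _ := by rw [h4, mul_one]
  have hD : ∀ d ∈ C.D1, nu d = lam (r * d * r⁻¹) := fun d hd =>
    hnu (C.D1_le_U hd) hd (by rw [inv_mul_cancel]; exact one_mem _)
  have hlin : IsLin C nu := by
    refine ⟨?_, fun {x y} hx hy => ?_⟩
    · rw [hD 1 (one_mem _), mul_one, mul_inv_cancel, hl.one]
    · obtain ⟨e, he, hex'⟩ := hex x hx
      obtain ⟨e', he', hey⟩ := hex y hy
      have hmem : (e * e')⁻¹ * (x * y) ∈ C.U1 := by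
        rw [show (e * e')⁻¹ * (x * y) = e'⁻¹ * (e⁻¹ * x) * e' * (e'⁻¹ * y) by group]
        exact mul_mem (conj_mem' (hU1 (C.D1_le_U he')) hex') hey
      rw [hnu hx he hex', hnu hy he' hey, hnu (mul_mem hx hy) (mul_mem he he') hmem, ← conj_mul,
        hl.mul (C.D1_le_U (hrD he)) (C.D1_le_U (hrD he'))]
  have htt : ∀ x ∈ C.U, C.t * x * C.t ∈ C.U := fun x hx =>
    conj_invol_eq C.inv_t.1 x ▸ conj_mem C.t_norm_U hx
  have hfix : ∀ x ∈ C.U, nu (C.t * x * C.t) = nu x := by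
    intro x hx
    obtain ⟨e, he, hex'⟩ := hex x hx
    refine (hnu (htt x hx) he ?_).trans (hnu hx he hex').symm
    have h := conj_mem htU1 hex'
    rwa [conj_invol_eq C.inv_t.1, invol_mul C.inv_t.1,
      conj_eq_of_commute C.inv_t.1 (C.mem_D1.1 he).2.inv_left] at h
  let nu' : G → ℂ := fun x => nu (C.s * x * C.s⁻¹)
  have hlin' : IsLin C nu' := hlin.comp_conj C.s_mem_H
  have hss : C.s * C.s = C.z := by rw [z, hn]; norm_num [sq]
  have hsinv : C.s⁻¹ = C.s * C.z := by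
    refine inv_eq_of_mul_eq_one_right ?_
    rw [← mul_assoc, hss, C.inv_z.1]
  have hsU : ∀ x ∈ C.U, C.s * x * C.s⁻¹ ∈ C.U := fun x hx => conj_mem C.s_norm_U hx
  have hzU : ∀ x ∈ C.U, C.z * x * C.z⁻¹ = x := fun x hx => by
    rw [← (C.mem_H.1 (C.U_le_H hx)).eq, mul_inv_cancel_right]
  have hswap : ∀ x ∈ C.U, nu' (C.s * x * C.s⁻¹) = nu x := fun x hx => by
    show nu _ = nu x
    rw [show C.s * (C.s * x * C.s⁻¹) * C.s⁻¹ = C.s * C.s * x * (C.s * C.s)⁻¹ by group, hss,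
      hzU x hx]
  have hfix' : ∀ x ∈ C.U, nu' (C.t * x * C.t) = nu' x := by
    intro x hx
    have hsx : C.s⁻¹ * x * C.s = C.s * x * C.s⁻¹ := by
      calc C.s⁻¹ * x * C.s = (C.s * C.z) * x * (C.s * C.z)⁻¹ := by rw [← hsinv, inv_inv]
        _ = C.s * (C.z * x * C.z⁻¹) * C.s⁻¹ := by group
        _ = _ := by rw [hzU x hx]
    show nu _ = nu _
    have hst : C.s * C.t = C.t * C.s⁻¹ := by
      calc C.s * C.t = C.s * (C.t * C.s) * C.s⁻¹ := by group
        _ = _ := by rw [C.t_mul_s]; group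
    have hts : C.t * C.s⁻¹ = C.s * C.t := hst.symm
    calc nu (C.s * (C.t * x * C.t) * C.s⁻¹)
        = nu ((C.s * C.t) * x * (C.t * C.s⁻¹)) := by congr 1; group
      _ = nu (C.t * (C.s⁻¹ * x * C.s) * C.t) := by
          rw [hts]; nth_rw 1 [hst]; congr 1; group
      _ = nu (C.s * x * C.s⁻¹) := by rw [hsx, hfix _ (hsU x hx)]
  have hperm : ∀ h ∈ C.H, (∀ x ∈ C.U, nu (h * x * h⁻¹) = nu x ∧ nu' (h * x * h⁻¹) = nu' x) ∨
      ∀ x ∈ C.U, nu (h * x * h⁻¹) = nu' x ∧ nu' (h * x * h⁻¹) = nu x := by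
    have hpow : ∀ k : ℕ, (∀ x ∈ C.U, nu (C.s ^ k * x * (C.s ^ k)⁻¹) = nu x ∧
        nu' (C.s ^ k * x * (C.s ^ k)⁻¹) = nu' x) ∨
        ∀ x ∈ C.U, nu (C.s ^ k * x * (C.s ^ k)⁻¹) = nu' x ∧
          nu' (C.s ^ k * x * (C.s ^ k)⁻¹) = nu x := by
      intro k
      induction k with
      | zero => exact Or.inl fun x _ => by simp
      | succ k ih =>
        have e : ∀ x, C.s ^ (k + 1) * x * (C.s ^ (k + 1))⁻¹ =
            C.s ^ k * (C.s * x * C.s⁻¹) * (C.s ^ k)⁻¹ := fun x => by rw [pow_succ]; group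
        rcases ih with ih | ih
        · exact Or.inr fun x hx => by
            rw [e, (ih _ (hsU x hx)).1, (ih _ (hsU x hx)).2]; exact ⟨rfl, hswap x hx⟩
        · exact Or.inl fun x hx => by
            rw [e, (ih _ (hsU x hx)).1, (ih _ (hsU x hx)).2]; exact ⟨hswap x hx, rfl⟩
    intro h hh
    obtain ⟨w, hw, p, hp, rfl⟩ := C.exists_mul_P hh
    have hpn := C.H_le_normalizer_U (C.P_le_H hp)
    have e : ∀ x ∈ C.U, nu (w * p * x * (w * p)⁻¹) = nu (p * x * p⁻¹) ∧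
        nu' (w * p * x * (w * p)⁻¹) = nu' (p * x * p⁻¹) := fun x hx => by
      rw [show w * p * x * (w * p)⁻¹ = w * (p * x * p⁻¹) * w⁻¹ by group,
        hlin.conj_apply hw (conj_mem hpn hx), hlin'.conj_apply hw (conj_mem hpn hx)]
      exact ⟨rfl, rfl⟩
    rcases C.data.cases p hp with hq | hq <;> obtain ⟨k, hk⟩ := mem_powers_iff_mem_zpowers.2 hq
    · change C.s ^ k = p at hk
      rcases hpow k with h' | h' <;> rw [hk] at h'
      · exact Or.inl fun x hx => by rw [(e x hx).1, (e x hx).2]; exact h' x hx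
      · exact Or.inr fun x hx => by rw [(e x hx).1, (e x hx).2]; exact h' x hx
    · change C.s ^ k = p * C.t at hk
      have e' : ∀ x : G, p * x * p⁻¹ = C.s ^ k * (C.t * x * C.t) * (C.s ^ k)⁻¹ := fun x => by
        calc p * x * p⁻¹ = (p * C.t) * (C.t⁻¹ * x * C.t⁻¹⁻¹) * (p * C.t)⁻¹ := by group
          _ = _ := by rw [inv_inv, C.inv_t.inv_eq, hk]
      rcases hpow k with h' | h'
      · refine Or.inl fun x hx => ?_
        rw [(e x hx).1, (e x hx).2, e', (h' _ (htt x hx)).1, (h' _ (htt x hx)).2]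
        exact ⟨hfix x hx, hfix' x hx⟩
      · refine Or.inr fun x hx => ?_
        rw [(e x hx).1, (e x hx).2, e', (h' _ (htt x hx)).1, (h' _ (htt x hx)).2]
        exact ⟨hfix' x hx, hfix x hx⟩
  -- the rotation
  have hst' : C.s * C.t * C.s⁻¹ = C.z * C.t := by
    calc C.s * C.t * C.s⁻¹ = C.s * (C.t * C.s⁻¹) := by group
      _ = C.s * (C.s * C.t) := by
          congr 1
          calc C.t * C.s⁻¹ = C.s * (C.s⁻¹ * C.t) * C.s⁻¹ := by group
            _ = _ := by rw [← C.t_mul_s]; group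
      _ = _ := by rw [← mul_assoc, hss]
  have hszt : C.s * (C.z * C.t) * C.s⁻¹ = C.t := by
    rw [← conj_mul, hst', ((C.mem_H.1 C.s_mem_H)).eq, mul_inv_cancel_right, ← mul_assoc, C.inv_z.1,
      one_mul]
  have hsz : C.s⁻¹ * C.z * C.s = C.z := by
    rw [mul_assoc, ← (C.mem_H.1 C.s_mem_H).eq, inv_mul_cancel_left]
  have hsD : ∀ d ∈ C.D1, C.s * d * C.s⁻¹ ∈ C.D1 := fun d hd => by
    refine C.mem_D1.2 ⟨hsU _ (C.D1_le_U hd), ?_⟩
    have h := (Commute.conj_iff C.s).2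
      ((C.V1_commute_D1 (mul_mem C.z_mem_V1 C.t_mem_V1) hd).symm)
    rwa [hszt] at h
  have hinner : ∀ (g c : G), Commute c C.z → Commute c C.t → (∀ d ∈ C.D1, g * d * g⁻¹ ∈ C.U) →
      ∀ d ∈ C.D1, lam (g * (c * d * c⁻¹) * g⁻¹) = lam (g * d * g⁻¹) := by
    intro g c hcz hct hg d hd
    obtain ⟨e, he, hed⟩ := C.exists_inner hcz hct
    rw [hed d hd, show g * (e * d * e⁻¹) * g⁻¹ =
      g * e * g⁻¹ * (g * d * g⁻¹) * (g * e * g⁻¹)⁻¹ by group, hl.conj_apply (hg e he) (hg d hd)]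
  have hrot2 : ∀ d ∈ C.D1, nu' d = nu (r * d * r⁻¹) := by
    intro d hd
    have hcz : Commute ((r * r)⁻¹ * (C.s⁻¹ * r * C.s)) C.z ∧
        Commute ((r * r)⁻¹ * (C.s⁻¹ * r * C.s)) C.t := by
      have key : ∀ v w : G, (C.s⁻¹ * r * C.s) * v * (C.s⁻¹ * r * C.s)⁻¹ = w →
          r * r * v * (r * r)⁻¹ = w → Commute ((r * r)⁻¹ * (C.s⁻¹ * r * C.s)) v := fun v w e1 e2 => by
        generalize C.s⁻¹ * r * C.s = b at e1 ⊢
        generalize r * r = a at e2 ⊢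
        refine mul_inv_eq_iff_eq_mul.1 ?_
        calc a⁻¹ * b * v * (a⁻¹ * b)⁻¹ = a⁻¹ * (b * v * b⁻¹) * a := by group
          _ = v := by
              rw [e1, ← e2]
              simp only [mul_assoc, inv_mul_cancel_left, inv_mul_cancel, mul_one]
      constructor
      · refine key C.z (C.z * C.t) ?_ ?_
        · calc C.s⁻¹ * r * C.s * C.z * (C.s⁻¹ * r * C.s)⁻¹
              = C.s⁻¹ * (r * (C.s * C.z * C.s⁻¹) * r⁻¹) * C.s := by group
            _ = C.s⁻¹ * (C.s * (C.z * C.t) * C.s⁻¹) * C.s := by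
                rw [(C.mem_H.1 C.s_mem_H).eq, mul_inv_cancel_right, h1, hszt]
            _ = _ := by group
        · calc r * r * C.z * (r * r)⁻¹ = r * (r * C.z * r⁻¹) * r⁻¹ := by group
            _ = _ := by rw [h1, h2]
      · refine key C.t C.z ?_ ?_
        · calc C.s⁻¹ * r * C.s * C.t * (C.s⁻¹ * r * C.s)⁻¹
              = C.s⁻¹ * (r * (C.s * C.t * C.s⁻¹) * r⁻¹) * C.s := by group
            _ = _ := by rw [hst', h3, hsz]
        · calc r * r * C.t * (r * r)⁻¹ = r * (r * C.t * r⁻¹) * r⁻¹ := by group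
            _ = _ := by rw [h2, h3]
    show nu (C.s * d * C.s⁻¹) = _
    rw [hD _ (hsD d hd), hD _ (hrD hd)]
    have hrr : ∀ e ∈ C.D1, r * r * e * (r * r)⁻¹ ∈ C.U := fun e he => by
      rw [show r * r * e * (r * r)⁻¹ = r * (r * e * r⁻¹) * r⁻¹ by group]
      exact C.D1_le_U (hrD (hrD he))
    rw [← hi _ (inv_mem C.s_mem_H) _ (C.D1_le_U (hrD (hsD d hd))),
      show r * (r * d * r⁻¹) * r⁻¹ = r * r * d * (r * r)⁻¹ by group,
      ← hinner (r * r) _ hcz.1 hcz.2 hrr d hd]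
    congr 1
    group
  have hrot3 : ∀ d ∈ C.D1, lam d = nu' (r * d * r⁻¹) := by
    intro d hd
    have key : ∀ v : G, r * (r * (r * v * r⁻¹) * r⁻¹) * r⁻¹ = v → Commute (r * r * r) v :=
      fun v e => mul_inv_eq_iff_eq_mul.1 (by
        calc r * r * r * v * (r * r * r)⁻¹ = r * (r * (r * v * r⁻¹) * r⁻¹) * r⁻¹ := by group
          _ = v := e)
    have h4 := hinner 1 (r * r * r) (key C.z (by rw [h1, h2, h3])) (key C.t (by rw [h2, h3, h1]))
      (fun e he => by rw [one_mul, inv_one, mul_one]; exact C.D1_le_U he) d hd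
    rw [one_mul, inv_one, mul_one, mul_one, one_mul] at h4
    rw [hrot2 _ (hrD hd), hD _ (hrD (hrD hd)), ← h4]
    congr 1
    group
  by_cases hfx : ∀ d ∈ C.D1, lam d = nu d
  · exact ⟨Twist.const hl hi r h1 h2 fun d hd => ((hfx d hd).trans (hD d hd)).symm⟩
  refine ⟨⟨r, h1, h2, hl, hi, nu, nu', hlin, hlin', hperm, hfix, hfix', hD, hrot2, hrot3,
    Or.inr ⟨hn, hfx, fun h => hfx fun d hd => ?_, fun h => hfx fun d hd => ?_, fun x _ => rfl⟩⟩⟩
  · -- `lam = nu'` on `D1`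
    have h' := C.conj_mem_D1' h1 h2 hd
    have e1 := hrot3 _ h'
    have e2 := hrot2 _ h'
    rw [show r * (r⁻¹ * d * r) * r⁻¹ = d by group] at e1 e2
    rw [← e2, ← h _ h', e1, h d hd]
  · rw [hrot3 d hd, ← h _ (hrD hd), ← hrot2 d hd, h d hd]

end CfsgLib.GW.Eight.Ctx
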