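import Cfsg.Agent.GW.Eight.Linear.Localise
import Cfsg.Agent.GW.Eight.Linear.Mult
import Cfsg.Agent.GW.Eight.Linear.Pairs

/-!
# Gorenstein–Walter, `|S| ≥ 8`, linear characters: the values at `z`
-/

set_option autoImplicit false
set_option linter.style.haveILetI false
set_option linter.unusedSectionVars false

namespace CfsgLib.GW.Eight.Ctx

open Cfsg Finset CfsgLib.DihPrincipal CfsgLib.GW CfsgLib.Block CfsgLib.Block.Chr CfsgLib.Char
open CfsgLib.GW.CaseI (conj_invol_eq)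
open CfsgLib.NormCyclic (Inv)
open CfsgLib.DGroup (conj_mem odd_orderOf)
open scoped ComplexConjugate Classical

universe u

variable {G : Type u} [Group G] [Fintype G] [Fact (Nat.Prime 2)] (C : Ctx G)

include C in
theorem eq_one_of_degree_one (χ : IrrCharacter G) (h : (χ : G → ℂ) 1 = 1) :
    ∀ g : G, (χ : G → ℂ) g = 1 := by
  obtain ⟨f, hf⟩ := IsCharacter.exists_hom (isCharacter_irr χ) h
  haveI := C.simple
  rcases (MonoidHom.normal_ker f).eq_bot_or_eq_top with hk | hk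
  · exfalso
    refine C.na ⟨⟨fun x y => (MonoidHom.ker_eq_bot_iff f).1 hk ?_⟩⟩
    rw [map_mul, map_mul, mul_comm]
  · intro g
    rw [hf]
    show ((f g : ℂˣ) : ℂ) = 1
    rw [MonoidHom.mem_ker.1 (hk ▸ Subgroup.mem_top g : g ∈ f.ker), Units.val_one]

/-- A supporting character is not of degree one. -/
theorem deg_ne_one {lam : G → ℂ} (hl : IsLin C lam) (hne : ¬ ∀ x ∈ C.U, lam x = 1)
    (χ : IrrCharacter G) {g : G} (hV : C.cV lam (χ : G → ℂ) g ≠ 0) :
    charDegree (χ : G → ℂ) ≠ 1 := by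
  intro h
  refine hV ?_
  have h1 := C.eq_one_of_degree_one χ (by rw [(irr_one χ).1, h, Nat.cast_one])
  have h0 : ∑ x ∈ fin C.U, lam x⁻¹ * 1 = 0 := by
    rw [hl.sum_mul C.isLin_one le_rfl, if_neg hne]
  rw [cV, sum_congr rfl fun x _ => show (χ : G → ℂ) (g * x) * lam x⁻¹ = lam x⁻¹ * 1 by
    rw [h1, one_mul, mul_one], h0, mul_zero]

theorem apply_invol (χ : IrrCharacter G) {v : G} (hv : Inv v) : (χ : G → ℂ) v = (χ : G → ℂ) C.z :=
  (CfsgLib.Char.IsClassFunction.apply_eq_of_isConj (isClassFunction_irr χ)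
    (C.isConj_z_iff.2 hv)).symm

/-- The degree and the value at an involution modulo four. -/
theorem deg_cong (χ : IrrCharacter G) {v : ℤ} (h : (χ : G → ℂ) C.z = v) :
    (4 : ℤ) ∣ (charDegree (χ : G → ℂ) : ℤ) + 3 * v := by
  haveI : Fintype C.V1 := Fintype.ofFinite _
  obtain ⟨k, hk⟩ := FrobeniusSylow.exists_restrict_mult C.V1 χ 1
  refine ⟨k, ?_⟩
  simp only [MonoidHom.one_apply, Units.val_one, map_one, mul_one] at hk
  rw [CaseII.card_V1 C, sum_fin_coe C.V1 (χ : G → ℂ),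
    show fin C.V1 = {1, C.z, C.t, C.z * C.t} by ext x; simp [mem_fin, C.mem_V1],
    sum_insert (by simp [C.inv_z.2.symm, C.inv_t.2.symm, C.inv_zt.2.symm]),
    sum_insert (by simp [C.z_ne_t, C.inv_t.2]),
    sum_pair (fun e => C.inv_z.2 (mul_eq_right.1 e.symm)),
    C.apply_invol χ C.inv_t, C.apply_invol χ C.inv_zt, (irr_one χ).1, h] at hk
  have : (((charDegree (χ : G → ℂ) : ℤ) + 3 * v : ℤ) : ℂ) = ((4 * (k : ℤ) : ℤ) : ℂ) := by
    push_cast at hk ⊢
    linear_combination -hk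
  exact_mod_cast this

/-- A function on a coset of `t` in the extension: the sum is that over the centraliser. -/
theorem sum_tU (F : G → ℂ) (hF : ∀ w ∈ C.U, ∀ x ∈ C.U, F (w * (C.t * x) * w⁻¹) = F (C.t * x)) :
    (Nat.card C.D1 : ℂ) * ∑ x ∈ fin C.U, F (C.t * x) =
      (Nat.card C.U : ℂ) * ∑ d ∈ fin C.D1, F (C.t * d) := by
  let φ : G × G → G := fun p => C.t * (p.1 * (C.t * p.2) * p.1⁻¹)
  have htt : ∀ g : G, C.t * (C.t * g) = g := fun g => by rw [← mul_assoc, C.inv_t.1, one_mul]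
  set S := fin C.U ×ˢ fin C.D1 with hS
  have hφ : ∀ p ∈ S, φ p ∈ fin C.U := fun p hp => by
    obtain ⟨h1, h2⟩ := mem_product.1 hp
    refine mem_fin.2 ?_
    show C.t * (p.1 * (C.t * p.2) * p.1⁻¹) ∈ C.U
    rw [show C.t * (p.1 * (C.t * p.2) * p.1⁻¹) = C.t * p.1 * C.t * p.2 * p.1⁻¹ by group]
    refine mul_mem (mul_mem ?_ (C.D1_le_U (mem_fin.1 h2))) (inv_mem (mem_fin.1 h1))
    rw [← conj_invol_eq C.inv_t.1]
    exact conj_mem (C.H_le_normalizer_U C.t_mem_H) (mem_fin.1 h1)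
  have hfib : ∀ p ∈ S, (S.filter fun q => φ q = φ p).card = Nat.card C.D1 := by
    intro p hp
    obtain ⟨h1, h2⟩ := mem_product.1 hp
    rw [← card_fin]
    symm
    refine card_bij (fun c _ => (p.1 * c, c⁻¹ * p.2 * c)) (fun c hc => ?_)
      (fun c _ c' _ e => mul_left_cancel (Prod.mk.inj e).1) fun q hq => ?_
    · have hc' := mem_fin.1 hc
      refine mem_filter.2 ⟨mem_product.2 ⟨mem_fin.2 (mul_mem (mem_fin.1 h1) (C.D1_le_U hc')),
        mem_fin.2 (mul_mem (mul_mem (inv_mem hc') (mem_fin.1 h2)) hc')⟩, ?_⟩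
      show C.t * (p.1 * c * (C.t * (c⁻¹ * p.2 * c)) * (p.1 * c)⁻¹) = _
      rw [show C.t * (c⁻¹ * p.2 * c) = c⁻¹ * (C.t * p.2) * c by
        rw [← mul_assoc, ← mul_assoc, ← (C.mem_D1.1 hc').2.inv_left.eq]
        group]
      show _ = C.t * (p.1 * (C.t * p.2) * p.1⁻¹)
      group
    · obtain ⟨hq', he⟩ := mem_filter.1 hq
      obtain ⟨g1, g2⟩ := mem_product.1 hq'
      have he' : q.1 * (C.t * q.2) * q.1⁻¹ = p.1 * (C.t * p.2) * p.1⁻¹ := mul_left_cancel he
      set c := p.1⁻¹ * q.1 with hc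
      have hc1 : c * (C.t * q.2) * c⁻¹ = C.t * p.2 := by
        calc c * (C.t * q.2) * c⁻¹ = p.1⁻¹ * (q.1 * (C.t * q.2) * q.1⁻¹) * p.1 := by
              rw [hc]; group
          _ = _ := by rw [he']; group
      have hpow : ∀ d ∈ C.D1, ∀ N : ℕ, Odd N → d ^ N = 1 → (C.t * d) ^ N = C.t := by
        intro d hd N hN hdN
        rw [(C.mem_D1.1 hd).2.symm.mul_pow, hdN, mul_one]
        obtain ⟨m, rfl⟩ := hN
        rw [pow_succ, pow_mul, sq, C.inv_t.1, one_pow, one_mul]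
      have hq2 := C.D1_le_U (mem_fin.1 g2)
      have hp2 := C.D1_le_U (mem_fin.1 h2)
      have hN : Odd (orderOf q.2 * orderOf p.2) :=
        (odd_orderOf C.odd_U hq2).mul (odd_orderOf C.odd_U hp2)
      have hct : c * C.t * c⁻¹ = C.t := by
        conv_lhs => rw [← hpow _ (mem_fin.1 g2) _ hN (by rw [pow_mul, pow_orderOf_eq_one, one_pow])]
        rw [← conj_pow, hc1,
          hpow _ (mem_fin.1 h2) _ hN (by rw [mul_comm, pow_mul, pow_orderOf_eq_one, one_pow])]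
      have hcD : c ∈ C.D1 := C.mem_D1.2
        ⟨mul_mem (inv_mem (mem_fin.1 h1)) (mem_fin.1 g1), mul_inv_eq_iff_eq_mul.1 hct⟩
      refine ⟨c, mem_fin.2 hcD, Prod.ext (by rw [hc, mul_inv_cancel_left]) ?_⟩
      show c⁻¹ * p.2 * c = q.2
      have e : c * q.2 * c⁻¹ = p.2 := mul_left_cancel (a := C.t) (by
        rw [← hc1, ← mul_assoc, ← mul_assoc, ← (C.mem_D1.1 hcD).2.eq]
        group)
      rw [← e]; group
  have hpos : (S.image φ).card * Nat.card C.D1 = S.card := by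
    rw [card_eq_sum_card_image φ S, sum_congr rfl fun g hg => show _ = Nat.card C.D1 by
      obtain ⟨p, hp, rfl⟩ := mem_image.1 hg
      exact hfib p hp, sum_const, smul_eq_mul]
  rw [hS, card_product, card_fin C.D1] at hpos
  have himg : S.image φ = fin C.U :=
    eq_of_subset_of_card_le (fun g hg => by
      obtain ⟨p, hp, rfl⟩ := mem_image.1 hg
      exact hφ p hp) (Nat.eq_of_mul_eq_mul_right Nat.card_pos hpos).ge
  rw [← himg, mul_sum, ← card_fin C.U, mul_sum, sum_congr rfl fun d _ => show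
    ((fin C.U).card : ℂ) * F (C.t * d) = ∑ _w ∈ fin C.U, F (C.t * d) by
      rw [sum_const, nsmul_eq_mul], sum_comm, ← sum_product', ← hS,
    sum_congr rfl (g := fun p => (fun g => F (C.t * g)) (φ p)) fun p hp => ?_,
    sum_comp (fun g => F (C.t * g)) φ]
  · refine sum_congr rfl fun g hg => ?_
    obtain ⟨p, hp, rfl⟩ := mem_image.1 hg
    rw [hfib p hp, nsmul_eq_mul]
  · obtain ⟨h1, h2⟩ := mem_product.1 hp
    show F (C.t * p.2) = F (C.t * (C.t * (p.1 * (C.t * p.2) * p.1⁻¹)))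
    rw [htt, hF _ (mem_fin.1 h1) _ (C.D1_le_U (mem_fin.1 h2))]

variable {C} {lam : G → ℂ}

/-- The value in the fixed case. -/
theorem Twist.val_fixed (T : Twist C lam) (T₂ : Twist C.flip lam)
    (hT₂ : ∀ x ∈ C.U, T₂.nu x = lam x ∧ T₂.nu' x = lam x)
    (hf : ∀ x ∈ C.U, T.nu x = lam x ∧ T.nu' x = lam x) (χ : IrrCharacter G)
    (hV : C.cV lam (χ : G → ℂ) C.z ≠ 0) : (χ : G → ℂ) C.z = C.cV lam (χ : G → ℂ) C.z := by
  obtain ⟨k₀, k₁, k₂, hk⟩ := T.exists_span T₂ hT₂ χ hV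
  have hk' : ∀ x ∈ C.U, (χ : G → ℂ) (C.z * x) = (k₀ + k₁ + k₂) * lam x := fun x hx => by
    rw [hk x hx, (hf x hx).1, (hf x hx).2]; ring
  have h1 := hk' 1 (one_mem _)
  rw [mul_one, T.lin.one, mul_one] at h1
  refine mul_left_cancel₀ C.card_U_ne ?_
  rw [C.card_mul_cV, sum_congr rfl fun x hx => show (χ : G → ℂ) (C.z * x) * lam x⁻¹ =
    (χ : G → ℂ) C.z * (lam x⁻¹ * lam x) by rw [hk' x (mem_fin.1 hx), h1]; ring, ← mul_sum,
    T.lin.sum_mul T.lin le_rfl, if_pos fun _ _ => rfl, mul_comm]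

variable [Fintype (IrrCharacter G)]

/-- **The moved case: the coefficient of the rotations.** -/
theorem Twist.exists_wvec (T : Twist C lam) (T₂ : Twist C.flip lam)
    (hT₂ : ∀ x ∈ C.U, T₂.nu x = lam x ∧ T₂.nu' x = lam x) (hn : C.n = 3)
    (h1 : ¬ ∀ d ∈ C.D1, lam d = T.nu d) (h2 : ¬ ∀ d ∈ C.D1, lam d = T.nu' d)
    (h3 : ¬ ∀ d ∈ C.D1, T.nu d = T.nu' d) (hs : ∀ x ∈ C.U, T.nu' x = T.nu (C.s * x * C.s⁻¹)) :
    ∃ W : IrrCharacter G → ℤ, (∑ χ : IrrCharacter G, W χ * W χ = 4) ∧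
      (∑ χ : IrrCharacter G, (charDegree (χ : G → ℂ) : ℤ) * W χ = 0) ∧
      (∀ l : ℕ, 0 < l → l < 4 →
        ∑ χ : IrrCharacter G, (W χ : ℂ) * conj (C.cV lam (χ : G → ℂ) (C.s ^ l)) = 0) ∧
      ∀ χ : IrrCharacter G, C.cV lam (χ : G → ℂ) C.z ≠ 0 →
        (χ : G → ℂ) C.z = C.cV lam (χ : G → ℂ) C.z + 2 * (W χ : ℂ) ∧
        ∀ v : ℤ, C.cV lam (χ : G → ℂ) C.z = v → (2 : ℤ) ∣ W χ - v := by
  have hUD : C.D1 ≤ C.U := C.D1_le_U
  have hzP : C.z ∈ (C.P : Subgroup G) := C.data.le_sylow Data.z_mem_zpowers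
  have hzx : ∀ x ∈ C.U, C.z * x * C.z⁻¹ = x := fun x hx => by
    rw [(C.mem_H.1 (C.U_le_H hx)).symm.eq, mul_inv_cancel_right]
  -- multiplicities
  have hm : ∀ ψ : G → ℂ, IsLin C ψ → ∀ χ : IrrCharacter G,
      ∃ m : ℕ, C.cV ψ (χ : G → ℂ) 1 = m := by
    intro ψ hψ χ
    haveI : Fintype (⊥ : Subgroup G) := Fintype.ofFinite _
    obtain ⟨k, hk⟩ := C.exists_mult hψ (S := ⊥) bot_le
      (fun a ha x _ => by rw [Subgroup.mem_bot.1 ha, one_mul, inv_one, mul_one]) 1 χ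
    refine ⟨k, ?_⟩
    rw [sum_eq_single_of_mem (1 : (⊥ : Subgroup G)) (mem_univ _)
      fun a _ ha => absurd (Subtype.ext (Subgroup.mem_bot.1 a.2)) ha] at hk
    simpa [eq_comm] using hk
  have hpair : ∀ ψ : G → ℂ, IsLin C ψ → ∀ v : G, Inv v → v ∈ (C.P : Subgroup G) →
      (∀ x ∈ C.U, ψ (v * x * v⁻¹) = ψ x) → ∀ χ : IrrCharacter G,
        ∃ k : ℕ, C.cV ψ (χ : G → ℂ) 1 + C.cV ψ (χ : G → ℂ) v = 2 * (k : ℂ) := by
    intro ψ hψ v hv hvP hfix χ
    haveI : Fintype (Subgroup.zpowers v) := Fintype.ofFinite _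
    have hset : ∀ a ∈ Subgroup.zpowers v, a = 1 ∨ a = v := by
      intro a ha
      obtain ⟨i, rfl⟩ := Subgroup.mem_zpowers_iff.1 ha
      rcases Int.even_or_odd' i with ⟨j, rfl | rfl⟩
      · left; rw [zpow_mul, zpow_two, hv.1, one_zpow]
      · right; rw [zpow_add, zpow_mul, zpow_two, hv.1, one_zpow, one_mul, zpow_one]
    obtain ⟨k, hk⟩ := C.exists_mult hψ (Subgroup.zpowers_le.2 hvP) (fun a ha x hx => by
      rcases hset a ha with rfl | rfl
      · rw [one_mul, inv_one, mul_one]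
      · exact hfix x hx) 1 χ
    refine ⟨k, ?_⟩
    simp only [MonoidHom.one_apply, Units.val_one, map_one, one_mul] at hk
    rw [sum_fin_coe (Subgroup.zpowers v) (fun a => C.cV ψ (χ : G → ℂ) a),
      show fin (Subgroup.zpowers v) = {1, v} by
        ext a
        simp only [mem_fin, mem_insert, mem_singleton]
        refine ⟨hset a, ?_⟩
        rintro (rfl | rfl)
        exacts [one_mem _, Subgroup.mem_zpowers _], sum_pair hv.2.symm, Nat.card_zpowers,
      hv.orderOf] at hk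
    rw [← hk, Nat.cast_ofNat]
  have hsz : C.s * C.z * C.s⁻¹ = C.z := by
    rw [(C.mem_H.1 C.s_mem_H).eq, mul_inv_cancel_right]
  have hW' : ∀ (χ : IrrCharacter G) (g : G), C.s * g * C.s⁻¹ = g →
      C.cV T.nu' (χ : G → ℂ) g = C.cV T.nu (χ : G → ℂ) g := by
    intro χ g hg
    conv_rhs => rw [← hg, C.cV_conj C.s_mem_H]
    rw [cV, cV]
    congr 1
    exact sum_congr rfl fun x hx => by rw [hs _ (inv_mem (mem_fin.1 hx))]
  choose m hmm using hm T.nu T.lin₁
  choose k hkk using hpair T.nu T.lin₁ C.z C.inv_z hzP (fun x hx => by rw [hzx x hx])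
  have hW : ∀ χ : IrrCharacter G,
      C.cV T.nu (χ : G → ℂ) C.z = ((2 * (k χ : ℤ) - m χ : ℤ) : ℂ) := fun χ => by
    have := hkk χ
    rw [hmm χ] at this
    push_cast
    linear_combination this
  refine ⟨fun χ => 2 * (k χ : ℤ) - m χ, ?_, ?_, fun l hl0 hl => ?_, fun χ hV => ?_⟩
  · -- the norm
    have h := C.gram_raw T.lin₁ (ψ := T.nu) (ψ' := T.nu) (g := C.z) Data.z_mem_zpowers C.inv_z.2
      (g' := C.z) Data.z_mem_zpowers
    let fx : G → Prop := fun c => ∀ x ∈ C.U, T.nu (c * x * c⁻¹) = T.nu x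
    have hin : ∀ c ∈ fin C.H, (if C.pr c * C.z * (C.pr c)⁻¹ = C.z then
        ∑ x ∈ fin C.U, T.nu x⁻¹ * T.nu (C.z⁻¹ * (c * (C.z * x) * c⁻¹)) else 0) =
        (Nat.card C.U : ℂ) * if fx c then 1 else 0 := by
      intro c hc
      have hcz : Commute c C.z := C.mem_H.1 (mem_fin.1 hc)
      rw [if_pos (by rw [(C.mem_H.1 (C.pr_mem_H c)).eq, mul_inv_cancel_right]),
        sum_congr rfl fun x hx => show T.nu x⁻¹ * T.nu (C.z⁻¹ * (c * (C.z * x) * c⁻¹)) =
          T.nu x⁻¹ * (fun y => T.nu (c * y * c⁻¹)) x by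
          show _ = T.nu x⁻¹ * T.nu (c * x * c⁻¹)
          rw [← mul_assoc c C.z, hcz.eq]
          congr 2
          group,
        T.lin₁.sum_mul (T.lin₁.comp_conj (mem_fin.1 hc)) le_rfl]
      by_cases hf : fx c
      · rw [if_pos fun x hx => (hf x hx).symm, if_pos hf, mul_one]
      · rw [if_neg fun h => hf fun x hx => (h x hx).symm, if_neg hf, mul_zero]
    rw [sum_congr rfl hin, ← mul_sum, sum_boole] at h
    have hne' : ∀ c ∈ C.H, ¬ ((∀ x ∈ C.U, T.nu (c * x * c⁻¹) = T.nu x) ∧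
        ∀ x ∈ C.U, T.nu (c * x * c⁻¹) = T.nu' x) := fun c _ hh =>
      h3 fun d hd => (hh.1 d (hUD hd)).symm.trans (hh.2 d (hUD hd))
    have hsconj : ∀ c ∈ C.H, fx (C.s * c) ↔ ∀ x ∈ C.U, T.nu (c * x * c⁻¹) = T.nu' x := by
      intro c hc
      have e : ∀ x ∈ C.U, T.nu (C.s * c * x * (C.s * c)⁻¹) = T.nu' (c * x * c⁻¹) := fun x hx => by
        rw [hs _ (conj_mem (C.H_le_normalizer_U hc) hx)]
        congr 1
        group
      rcases T.perm c hc with p | p
      · refine ⟨fun hfx => absurd (fun d hd => ?_) h3, fun hh => absurd (fun d hd => ?_) h3⟩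
        · have := hfx d (hUD hd)
          rw [e d (hUD hd), (p d (hUD hd)).2] at this
          exact this.symm
        · have := hh d (hUD hd)
          rwa [(p d (hUD hd)).1] at this
      · exact ⟨fun _ x hx => (p x hx).1, fun _ x hx => by rw [e x hx, (p x hx).2]⟩
    have hcnt : ((fin C.H).filter fx).card * 2 = (fin C.H).card := by
      have hc : ((fin C.H).filter fun c => ¬ fx c).card = ((fin C.H).filter fx).card := by
        refine card_bij (fun c _ => C.s * c) (fun c hc => ?_) (fun _ _ _ _ e => mul_left_cancel e)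
          fun c hc => ?_
        · obtain ⟨h1', h2'⟩ := mem_filter.1 hc
          refine mem_filter.2 ⟨mem_fin.2 (mul_mem C.s_mem_H (mem_fin.1 h1')),
            (hsconj c (mem_fin.1 h1')).2 ?_⟩
          rcases T.perm c (mem_fin.1 h1') with p | p
          · exact absurd (fun x hx => (p x hx).1) h2'
          · exact fun x hx => (p x hx).1
        · obtain ⟨h1', h2'⟩ := mem_filter.1 hc
          have hm' : C.s⁻¹ * c ∈ C.H := mul_mem (inv_mem C.s_mem_H) (mem_fin.1 h1')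
          refine ⟨C.s⁻¹ * c, mem_filter.2 ⟨mem_fin.2 hm', fun hf => ?_⟩, mul_inv_cancel_left _ _⟩
          exact hne' _ hm' ⟨hf, (hsconj _ hm').1 (by rwa [mul_inv_cancel_left])⟩
      rw [← card_filter_add_card_filter_not (s := fin C.H) fx, hc, mul_two]
    rw [card_fin, C.card_H, hn] at hcnt
    have hfx : (((fin C.H).filter fx).card : ℂ) = 4 * (Nat.card C.U : ℂ) := by
      have : ((fin C.H).filter fx).card = 4 * Nat.card C.U := by omega
      rw [this]; push_cast; rfl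
    rw [hfx] at h
    simp only [hW, map_intCast] at h
    have hU := C.card_U_ne
    rw [show (Nat.card C.U : ℂ)⁻¹ * (Nat.card C.U : ℂ)⁻¹ *
      ((Nat.card C.U : ℂ) * (4 * (Nat.card C.U : ℂ))) = 4 by field_simp] at h
    exact_mod_cast h
  · have h := C.sum_deg_cV T.nu hzP C.inv_z.2
    simp only [hW, (irr_one _).1] at h
    simp only [mul_comm (charDegree _ : ℤ)]
    exact_mod_cast h
  · have hh : 2 ^ (C.n - 2) = 2 := by rw [hn]; rfl
    by_cases hl2 : l = 2
    · subst hl2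
      have hz : C.s ^ 2 = C.z := by rw [z, hh]
      rw [hz]
      simp only [← hW]
      rw [C.gram_raw T.lin (g := C.z) (g' := C.z) Data.z_mem_zpowers C.inv_z.2 Data.z_mem_zpowers,
        sum_eq_zero, mul_zero]
      intro c hc
      have hcz : Commute c C.z := C.mem_H.1 (mem_fin.1 hc)
      rw [if_pos (by rw [(C.mem_H.1 (C.pr_mem_H c)).eq, mul_inv_cancel_right]),
        sum_congr rfl fun x hx => show T.nu x⁻¹ * lam (C.z⁻¹ * (c * (C.z * x) * c⁻¹)) =
          T.nu x⁻¹ * lam x by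
          rw [← mul_assoc c C.z, hcz.eq,
            show C.z⁻¹ * (C.z * c * x * c⁻¹) = c * x * c⁻¹ by group,
            T.inv c (mem_fin.1 hc) x (mem_fin.1 hx)],
        T.lin₁.sum_mul T.lin le_rfl, if_neg fun h => h1 fun d hd => (h d (hUD hd)).symm]
    · simp only [← hW]
      have hzp : C.z = C.s ^ 2 := by rw [z, hh]
      have hord : orderOf C.s = 4 := by rw [C.data.ordσ, hn]; rfl
      have hne : C.s ^ l ≠ C.z := fun e => hl2 (pow_injOn_Iio_orderOf (by rw [Set.mem_Iio, hord]; omega)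
        (by rw [Set.mem_Iio, hord]; omega) (e.trans hzp))
      exact C.gram_zero T.lin Data.z_mem_zpowers C.inv_z.2 (Subgroup.npow_mem_zpowers _ _) hne
        (by rw [C.inv_z.inv_eq]; exact hne)
  · -- the values
    obtain ⟨k₀, k₁, k₂, hk⟩ := T.exists_span T₂ hT₂ χ hV
    have horth : ∀ ψ : G → ℂ, IsLin C ψ → C.cV ψ (χ : G → ℂ) C.z * (Nat.card C.U : ℂ) =
        k₀ * ∑ x ∈ fin C.U, ψ x⁻¹ * lam x + k₁ * ∑ x ∈ fin C.U, ψ x⁻¹ * T.nu x +
          k₂ * ∑ x ∈ fin C.U, ψ x⁻¹ * T.nu' x := by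
      intro ψ _
      rw [mul_comm, C.card_mul_cV, mul_sum, mul_sum, mul_sum, ← sum_add_distrib, ← sum_add_distrib]
      exact sum_congr rfl fun x hx => by rw [hk x (mem_fin.1 hx)]; ring
    have e0 := horth lam T.lin
    have e1 := horth T.nu T.lin₁
    have e2 := horth T.nu' T.lin₂
    have g1 : ¬ ∀ x ∈ C.U, lam x = T.nu x := fun h => h1 fun d hd => h d (hUD hd)
    have g2 : ¬ ∀ x ∈ C.U, lam x = T.nu' x := fun h => h2 fun d hd => h d (hUD hd)
    have g3 : ¬ ∀ x ∈ C.U, T.nu x = T.nu' x := fun h => h3 fun d hd => h d (hUD hd)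
    rw [T.lin.sum_mul T.lin le_rfl, T.lin.sum_mul T.lin₁ le_rfl, T.lin.sum_mul T.lin₂ le_rfl,
      if_pos fun _ _ => rfl, if_neg g1, if_neg g2, mul_zero, mul_zero, add_zero, add_zero] at e0
    rw [T.lin₁.sum_mul T.lin le_rfl, T.lin₁.sum_mul T.lin₁ le_rfl, T.lin₁.sum_mul T.lin₂ le_rfl,
      if_neg fun h => g1 fun x hx => (h x hx).symm, if_pos fun _ _ => rfl, if_neg g3, mul_zero,
      mul_zero, zero_add, add_zero] at e1
    rw [T.lin₂.sum_mul T.lin le_rfl, T.lin₂.sum_mul T.lin₁ le_rfl, T.lin₂.sum_mul T.lin₂ le_rfl,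
      if_neg fun h => g2 fun x hx => (h x hx).symm,
      if_neg fun h => g3 fun x hx => (h x hx).symm, if_pos fun _ _ => rfl, mul_zero,
      mul_zero, zero_add, zero_add, hW' χ C.z hsz] at e2
    have k0 := mul_right_cancel₀ C.card_U_ne e0
    have k1 := mul_right_cancel₀ C.card_U_ne e1
    have k2 := mul_right_cancel₀ C.card_U_ne e2
    refine ⟨?_, fun v hv => ?_⟩
    · have h0 := hk 1 (one_mem _)
      rw [mul_one, T.lin.one, T.lin₁.one, T.lin₂.one, ← k0, ← k1, ← k2, hW χ] at h0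
      rw [h0]; ring
    · -- parity through `t`
      obtain ⟨k', hk'⟩ := hpair T.nu' T.lin₂ C.t C.inv_t C.data.τ_mem
        (fun x hx => by rw [conj_invol_eq C.inv_t.1, T.fix₂ x hx]) χ
      have hT' : C.cV T.nu' (χ : G → ℂ) C.t = C.cV lam (χ : G → ℂ) C.z := by
        refine mul_left_cancel₀ C.card_U_ne ?_
        rw [C.card_mul_cV]
        let F : G → ℂ := fun g => (χ : G → ℂ) g * T.nu' (C.t * g)⁻¹
        have hFx : ∀ x, F (C.t * x) = (χ : G → ℂ) (C.t * x) * T.nu' x⁻¹ := fun x => by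
          simp only [F, ← mul_assoc, C.inv_t.1, one_mul]
        have hF : ∀ w ∈ C.U, ∀ x ∈ C.U, F (w * (C.t * x) * w⁻¹) = F (C.t * x) := by
          intro w hw x hx
          simp only [F]
          rw [isClassFunction_irr χ]
          congr 1
          have htw : C.t * w * C.t ∈ C.U := by
            rw [← conj_invol_eq C.inv_t.1]; exact conj_mem (C.H_le_normalizer_U C.t_mem_H) hw
          have e : (C.t * (w * (C.t * x) * w⁻¹))⁻¹ = w * x⁻¹ * (C.t * w * C.t)⁻¹ := by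
            simp only [mul_assoc, _root_.mul_inv_rev, inv_inv, C.inv_t.inv_eq]
          rw [e, T.lin₂.mul (mul_mem hw (inv_mem hx)) (inv_mem htw), T.lin₂.mul hw (inv_mem hx),
            ← T.lin₂.conj_eq htw, T.fix₂ w hw, T.lin₂.conj_eq hw, ← mul_assoc C.t C.t x, C.inv_t.1,
            one_mul, mul_right_comm, mul_comm (T.nu' w), T.lin₂.inv_mul hw, one_mul]
        have hsum := C.sum_tU F hF
        simp only [hFx] at hsum
        have hr : ∀ d ∈ C.D1, C.t * d = T.r * (C.z * (T.r⁻¹ * d * T.r)) * T.r⁻¹ := fun d _ => by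
          rw [← T.hz]; group
        have hd : ∑ d ∈ fin C.D1, (χ : G → ℂ) (C.t * d) * T.nu' d⁻¹ =
            C.cV lam (χ : G → ℂ) C.z * Nat.card C.D1 := by
          rw [sum_congr rfl fun d hd => show (χ : G → ℂ) (C.t * d) * T.nu' d⁻¹ =
              (fun e => (χ : G → ℂ) (C.z * e) * lam e⁻¹) (T.r⁻¹ * d * T.r) by
            have hd' := mem_fin.1 hd
            have he := C.conj_mem_D1' T.hz T.ht hd'
            beta_reduce
            rw [hr d hd', isClassFunction_irr χ, T.rot₃ _ (inv_mem he)]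
            congr 2
            group]
          rw [sum_bij (t := fin C.D1) (g := fun e => (χ : G → ℂ) (C.z * e) * lam e⁻¹)
            (fun d _ => T.r⁻¹ * d * T.r)
            (fun d hd => mem_fin.2 (C.conj_mem_D1' T.hz T.ht (mem_fin.1 hd)))
            (fun a _ b _ e => mul_left_cancel (mul_right_cancel e))
            (fun e he => ⟨T.r * e * T.r⁻¹, mem_fin.2 (C.conj_mem_D1 T.hz (C.cycle_third T.hz T.ht)
              (mem_fin.1 he)), by group⟩) fun _ _ => rfl,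
            sum_congr rfl fun e he => show (χ : G → ℂ) (C.z * e) * lam e⁻¹ =
              k₀ * (lam e⁻¹ * lam e) + k₁ * (lam e⁻¹ * T.nu e) + k₂ * (lam e⁻¹ * T.nu' e) by
                rw [hk e (hUD (mem_fin.1 he))]; ring,
            sum_add_distrib, sum_add_distrib, ← mul_sum, ← mul_sum, ← mul_sum,
            T.lin.sum_mul T.lin hUD, T.lin.sum_mul T.lin₁ hUD, T.lin.sum_mul T.lin₂ hUD,
            if_pos fun _ _ => rfl, if_neg h1, if_neg h2, ← k0]
          ring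
        rw [hd] at hsum
        refine mul_left_cancel₀ (Nat.cast_ne_zero.2 (Nat.card_pos (α := C.D1)).ne' :
          (Nat.card C.D1 : ℂ) ≠ 0) ?_
        rw [hsum]; ring
      rw [hT', hv, hW' χ 1 (by rw [mul_one, mul_inv_cancel]), hmm χ] at hk'
      refine ⟨(k χ : ℤ) - k', ?_⟩
      have : ((m χ : ℤ) + v : ℤ) = 2 * (k' : ℤ) := by exact_mod_cast hk'
      show 2 * (k χ : ℤ) - m χ - v = 2 * ((k χ : ℤ) - k')
      omega

end CfsgLib.GW.Eight.Ctx
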